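import Mathlib

/-!
Certificates for coset enumerations: packed data and the Boolean checks.

A certificate lists nodes (each one a word, given by its parent and last letter), facts
"node `u` times letter `g` is node `v` modulo the subgroup", each justified by earlier facts, and
the final coset table together with the fact proving each of its entries. The letter `K` is the
empty letter.
-/

set_option autoImplicit false

namespace CfsgLib.CosetEnum

/-!
The functions that the kernel evaluates are written with recursors and primitive operations on
numbers: this makes the checks about ten times faster.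
-/

/-- A table of packed numbers, indexed by low bits. -/
inductive PTab where
  | leaf (p : ℕ)
  | node (l r : PTab)

/-- Apply a function to an evaluated number (keeps the kernel from duplicating the argument). -/
noncomputable def strict {α : Type} (x : ℕ) (f : ℕ → α) : α :=
  Nat.rec (f (nat_lit 0)) (fun n _ => f (Nat.succ n)) x

theorem strict_eq {α : Type} (x : ℕ) (f : ℕ → α) : strict x f = f x := by cases x <;> rfl

/-- Choice by a Boolean. -/
noncomputable def pick {α : Type} (c : Bool) (t e : α) : α := Bool.rec e t c

@[simp] theorem pick_true {α : Type} (t e : α) : pick true t e = t := rfl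

@[simp] theorem pick_false {α : Type} (t e : α) : pick false t e = e := rfl

/-- Conjunction for checks. -/
noncomputable def band (a b : Bool) : Bool := pick a b false

theorem band_eq_true {a b : Bool} : band a b = true ↔ a = true ∧ b = true := by
  cases a <;> simp [band]

/-- Strict comparison. -/
noncomputable def ltB (a b : ℕ) : Bool := Nat.ble (Nat.succ a) b

theorem ltB_iff {a b : ℕ} : ltB a b = true ↔ a < b := by
  exact ⟨fun h => Nat.le_of_ble_eq_true h, fun h => Nat.ble_eq_true_of_le h⟩

/-- Entry `i` of a table of `w`-bit numbers. -/
noncomputable def PTab.get (t : PTab) : ℕ → ℕ → ℕ :=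
  PTab.rec (fun p w i => Nat.mod (Nat.shiftRight p (Nat.mul w i)) (Nat.pow (nat_lit 2) w))
    (fun _ _ a b w i =>
      Nat.rec (a w) (fun _ _ => b w) (Nat.mod i (nat_lit 2)) (Nat.div i (nat_lit 2))) t

/-- Entry `i`, with the index evaluated first. -/
noncomputable def PTab.at' (t : PTab) (w i : ℕ) : ℕ := strict i fun j => t.get w j

/-- All of `f base, …, f (base + 2^k - 1)`. -/
noncomputable def allUp (f : ℕ → Bool) (k : ℕ) : ℕ → Bool :=
  Nat.rec f (fun k ih base =>
    strict base fun b => band (ih b) (ih (Nat.add b (Nat.pow (nat_lit 2) k)))) k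

theorem allUp_spec {f : ℕ → Bool} : ∀ {k base : ℕ}, allUp f k base = true →
    ∀ i, base ≤ i → i < base + 2 ^ k → f i = true
  | 0, base, h, i, h1, h2 => by
    obtain rfl : i = base := by simp at h2; omega
    exact h
  | k + 1, base, h, i, h1, h2 => by
    change strict base (fun b => band (allUp f k b) (allUp f k (b + 2 ^ k))) = true at h
    rw [strict_eq, band_eq_true] at h
    rw [pow_succ] at h2
    by_cases hi : i < base + 2 ^ k
    · exact allUp_spec h.1 i h1 hi
    · exact allUp_spec h.2 i (by omega) (by omega)

/-- Entry `i` of a list of numbers, with a default. -/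
noncomputable def nth (l : List ℕ) (i d : ℕ) : ℕ :=
  List.rec (fun _ => d) (fun x _ ih i => Nat.rec x (fun n _ => ih n) i) l i

theorem nth_eq (l : List ℕ) (i d : ℕ) : nth l i d = l.getD i d := by
  induction l generalizing i with
  | nil => rfl
  | cons x l ih => cases i with | zero => rfl | succ n => exact ih n

/-- Entry `i` of a list of words. -/
noncomputable def nthWord (l : List (List ℕ)) (i : ℕ) : List ℕ :=
  List.rec (fun _ => []) (fun x _ ih i => Nat.rec x (fun n _ => ih n) i) l i

theorem nthWord_eq (l : List (List ℕ)) (i : ℕ) : nthWord l i = l.getD i [] := by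
  induction l generalizing i with
  | nil => rfl
  | cons x l ih => cases i with | zero => rfl | succ n => exact ih n

/-- Rotation of a word. -/
noncomputable def rotW (r : List ℕ) (b : ℕ) : List ℕ :=
  List.rec (fun acc _ => acc.reverse)
    (fun x xs ih acc b => Nat.rec ((x :: xs) ++ acc.reverse) (fun n _ => ih (x :: acc) n) b) r [] b

theorem rotW_eq (r : List ℕ) (b : ℕ) : rotW r b = r.drop b ++ r.take b := by
  suffices h : ∀ (r acc : List ℕ) (b : ℕ),
      (List.rec (fun acc _ => acc.reverse)
        (fun x xs ih acc b => Nat.rec ((x :: xs) ++ acc.reverse) (fun n _ => ih (x :: acc) n) b) r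
          acc b : List ℕ) = r.drop b ++ acc.reverse ++ r.take b by
    simpa [rotW] using h r [] b
  intro r
  induction r with
  | nil => simp
  | cons x xs ih =>
    intro acc b
    cases b with
    | zero => simp
    | succ n => simpa using ih (x :: acc) n

/-- A coset enumeration certificate. -/
structure Cert where
  /-- number of letters -/
  K : ℕ
  /-- inverse letters -/
  invs : List ℕ
  /-- relators -/
  rels : List (List ℕ)
  /-- words generating the subgroup -/
  subs : List (List ℕ)
  /-- number of cosets -/
  N : ℕ
  /-- number of nodes -/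
  M : ℕ
  /-- number of facts -/
  F : ℕ
  /-- node ↦ parent * 32 + letter, 28 bits -/
  defs : PTab
  /-- fact records, 128 bits -/
  facts : PTab
  /-- references, 24 bits: 2 * fact + (1 if reversed) -/
  refs : PTab
  /-- coset table, 20 bits, index `i * K + g` -/
  tab : PTab
  /-- node of a coset, 24 bits -/
  nd : PTab
  /-- reference proving a table entry, 24 bits -/
  edge : PTab
  /-- coset of a node, 20 bits -/
  img : PTab

namespace Cert

variable (C : Cert)

/-- inverse of a letter -/
def inv (g : ℕ) : ℕ := C.invs.getD g g

/-- formal inverse of a word -/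
def revInv (w : List ℕ) : List ℕ := (w.map C.inv).reverse

/-- the relators and their formal inverses -/
def allRels : List (List ℕ) := C.rels ++ C.rels.map C.revInv

/-- inverse of a letter, for evaluation -/
noncomputable def invK (g : ℕ) : ℕ := nth C.invs g g

theorem invK_eq (g : ℕ) : C.invK g = C.inv g := nth_eq _ _ _

/-- a relator or the inverse of one -/
noncomputable def relWord (a : ℕ) : List ℕ :=
  pick (ltB a C.rels.length) (nthWord C.rels a)
    (C.revInv (nthWord C.rels (Nat.sub a C.rels.length)))

/-- parent of a node -/
noncomputable def par (n : ℕ) : ℕ := Nat.div (C.defs.at' (nat_lit 28) n) (nat_lit 32)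

/-- last letter of a node -/
noncomputable def lett (n : ℕ) : ℕ := Nat.mod (C.defs.at' (nat_lit 28) n) (nat_lit 32)

end Cert

/-- start field of a record -/
noncomputable def uOf (r : ℕ) : ℕ := Nat.mod r (nat_lit 4194304)

/-- letter field of a record -/
noncomputable def gOf (r : ℕ) : ℕ := Nat.mod (Nat.div r (nat_lit 4194304)) (nat_lit 32)

/-- end field of a record -/
noncomputable def vOf (r : ℕ) : ℕ := Nat.mod (Nat.div r (nat_lit 134217728)) (nat_lit 4194304)

/-- rule field of a record -/
noncomputable def ruleOf (r : ℕ) : ℕ :=
  Nat.mod (Nat.shiftRight r (nat_lit 49)) (nat_lit 4)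

/-- first parameter of a record -/
noncomputable def aOf (r : ℕ) : ℕ := Nat.mod (Nat.shiftRight r (nat_lit 51)) (nat_lit 1024)

/-- second parameter of a record -/
noncomputable def bOf (r : ℕ) : ℕ := Nat.mod (Nat.shiftRight r (nat_lit 61)) (nat_lit 1024)

/-- seam of a record -/
noncomputable def sOf (r : ℕ) : ℕ := Nat.mod (Nat.shiftRight r (nat_lit 71)) (nat_lit 1024)

/-- first reference of a record -/
noncomputable def offOf (r : ℕ) : ℕ := Nat.mod (Nat.shiftRight r (nat_lit 81)) (nat_lit 1073741824)

/-- number of references of a record -/
noncomputable def lenOf (r : ℕ) : ℕ := Nat.shiftRight r (nat_lit 111)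

namespace Cert

variable (C : Cert)

/-- fact record `i` -/
noncomputable def frec (i : ℕ) : ℕ := C.facts.at' (nat_lit 128) i

/-- start of fact `i` -/
noncomputable def fU (i : ℕ) : ℕ := uOf (C.frec i)

/-- letter of fact `i` -/
noncomputable def fG (i : ℕ) : ℕ := gOf (C.frec i)

/-- end of fact `i` -/
noncomputable def fV (i : ℕ) : ℕ := vOf (C.frec i)

/-- fact of a reference -/
noncomputable def refId (e : ℕ) : ℕ := Nat.div e (nat_lit 2)

/-- whether a reference goes forward -/
noncomputable def refFwd (e : ℕ) : Bool := Nat.beq (Nat.mod e (nat_lit 2)) (nat_lit 0)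

/-- start of a reference -/
noncomputable def rU (e : ℕ) : ℕ := pick (refFwd e) (C.fU (refId e)) (C.fV (refId e))

/-- letter of a reference -/
noncomputable def rG (e : ℕ) : ℕ :=
  pick (refFwd e) (C.fG (refId e)) (C.invK (C.fG (refId e)))

/-- end of a reference -/
noncomputable def rV (e : ℕ) : ℕ := pick (refFwd e) (C.fV (refId e)) (C.fU (refId e))

/-- start, given the record -/
noncomputable def refU (e r : ℕ) : ℕ := pick (refFwd e) (uOf r) (vOf r)

/-- letter, given the record -/
noncomputable def refG (e r : ℕ) : ℕ := pick (refFwd e) (gOf r) (C.invK (gOf r))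

/-- end, given the record -/
noncomputable def refV (e r : ℕ) : ℕ := pick (refFwd e) (vOf r) (uOf r)

/-- read one letter of a word; `K` reads nothing -/
noncomputable def eat (g : ℕ) (w : List ℕ) : Option (List ℕ) :=
  pick (Nat.beq g C.K) (some w)
    (List.rec none (fun x xs _ => pick (Nat.beq x g) (some xs) none) w)

/-- follow references reading a word: end and rest of the word -/
noncomputable def follow (bound : ℕ) (es : List ℕ) : ℕ → List ℕ → Option (ℕ × List ℕ) :=
  List.rec (fun st w => some (st, w))
    (fun e₀ _ ih st w =>
      strict e₀ fun e => strict (C.frec (refId e)) fun r =>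
      pick (band (ltB (refId e) bound) (Nat.beq (refU e r) st))
        (Option.rec none (fun w' => ih (refV e r) w') (C.eat (C.refG e r) w))
        none) es

theorem follow_nil (bound st : ℕ) (w : List ℕ) : C.follow bound [] st w = some (st, w) := rfl

theorem follow_cons (bound e : ℕ) (es : List ℕ) (st : ℕ) (w : List ℕ) :
    C.follow bound (e :: es) st w =
      pick (band (ltB (refId e) bound) (Nat.beq (C.rU e) st))
        (Option.rec none (fun w' => C.follow bound es (C.rV e) w') (C.eat (C.rG e) w)) none := by
  unfold follow
  simp only [strict_eq]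
  rfl

/-- the word read by references, forgetting the nodes -/
noncomputable def letterList (es : List ℕ) : List ℕ :=
  List.rec [] (fun e₀ _ ih => strict e₀ fun e =>
    strict (C.refG e (C.frec (refId e))) fun g => pick (Nat.beq g C.K) ih (g :: ih)) es

/-- the references `off, …, off + len - 1` -/
noncomputable def refList (off len : ℕ) : List ℕ :=
  Nat.rec (fun _ => []) (fun _ ih off =>
    strict off fun o => C.refs.at' (nat_lit 24) o :: ih (Nat.succ o)) len off

/-- free cancellation -/
noncomputable def red (w : List ℕ) : List ℕ :=
  List.rec [] (fun x _ ih =>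
    List.rec [x] (fun y ys _ => pick (Nat.beq y (C.invK x)) ys (x :: y :: ys)) ih) w

/-- letters as words -/
noncomputable def gw (g : ℕ) : List ℕ := pick (Nat.beq g C.K) [] [g]

/-- a definition: a new node -/
noncomputable def defStep (u g v : ℕ) : Bool :=
  band (ltB u v) (band (Nat.beq (C.par v) u) (Nat.beq (C.lett v) g))

/-- a composition: a path whose word reduces to the letter -/
noncomputable def compStep (i r u g v : ℕ) : Bool :=
  let es := C.refList (offOf r) (lenOf r)
  let w := C.letterList es
  Option.rec false (fun q : ℕ × List ℕ =>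
      band (Nat.beq q.1 v) (band q.2.isEmpty (C.red w == C.gw g)))
    (C.follow i es u w)

/-- a relator scan -/
noncomputable def relStep (i r u g v : ℕ) : Bool :=
  Option.rec false (fun w =>
      Option.rec false (fun q : ℕ × List ℕ => band (Nat.beq q.1 u) q.2.isEmpty)
        (C.follow i (C.refList (offOf r) (lenOf r)) v w))
    (C.eat g (rotW (C.relWord (aOf r)) (bOf r)))

/-- a scan of a subgroup generator, through node `0` -/
noncomputable def subStep (i r u g v : ℕ) : Bool :=
  let es := C.refList (offOf r) (lenOf r)
  Option.rec false (fun q₂ : ℕ × List ℕ =>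
      Option.rec false (fun w =>
          Option.rec false (fun q₁ : ℕ × List ℕ =>
              band (Nat.beq q₁.1 0) (band q₁.2.isEmpty (Nat.beq q₂.1 u)))
            (C.follow i (es.take (sOf r)) v w))
        (C.eat g q₂.2))
    (pick (ltB (aOf r) C.subs.length)
      (C.follow i (es.drop (sOf r)) 0 (nthWord C.subs (aOf r))) none)

/-- the check of fact `i` -/
noncomputable def stepOK (i : ℕ) : Bool :=
  strict i fun i =>
  strict (C.frec i) fun r =>
  strict (uOf r) fun u =>
  strict (gOf r) fun g =>
  strict (vOf r) fun v =>
  strict (ruleOf r) fun rule =>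
  pick (Nat.beq rule (nat_lit 2)) (C.relStep i r u g v)
    (pick (Nat.beq rule (nat_lit 1)) (C.compStep i r u g v)
      (pick (Nat.beq rule (nat_lit 0)) (C.defStep u g v) (C.subStep i r u g v)))

/-- the check of fact `i`, or nothing beyond the last fact -/
noncomputable def stepOK' (i : ℕ) : Bool :=
  strict i fun i => pick (ltB i C.F) (C.stepOK i) true

/-- the coset table -/
noncomputable def T (i g : ℕ) : ℕ := C.tab.at' (nat_lit 20) (Nat.add (Nat.mul i C.K) g)

/-- all of `f 0, …, f (n - 1)` -/
noncomputable def allBelow (n : ℕ) (f : ℕ → Bool) : Bool :=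
  Nat.rec true (fun k ih => band ih (f k)) n

/-- the check of entry `i` -/
noncomputable def entryOK (i : ℕ) : Bool :=
  strict i fun i => allBelow C.K fun g =>
    strict (C.edge.at' (nat_lit 24) (Nat.add (Nat.mul i C.K) g)) fun e =>
    strict (C.frec (refId e)) fun r =>
    strict (C.T i g) fun t =>
    band (ltB (refId e) C.F) (band (ltB t C.N) (band (Nat.beq (C.refG e r) g)
      (band (Nat.beq (refU e r) (C.nd.at' (nat_lit 24) i))
        (Nat.beq (refV e r) (C.nd.at' (nat_lit 24) t)))))

/-- the check of entry `i`, or nothing beyond the last coset -/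
noncomputable def entryOK' (i : ℕ) : Bool :=
  strict i fun i => pick (ltB i C.N) (C.entryOK i) true

/-- the global conditions -/
noncomputable def headOK : Bool :=
  decide (0 < C.N) && Nat.beq (C.nd.at' (nat_lit 24) 0) 0 && decide (C.K ≤ C.invs.length) &&
    Nat.beq (C.inv C.K) C.K && (List.range C.K).all fun g => Nat.blt (C.inv g) C.K

/-- follow a word through the table -/
noncomputable def run (x : ℕ) (w : List ℕ) : ℕ :=
  List.rec (fun x => x) (fun g _ ih x => strict x fun y => ih (C.T y g)) w x

theorem run_nil (x : ℕ) : C.run x [] = x := rfl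

theorem run_cons (x g : ℕ) (w : List ℕ) : C.run x (g :: w) = C.run (C.T x g) w := by
  unfold run
  simp only [strict_eq]

/-- all the words fix a point -/
noncomputable def fixAll (ws : List (List ℕ)) (x : ℕ) : Bool :=
  List.rec true (fun r _ ih => band (Nat.beq (C.run x (C.revInv r)) x) ih) ws

/-- coset `x` is fixed by the relators, and the letters act as permutations there -/
noncomputable def actOK (x : ℕ) : Bool :=
  strict x fun x => band
    (allBelow C.K fun g => strict (C.T x g) fun t =>
      band (ltB t C.N) (Nat.beq (C.T t (C.invK g)) x))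
    (C.fixAll C.rels x)

/-- the check of coset `x`, or nothing beyond the last coset -/
noncomputable def actOK' (x : ℕ) : Bool := strict x fun x => pick (ltB x C.N) (C.actOK x) true

/-- node `n` lies over coset `img n` -/
noncomputable def imgOK (n : ℕ) : Bool :=
  strict n fun n => strict (C.par n) fun p =>
  pick (Nat.beq n 0) (Nat.beq (C.img.at' (nat_lit 20) n) 0)
    (pick (band (ltB p n) (ltB (C.lett n) C.K))
      (Nat.beq (C.img.at' (nat_lit 20) n) (C.T (C.img.at' (nat_lit 20) p) (C.lett n))) false)

/-- the check of node `n`, or nothing beyond the last node -/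
noncomputable def imgOK' (n : ℕ) : Bool := strict n fun n => pick (ltB n C.M) (C.imgOK n) true

/-- cosets sit over themselves, and the subgroup fixes coset `0` -/
noncomputable def ndOK : Bool :=
  (C.subs.all fun w => Nat.beq (C.run 0 (C.revInv w)) 0 && w.all fun g => Nat.blt g C.K) &&
    C.rels.all fun w => w.all fun g => Nat.blt g C.K

/-- node of coset `i` lies over `i` -/
noncomputable def ndImgOK' (i : ℕ) : Bool :=
  strict i fun i => pick (ltB i C.N)
    (strict (C.nd.at' (nat_lit 24) i) fun n =>
      band (ltB n C.M) (Nat.beq (C.img.at' (nat_lit 20) n) i)) true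

theorem allBelow_spec {n : ℕ} {f : ℕ → Bool} (h : allBelow n f = true) : ∀ k < n, f k = true := by
  induction n with
  | zero => exact fun k hk => absurd hk (Nat.not_lt_zero k)
  | succ n ih =>
    change band (allBelow n f) (f n) = true at h
    rw [band_eq_true] at h
    intro k hk
    rcases Nat.lt_succ_iff_lt_or_eq.mp hk with hk | rfl
    · exact ih h.1 k hk
    · exact h.2

theorem fixAll_spec {ws : List (List ℕ)} {x : ℕ} (h : C.fixAll ws x = true) :
    ∀ r ∈ ws, C.run x (C.revInv r) = x := by
  induction ws with
  | nil => simp
  | cons r ws ih =>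
    change band _ (C.fixAll ws x) = true at h
    rw [band_eq_true] at h
    intro r' hr'
    rcases List.mem_cons.mp hr' with rfl | hr'
    · exact Nat.eq_of_beq_eq_true h.1
    · exact ih h.2 r' hr'

end Cert

end CfsgLib.CosetEnum
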