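import Cfsg.Agent.Lib.CosetEnum.Chain

/-!
Packaging: chunked checks, subgroups generated by some letters, and simplicity.
-/

set_option autoImplicit false

namespace CfsgLib.CosetEnum

variable {G : Type*} [Group G]

/-- From the chunked Boolean checks to completeness. -/
theorem Cert.complete_of (C : Cert) (k₁ k₂ : ℕ) (h0 : C.headOK = true)
    (h1 : allUp C.stepOK' k₁ 0 = true) (hF : C.F ≤ 2 ^ k₁)
    (h2 : allUp C.entryOK' k₂ 0 = true) (hN : C.N ≤ 2 ^ k₂) : C.Complete where
  head := h0
  step i hi := by
    have h := allUp_spec h1 i (Nat.zero_le _) (by omega)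
    unfold Cert.stepOK' at h
    simp only [strict_eq] at h
    rwa [show ltB i C.F = true from ltB_iff.mpr hi, pick_true] at h
  entry i hi := by
    have h := allUp_spec h2 i (Nat.zero_le _) (by omega)
    unfold Cert.entryOK' at h
    simp only [strict_eq] at h
    rwa [show ltB i C.N = true from ltB_iff.mpr hi, pick_true] at h

/-- From the chunked Boolean checks to an action. -/
theorem Cert.isAction_of (C : Cert) (k₁ k₂ : ℕ) (h0 : C.ndOK = true)
    (h0' : ((List.range C.K).all fun g => Nat.beq (C.inv (C.inv g)) g) = true)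
    (h1 : allUp C.actOK' k₂ 0 = true) (h2 : allUp C.ndImgOK' k₂ 0 = true) (hN : C.N ≤ 2 ^ k₂)
    (h3 : allUp C.imgOK' k₁ 0 = true) (hM : C.M ≤ 2 ^ k₁) : C.IsAction where
  act i hi := by
    have h := allUp_spec h1 i (Nat.zero_le _) (by omega)
    unfold Cert.actOK' at h
    simp only [strict_eq] at h
    rwa [show ltB i C.N = true from ltB_iff.mpr hi, pick_true] at h
  nodes n hn := by
    have h := allUp_spec h3 n (Nat.zero_le _) (by omega)
    unfold Cert.imgOK' at h
    simp only [strict_eq] at h
    rwa [show ltB n C.M = true from ltB_iff.mpr hn, pick_true] at h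
  ndImg i hi := allUp_spec h2 i (Nat.zero_le _) (by omega)
  sub := h0
  inv_inv := h0'

/-- The letters `0, …, k - 1` of a list of generators, trivial beyond. -/
def genOf {α : Type*} (l : List α) (f : α → G) (g : ℕ) : G :=
  if h : g < l.length then f l[g] else 1

theorem genOf_of_lt {α : Type*} {l : List α} {f : α → G} {g : ℕ} (h : g < l.length) :
    genOf l f g = f l[g] := by simp [genOf, h]

theorem genOf_of_ge {α : Type*} {l : List α} {f : α → G} {g : ℕ} (h : l.length ≤ g) :
    genOf l f g = 1 := by simp [genOf, Nat.not_lt.mpr h]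

/-- The subgroup generated by some letters of `gen`. -/
def genSub (gen : ℕ → G) (k : ℕ) : Subgroup G := Subgroup.closure {y | ∃ g < k, gen g = y}

theorem closure_subs_le {gen : ℕ → G} {ws : List (List ℕ)} {k : ℕ}
    (h : (ws.all fun w => w.all fun g => Nat.blt g k) = true) :
    Subgroup.closure {y | ∃ w ∈ ws, prodW gen w = y} ≤ genSub gen k := by
  refine (Subgroup.closure_le _).mpr ?_
  rintro y ⟨w, hw, rfl⟩
  simp only [List.all_eq_true, Nat.blt_eq] at h
  refine Subgroup.list_prod_mem _ fun x hx => ?_
  obtain ⟨g, hg, rfl⟩ := List.mem_map.mp hx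
  exact Subgroup.subset_closure ⟨g, h w hw g hg, rfl⟩

/-- A certificate over the trivial subgroup: a word returning to the start is trivial. -/
theorem eq_one_of_run {C : Cert} (c : C.Complete) {gen : ℕ → G} (m : Model C (⊥ : Subgroup G) gen)
    {w : List ℕ} (hw : (w.all fun g => Nat.blt g C.K) = true) (h : Nat.beq (C.run 0 w) 0 = true) :
    prodW gen w = 1 := by
  simp only [List.all_eq_true, Nat.blt_eq] at hw
  exact Subgroup.mem_bot.mp (mem_of_run_eq_zero c m hw (Nat.eq_of_beq_eq_true h))

/-- A one-coset certificate with an added relator: its normal closure is everything. -/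
theorem eq_top_of_cert {C : Cert} (c : C.Complete) (hN : C.N = 1) (hsubs : C.subs = [])
    {gen : ℕ → G} (N : Subgroup G) [N.Normal] (hK : gen C.K = 1)
    (hinv : ∀ g, gen g * gen (C.inv g) = 1) (hrel : ∀ r ∈ C.rels, prodW gen r ∈ N)
    (htop : Subgroup.closure {y | ∃ g < C.K, gen g = y} = ⊤) : N = ⊤ := by
  have m : Model C (⊥ : Subgroup (G ⧸ N)) (fun g => (gen g : G ⧸ N)) :=
    { gen_K := by simp [hK]
      inv_mul := fun g => by rw [← QuotientGroup.mk_mul, hinv, QuotientGroup.mk_one]
      rel := fun r hr => by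
        exact (map_prodW (QuotientGroup.mk' N) gen r).symm.trans
          ((QuotientGroup.eq_one_iff _).mpr (hrel r hr))
      sub := fun w hw => by simp [hsubs] at hw }
  rw [eq_top_iff, ← htop, Subgroup.closure_le]
  rintro y ⟨g, hg, rfl⟩
  obtain ⟨i, hi, h⟩ := exists_coset c m (x := (gen g : G ⧸ N))
    (Subgroup.subset_closure ⟨g, hg, rfl⟩)
  obtain rfl : i = 0 := by omega
  rw [coreRep, c.nd_zero, psi_zero, inv_one, mul_one, Subgroup.mem_bot,
    QuotientGroup.eq_one_iff] at h
  exact h

/-- Simplicity: a primitive faithful action of degree with full `p`-part, and a `p`-element whose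
normal closure is everything. -/
theorem Setup.isSimpleGroup {C : Cert} {H : Subgroup G} {gen : ℕ → G}
    {ρ : G →* Equiv.Perm (Fin C.N)} (s : Setup C H gen ρ) [Finite G] (hinj : Function.Injective ρ)
    (hG : 1 < Nat.card G) {ms : List ℕ} (so : Suborbits C ms) {p a k : ℕ} (hp : p.Prime)
    (ha : p ^ a ∣ C.N) (hmax : ¬ p ^ (a + 1) ∣ Nat.card G) {w : List ℕ}
    (hw : prodW gen w ^ p ^ k = 1) {D : Cert} (d : D.Complete) (hD : D.N = 1)
    (hDs : D.subs = []) (hDK : D.K = C.K) (hDi : D.invs = C.invs)
    (hDr : D.rels = C.rels ++ [w]) : IsSimpleGroup G := by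
  haveI : Nontrivial G := Finite.one_lt_card_iff_nontrivial.mp hG
  refine ⟨fun N hN => or_iff_not_imp_left.mpr fun hne => ?_⟩
  haveI := hN
  have hd := s.dvd_card_normal hinj so N hN hne
  have hwN := mem_of_ppart hp hN (ha.trans hd) hmax hw
  refine eq_top_of_cert d hD hDs N (by rw [hDK]; exact s.model.gen_K)
    (fun g => by
      have : D.inv g = C.inv g := by simp [Cert.inv, hDi]
      rw [this]; exact s.model.inv_mul g)
    (fun r hr => ?_) (by rw [hDK]; exact s.gen_top)
  rw [hDr, List.mem_append, List.mem_singleton] at hr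
  rcases hr with hr | rfl
  · rw [s.model.rel r hr]; exact one_mem N
  · exact hwN

end CfsgLib.CosetEnum
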