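import Cfsg.Agent.Lib.CosetEnum.Sound

/-!
The coset table as a permutation action, the index and the suborbits.
-/

set_option autoImplicit false

namespace CfsgLib.CosetEnum

/-- The checks making the table an action. -/
structure Cert.IsAction (C : Cert) : Prop where
  act : ∀ x < C.N, C.actOK x = true
  nodes : ∀ n < C.M, C.imgOK n = true
  ndImg : ∀ i < C.N, C.ndImgOK' i = true
  sub : C.ndOK = true
  inv_inv : ((List.range C.K).all fun g => Nat.beq (C.inv (C.inv g)) g) = true

variable {C : Cert}

theorem Cert.IsAction.T_lt (a : C.IsAction) {x g : ℕ} (hx : x < C.N) (hg : g < C.K) :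
    C.T x g < C.N ∧ C.T (C.T x g) (C.inv g) = x := by
  have h := a.act x hx
  unfold Cert.actOK at h
  simp only [strict_eq, band_eq_true] at h
  have h' := Cert.allBelow_spec h.1 g hg
  simp only [band_eq_true, ltB_iff, C.invK_eq] at h'
  exact ⟨h'.1, Nat.eq_of_beq_eq_true h'.2⟩

theorem Cert.IsAction.run_lt (a : C.IsAction) {w : List ℕ} {x : ℕ} (hx : x < C.N)
    (hw : ∀ g ∈ w, g < C.K) : C.run x w < C.N := by
  induction w generalizing x with
  | nil => exact hx
  | cons g w ih =>
    rw [List.forall_mem_cons] at hw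
    simpa [Cert.run_cons] using ih (a.T_lt hx hw.1).1 hw.2

theorem run_append (C : Cert) (v w : List ℕ) (x : ℕ) :
    C.run x (v ++ w) = C.run (C.run x v) w := by
  induction v generalizing x with
  | nil => rfl
  | cons g v ih => simp [Cert.run_cons, ih]

/-- The left action of a letter on the cosets. -/
noncomputable def letterPerm (c : C.Complete) (a : C.IsAction) (g : ℕ) :
    Equiv.Perm (Fin C.N) :=
  if hg : g < C.K then
    { toFun := fun x => ⟨C.T x (C.inv g), (a.T_lt x.2 (c.inv_lt hg)).1⟩
      invFun := fun x => ⟨C.T x g, (a.T_lt x.2 hg).1⟩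
      left_inv := fun x => by
        have h := (a.T_lt x.2 (c.inv_lt hg)).2
        have hi := a.inv_inv
        simp only [List.all_eq_true, List.mem_range] at hi
        rw [Nat.eq_of_beq_eq_true (hi g hg)] at h
        exact Fin.ext h
      right_inv := fun x => Fin.ext (a.T_lt x.2 hg).2 }
  else 1

theorem letterPerm_apply (c : C.Complete) (a : C.IsAction) {g : ℕ} (hg : g < C.K) (x : Fin C.N) :
    (letterPerm c a g x : ℕ) = C.T x (C.inv g) := by
  simp [letterPerm, hg]

theorem prodW_letterPerm (c : C.Complete) (a : C.IsAction) :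
    ∀ {w : List ℕ}, (∀ g ∈ w, g < C.K) → ∀ x : Fin C.N,
      (prodW (letterPerm c a) w x : ℕ) = C.run x (C.revInv w)
  | [], _, x => by simp [Cert.revInv, Cert.run_nil]
  | g :: w, hw, x => by
    rw [List.forall_mem_cons] at hw
    have e : C.revInv (g :: w) = C.revInv w ++ [C.inv g] := by simp [Cert.revInv]
    rw [e, run_append, ← prodW_letterPerm c a hw.2 x, prodW_cons, Equiv.Perm.mul_apply,
      letterPerm_apply c a hw.1]
    simp [Cert.run_cons, Cert.run_nil]

theorem prodW_letterPerm_rel (c : C.Complete) (a : C.IsAction) :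
    ∀ r ∈ C.rels, prodW (letterPerm c a) r = 1 := fun r hr => by
  refine Equiv.ext fun x => Fin.ext ?_
  have hl := a.sub
  simp only [Cert.ndOK, Bool.and_eq_true, List.all_eq_true, Nat.blt_eq] at hl
  rw [prodW_letterPerm c a (hl.2 r hr)]
  have h := a.act x x.2
  unfold Cert.actOK at h
  simp only [strict_eq, band_eq_true] at h
  exact C.fixAll_spec h.2 r hr

/-- A group generated by letters obeying the relators, with the table as an action. -/
structure Setup {G : Type*} [Group G] (C : Cert) (H : Subgroup G) (gen : ℕ → G)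
    (ρ : G →* Equiv.Perm (Fin C.N)) : Prop where
  complete : C.Complete
  action : C.IsAction
  model : Model C H gen
  gen_top : Subgroup.closure {y | ∃ g < C.K, gen g = y} = ⊤
  rho_gen : ∀ g < C.K, ρ (gen g) = letterPerm complete action g
  H_eq : H = Subgroup.closure {y | ∃ w ∈ C.subs, prodW gen w = y}

variable {G : Type*} [Group G] {H : Subgroup G} {gen : ℕ → G} {ρ : G →* Equiv.Perm (Fin C.N)}

/-- The base coset. -/
def Setup.base (s : Setup C H gen ρ) : Fin C.N := ⟨0, s.complete.N_pos⟩

theorem Setup.rho_prodW (s : Setup C H gen ρ) {w : List ℕ} (hw : ∀ g ∈ w, g < C.K) (x : Fin C.N) :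
    (ρ (prodW gen w) x : ℕ) = C.run x (C.revInv w) := by
  rw [map_prodW, prodW_congr (gen' := letterPerm s.complete s.action)
    (fun g hg => s.rho_gen g (hw g hg)), prodW_letterPerm _ _ hw]

theorem Setup.sub_lt (s : Setup C H gen ρ) {w : List ℕ} (hw : w ∈ C.subs) : ∀ g ∈ w, g < C.K := by
  have hl := s.action.sub
  simp only [Cert.ndOK, Bool.and_eq_true, List.all_eq_true, Nat.blt_eq] at hl
  exact (hl.1 w hw).2

theorem Setup.rho_fix (s : Setup C H gen ρ) {h : G} (hh : h ∈ H) : ρ h s.base = s.base := by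
  rw [s.H_eq] at hh
  induction hh using Subgroup.closure_induction with
  | mem y hy =>
    obtain ⟨w, hw, rfl⟩ := hy
    refine Fin.ext ?_
    rw [s.rho_prodW (s.sub_lt hw)]
    have hl := s.action.sub
    simp only [Cert.ndOK, Bool.and_eq_true, List.all_eq_true] at hl
    exact Nat.eq_of_beq_eq_true (hl.1 w hw).1
  | one => simp
  | mul x y _ _ hx hy => rw [map_mul, Equiv.Perm.mul_apply, hy, hx]
  | inv x _ hx => rw [map_inv, Equiv.Perm.inv_eq_iff_eq, hx]

theorem Setup.rho_psi_inv (s : Setup C H gen ρ) :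
    ∀ n < C.M, ((ρ (psi C gen n))⁻¹ s.base : ℕ) = C.img.at' 20 n := by
  intro n
  induction n using Nat.strong_induction_on with
  | _ n ih =>
    intro hn
    have h := s.action.nodes n hn
    unfold Cert.imgOK at h
    simp only [strict_eq] at h
    cases h0 : Nat.beq n 0
    · simp only [h0, pick_false] at h
      cases hp : band (ltB (C.par n) n) (ltB (C.lett n) C.K)
      · simp [hp] at h
      · simp only [hp, pick_true] at h
        simp only [band_eq_true, ltB_iff] at hp
        rw [psi_succ hp.1, map_mul, mul_inv_rev, Equiv.Perm.mul_apply,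
          Nat.eq_of_beq_eq_true h, ← ih _ hp.1 (hp.1.trans hn)]
        rw [s.rho_gen _ hp.2]
        simp [letterPerm, hp.2]
    · simp only [h0, pick_true] at h
      obtain rfl := Nat.eq_of_beq_eq_true h0
      rw [psi_zero]
      simp [Setup.base, Nat.eq_of_beq_eq_true h]

theorem Setup.rho_rep_inv (s : Setup C H gen ρ) (i : Fin C.N) :
    ρ (coreRep C gen i)⁻¹ s.base = i := by
  have h := s.action.ndImg i i.2
  unfold Cert.ndImgOK' at h
  simp only [strict_eq] at h
  rw [show ltB i C.N = true from ltB_iff.mpr i.2, pick_true, band_eq_true, ltB_iff] at h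
  refine Fin.ext ?_
  rw [map_inv, coreRep, s.rho_psi_inv _ h.1, Nat.eq_of_beq_eq_true h.2]

theorem Setup.exists_rep (s : Setup C H gen ρ) (x : G) :
    ∃ i : Fin C.N, x * (coreRep C gen i)⁻¹ ∈ H := by
  obtain ⟨i, hi, h⟩ := exists_coset s.complete s.model (x := x) (by rw [s.gen_top]; trivial)
  exact ⟨⟨i, hi⟩, h⟩

theorem Setup.mem_iff (s : Setup C H gen ρ) (x : G) : x ∈ H ↔ ρ x s.base = s.base := by
  refine ⟨fun h => s.rho_fix h, fun h => ?_⟩
  obtain ⟨i, hi⟩ := s.exists_rep x⁻¹
  have e : ρ (x⁻¹ * (coreRep C gen i)⁻¹)⁻¹ s.base = s.base := s.rho_fix (inv_mem hi)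
  rw [mul_inv_rev, inv_inv, inv_inv, map_mul, Equiv.Perm.mul_apply, h] at e
  have e2 := s.rho_rep_inv i
  rw [map_inv, Equiv.Perm.inv_eq_iff_eq, ← e] at e2
  obtain rfl : i = s.base := (ρ (coreRep C gen i)).injective e2.symm
  simpa [coreRep, Setup.base, s.complete.nd_zero, psi_zero] using hi

/-- The cosets are the points. -/
noncomputable def Setup.cosetMap (s : Setup C H gen ρ) : G ⧸ H → Fin C.N :=
  Quotient.lift (fun x => ρ x s.base) fun a b h => by
    replace h : a⁻¹ * b ∈ H := QuotientGroup.leftRel_apply.mp h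
    rw [s.mem_iff, map_mul, Equiv.Perm.mul_apply, map_inv,
      Equiv.Perm.inv_eq_iff_eq] at h
    exact h.symm

theorem Setup.cosetMap_mk (s : Setup C H gen ρ) (x : G) : s.cosetMap (x : G ⧸ H) = ρ x s.base :=
  rfl

theorem Setup.cosetMap_bij (s : Setup C H gen ρ) : Function.Bijective s.cosetMap := by
  constructor
  · intro a b h
    induction a using QuotientGroup.induction_on with
    | _ a =>
      induction b using QuotientGroup.induction_on with
      | _ b =>
        rw [s.cosetMap_mk, s.cosetMap_mk] at h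
        rw [QuotientGroup.eq, s.mem_iff, map_mul, Equiv.Perm.mul_apply, map_inv,
          Equiv.Perm.inv_eq_iff_eq, h]
  · exact fun i => ⟨((coreRep C gen i)⁻¹ : G), s.rho_rep_inv i⟩

theorem Setup.index_eq (s : Setup C H gen ρ) : H.index = C.N := by
  rw [Subgroup.index, Nat.card_eq_of_bijective _ s.cosetMap_bij, Nat.card_fin]

theorem Setup.cosetMap_smul (s : Setup C H gen ρ) (x : G) (q : G ⧸ H) :
    s.cosetMap (x • q) = ρ x (s.cosetMap q) := by
  induction q using QuotientGroup.induction_on with
  | _ q =>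
    rw [show x • (q : G ⧸ H) = ((x * q : G) : G ⧸ H) from rfl, s.cosetMap_mk, s.cosetMap_mk,
      map_mul]
    rfl

theorem Setup.pretransitive (s : Setup C H gen ρ) (i : Fin C.N) : ∃ x, ρ x s.base = i :=
  ⟨_, s.rho_rep_inv i⟩

/-! ### Suborbits -/

/-- the mask reached along a tree of (point, word number), if connected -/
noncomputable def reach (C : Cert) (ws : List (List ℕ)) : List (ℕ × ℕ) → ℕ → Option ℕ
  | [], m => some m
  | (x, i) :: es, m =>
    bif Nat.testBit m x && Nat.blt i ws.length then
      reach C ws es (m ||| 2 ^ C.run x (C.revInv (ws.getD i [])))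
    else none

/-- a mask is closed under the subgroup words -/
noncomputable def maskClosed (C : Cert) (m : ℕ) (x : ℕ) : Bool :=
  bif Nat.testBit m x && Nat.blt x C.N then
    C.subs.all fun w => Nat.testBit m (C.run x (C.revInv w))
  else true

/-- number of members of a mask below `n` -/
def popc (m : ℕ) : ℕ → ℕ
  | 0 => 0
  | n + 1 => popc m n + bif Nat.testBit m n then 1 else 0

theorem popc_eq (m n : ℕ) : popc m n = ((Finset.range n).filter fun x => m.testBit x).card := by
  induction n with
  | zero => rfl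
  | succ n ih =>
    rw [popc, ih, Finset.range_add_one, Finset.filter_insert]
    cases h : m.testBit n <;> simp [h]

theorem reach_spec {ws : List (List ℕ)} {P : ℕ → Prop}
    (hstep : ∀ x i, i < ws.length → P x → P (C.run x (C.revInv (ws.getD i [])))) :
    ∀ (es : List (ℕ × ℕ)) (m m' : ℕ), reach C ws es m = some m' →
      (∀ y, m.testBit y = true → P y) → ∀ y, m'.testBit y = true → P y
  | [], m, m', h, hm => by simp only [reach, Option.some.injEq] at h; exact h ▸ hm
  | (x, i) :: es, m, m', h, hm => by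
    unfold reach at h
    cases hc : (Nat.testBit m x && Nat.blt i ws.length)
    · simp [hc] at h
    · simp only [hc, cond_true] at h
      simp only [Bool.and_eq_true, Nat.blt_eq] at hc
      refine reach_spec hstep es _ m' h fun y hy => ?_
      rw [Nat.testBit_or, Bool.or_eq_true, Nat.testBit_two_pow, decide_eq_true_eq] at hy
      rcases hy with hy | hy
      · exact hm y hy
      · exact hy ▸ hstep x i hc.2 (hm x hc.1)

/-- A mask that is the subgroup's orbit of the point `r`. -/
structure Suborbit (C : Cert) (r m : ℕ) : Prop where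
  mem : r < C.N ∧ m.testBit r = true
  closed : ∀ x < C.N, maskClosed C m x = true
  tree : ∃ es, reach C C.subs es (2 ^ r) = some m

theorem Setup.orbit_sub (s : Setup C H gen ρ) {r m : ℕ} (o : Suborbit C r m) {h : G} (hh : h ∈ H)
    (x : Fin C.N) : m.testBit (ρ h x : ℕ) = m.testBit x := by
  rw [s.H_eq] at hh
  induction hh using Subgroup.closure_induction generalizing x with
  | mem y hy =>
    obtain ⟨w, hw, rfl⟩ := hy
    have key : ∀ z : Fin C.N, m.testBit z = true → m.testBit (ρ (prodW gen w) z : ℕ) = true := by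
      intro z hz
      rw [s.rho_prodW (s.sub_lt hw)]
      have := o.closed z z.2
      unfold maskClosed at this
      rw [show (Nat.testBit m z && Nat.blt z C.N) = true by simp [hz], cond_true,
        List.all_eq_true] at this
      exact this w hw
    set e := ρ (prodW gen w)
    cases hx : m.testBit x
    · by_contra hc
      rw [Bool.not_eq_false] at hc
      -- the members form a finite set mapped into itself, so onto itself
      let S : Finset (Fin C.N) := Finset.univ.filter fun z => m.testBit z = true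
      have hS : S.image e = S := by
        refine Finset.eq_of_subset_of_card_le ?_ ?_
        · intro z hz
          obtain ⟨z', hz', rfl⟩ := Finset.mem_image.mp hz
          simpa [S] using key z' (by simpa [S] using hz')
        · rw [Finset.card_image_of_injective _ e.injective]
      have : e x ∈ S.image e := by rw [hS]; simp [S, hc]
      rw [Finset.mem_image] at this
      obtain ⟨z, hz, he⟩ := this
      rw [e.injective he] at hz
      simp [S, hx] at hz
    · exact key x hx
  | one => simp
  | mul a b _ _ ha hb => rw [map_mul, Equiv.Perm.mul_apply, ha, hb]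
  | inv a _ ha =>
    have := ha ((ρ a)⁻¹ x)
    rw [map_inv]
    simpa using this.symm

theorem Setup.orbit_mem_iff (s : Setup C H gen ρ) {r m : ℕ} (o : Suborbit C r m) (x : Fin C.N) :
    (∃ h ∈ H, ρ h ⟨r, o.mem.1⟩ = x) ↔ m.testBit x = true := by
  constructor
  · rintro ⟨h, hh, rfl⟩
    rw [s.orbit_sub o hh]; exact o.mem.2
  · obtain ⟨es, hes⟩ := o.tree
    intro hx
    refine (reach_spec (P := fun y => ∃ hy : y < C.N, ∃ h ∈ H, ρ h ⟨r, o.mem.1⟩ = ⟨y, hy⟩)
      ?_ es _ m hes ?_ x hx).2
    · rintro y i hi ⟨hy, h, hh, e⟩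
      have hw : C.subs.getD i [] ∈ C.subs := by
        rw [List.getD_eq_getElem _ _ hi]; exact List.getElem_mem hi
      have hin : prodW gen (C.subs.getD i []) ∈ H := s.model.sub _ hw
      have ha := s.rho_prodW (s.sub_lt hw) ⟨y, hy⟩
      refine ⟨ha ▸ Fin.isLt _, prodW gen (C.subs.getD i []) * h, mul_mem hin hh, ?_⟩
      rw [map_mul, Equiv.Perm.mul_apply, e]
      exact Fin.ext ha
    · intro y hy
      rw [Nat.testBit_two_pow, decide_eq_true_eq] at hy
      subst hy
      exact ⟨o.mem.1, 1, one_mem _, by simp⟩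

/-- A suborbit as a set of cosets. -/
theorem Setup.exists_orbit (s : Setup C H gen ρ) {r m : ℕ} (o : Suborbit C r m) :
    ∃ q : G ⧸ H, s.cosetMap q = ⟨r, o.mem.1⟩ ∧ (MulAction.orbit H q).ncard = popc m C.N := by
  obtain ⟨q, hq⟩ := s.cosetMap_bij.2 ⟨r, o.mem.1⟩
  refine ⟨q, hq, ?_⟩
  have himg : s.cosetMap '' MulAction.orbit H q = {x : Fin C.N | m.testBit x = true} := by
    ext x
    rw [Set.mem_ofPred_eq, ← s.orbit_mem_iff o]
    constructor
    · rintro ⟨p, ⟨h, rfl⟩, rfl⟩
      exact ⟨h, h.2, by rw [← hq, ← s.cosetMap_smul]; rfl⟩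
    · rintro ⟨h, hh, e⟩
      refine ⟨(⟨h, hh⟩ : H) • q, ⟨_, rfl⟩, ?_⟩
      rw [show (⟨h, hh⟩ : H) • q = h • q from rfl, s.cosetMap_smul, hq, e]
  rw [← Set.ncard_image_of_injective _ s.cosetMap_bij.1, himg, popc_eq,
    Set.ncard_eq_toFinset_card', ← Finset.card_map Fin.valEmbedding]
  congr 1
  ext y
  simp only [Finset.mem_map, Set.mem_toFinset, Set.mem_ofPred_eq, Fin.valEmbedding_apply,
    Finset.mem_filter, Finset.mem_range]
  exact ⟨fun ⟨z, hz, e⟩ => e ▸ ⟨z.2, hz⟩, fun ⟨h1, h2⟩ => ⟨⟨y, h1⟩, h2, rfl⟩⟩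

end CfsgLib.CosetEnum
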