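import Cfsg.Agent.Lib.CosetEnum.Words

/-!
The images of the base points of a chain determine an element.
-/

set_option autoImplicit false

namespace CfsgLib.CosetEnum

variable {C : Cert}

/-- the base points of a chain -/
def chainBases (C : Cert) (ls : List Level) : List (Option (Fin C.N)) :=
  ls.map fun l => if h : l.base < C.N then some ⟨l.base, h⟩ else none

/-- the images of a list of points -/
def baseImages (bs : List (Option (Fin C.N))) (x : Equiv.Perm (Fin C.N)) :
    List (Option (Fin C.N)) :=
  bs.map (Option.map fun i => x i)

theorem chainSize_le_images (c : C.Complete) (a : C.IsAction) : ∀ {ls : List Level},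
    chainOK C ls = true →
      chainSize C ls ≤ Nat.card (baseImages (chainBases C ls) ''
        (chainGroup c a ls : Set (Equiv.Perm (Fin C.N))))
  | [], _ => by
    have : (baseImages (chainBases C []) '' (chainGroup c a [] : Set (Equiv.Perm (Fin C.N)))).Nonempty :=
      ⟨_, 1, one_mem _, rfl⟩
    rw [Nat.card_coe_set_eq]
    exact (Set.ncard_pos (Set.toFinite _)).mpr this
  | l :: ls, h => by
    classical
    have hlt := chainWords_lt h
    simp only [chainOK, Bool.and_eq_true, List.all_eq_true, Nat.blt_eq] at h
    obtain ⟨⟨⟨hb, ht⟩, hfix⟩, -, hok⟩ := h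
    have ih := chainSize_le_images c a hok
    set S := chainGroup c a (l :: ls)
    set S' := chainGroup c a ls
    set T := baseImages (chainBases C ls) '' (S' : Set (Equiv.Perm (Fin C.N)))
    set U := baseImages (chainBases C (l :: ls)) '' (S : Set (Equiv.Perm (Fin C.N)))
    have hle : S' ≤ S := by
      refine Subgroup.closure_mono ?_
      rintro y ⟨w, hw, e⟩
      exact ⟨w, by rw [chainWords, List.flatMap_cons]; exact List.mem_append.mpr (Or.inr hw), e⟩
    have hst : ∀ x ∈ S', x ⟨l.base, hb⟩ = ⟨l.base, hb⟩ := by
      intro x hx
      induction hx using Subgroup.closure_induction with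
      | mem y hy =>
        obtain ⟨w, hw, rfl⟩ := hy
        refine Fin.ext ?_
        rw [prodW_letterPerm c a (chainWords_lt hok w hw)]
        exact Nat.eq_of_beq_eq_true (hfix w hw)
      | one => simp
      | mul x y _ _ hx hy => rw [Equiv.Perm.mul_apply, hy, hx]
      | inv x _ hx => rw [Equiv.Perm.inv_eq_iff_eq, hx]
    cases hr : reach C (chainWords (l :: ls)) l.tree (2 ^ l.base) with
    | none => simp [hr] at ht
    | some m =>
      rw [hr] at ht
      obtain rfl := Nat.eq_of_beq_eq_true ht
      let O : Finset (Fin C.N) := Finset.univ.filter fun z => l.mask.testBit z = true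
      have hO : ∀ z ∈ O, ∃ t ∈ S, t ⟨l.base, hb⟩ = z := by
        intro z hz
        refine (reach_spec
          (P := fun y => ∃ hy : y < C.N, ∃ t ∈ S, t ⟨l.base, hb⟩ = (⟨y, hy⟩ : Fin C.N))
          ?_ _ _ _ hr ?_ z (by simpa [O] using hz)).2
        · rintro y i hi ⟨hy, t, ht', e⟩
          have hw : (chainWords (l :: ls)).getD i [] ∈ chainWords (l :: ls) := by
            rw [List.getD_eq_getElem _ _ hi]; exact List.getElem_mem hi
          have ha := prodW_letterPerm c a (hlt _ hw) ⟨y, hy⟩
          refine ⟨ha ▸ Fin.isLt _, _ * t, mul_mem (Subgroup.subset_closure ⟨_, hw, rfl⟩) ht', ?_⟩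
          rw [Equiv.Perm.mul_apply, e]
          exact Fin.ext ha
        · intro y hy
          rw [Nat.testBit_two_pow, decide_eq_true_eq] at hy
          subst hy
          exact ⟨hb, 1, one_mem _, by simp⟩
      choose t ht1 ht2 using hO
      have hlift : ∀ τ : T, ∃ x ∈ S', baseImages (chainBases C ls) x = τ.1 := fun τ => τ.2
      choose lift hl1 hl2 using hlift
      let φ : O × T → U := fun q => ⟨baseImages (chainBases C (l :: ls)) (t q.1 q.1.2 * lift q.2),
        _, mul_mem (ht1 _ _) (hle (hl1 q.2)), rfl⟩
      have hcons : ∀ x : Equiv.Perm (Fin C.N), baseImages (chainBases C (l :: ls)) x =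
          some (x ⟨l.base, hb⟩) :: baseImages (chainBases C ls) x := fun x => by
        simp [baseImages, chainBases, hb]
      have hφ : Function.Injective φ := by
        rintro ⟨⟨z, hz⟩, τ⟩ ⟨⟨z', hz'⟩, τ'⟩ e
        have e' := congrArg Subtype.val e
        simp only [φ, hcons, List.cons.injEq, Option.some.injEq, Equiv.Perm.mul_apply,
          hst _ (hl1 τ), hst _ (hl1 τ'), ht2] at e'
        obtain ⟨rfl, e''⟩ := e'
        simp only [Prod.mk.injEq, true_and]
        refine Subtype.ext ?_
        rw [← hl2 τ, ← hl2 τ']
        have key : ∀ x : Equiv.Perm (Fin C.N), baseImages (chainBases C ls) (t z hz * x) =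
            (baseImages (chainBases C ls) x).map (Option.map fun i => t z hz i) := fun x => by
          simp only [baseImages, List.map_map]
          refine List.map_congr_left fun o _ => ?_
          cases o <;> simp
        rw [key, key] at e''
        exact List.map_injective_iff.mpr (Option.map_injective (t z hz).injective) e''
      have hcard := Nat.card_le_card_of_injective φ hφ
      rw [Nat.card_prod, Nat.card_eq_finsetCard] at hcard
      have hO' : popc l.mask C.N = O.card := by
        rw [popc_eq, ← Finset.card_map Fin.valEmbedding]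
        congr 1
        ext y
        simp only [O, Finset.mem_map, Finset.mem_filter, Finset.mem_range, Finset.mem_univ,
          true_and, Fin.valEmbedding_apply]
        exact ⟨fun ⟨h1, h2⟩ => ⟨⟨y, h1⟩, h2, rfl⟩, fun ⟨z, hz, e⟩ => e ▸ ⟨z.2, hz⟩⟩
      rw [chainSize, hO']
      exact le_trans (Nat.mul_le_mul_left _ ih) hcard

variable {G : Type*} [Group G] {H : Subgroup G} {gen : ℕ → G} {ρ : G →* Equiv.Perm (Fin C.N)}

/-- An element is determined by the images of the base points. -/
theorem Setup.base_injective (s : Setup C H gen ρ) [Finite G] {ls : List Level}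
    (hok : chainOK C ls = true) (hsize : chainSize C ls = Nat.card G) :
    Function.Injective fun g : G => baseImages (chainBases C ls) (ρ g) := by
  classical
  let f : G → Set.range (fun g : G => baseImages (chainBases C ls) (ρ g)) :=
    Set.rangeFactorization fun g => baseImages (chainBases C ls) (ρ g)
  have hf : Function.Surjective f := Set.rangeFactorization_surjective
  have hsub : baseImages (chainBases C ls) ''
      (chainGroup s.complete s.action ls : Set (Equiv.Perm (Fin C.N))) ⊆
      Set.range fun g : G => baseImages (chainBases C ls) (ρ g) := by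
    rintro _ ⟨x, hx, rfl⟩
    obtain ⟨g, rfl⟩ := s.chainGroup_le hok hx
    exact ⟨g, rfl⟩
  have h1 : Nat.card G ≤ Nat.card (Set.range fun g : G => baseImages (chainBases C ls) (ρ g)) := by
    rw [← hsize]
    refine (chainSize_le_images s.complete s.action hok).trans ?_
    rw [Nat.card_coe_set_eq, Nat.card_coe_set_eq]
    exact Set.ncard_le_ncard hsub (Set.toFinite _)
  have h2 := Nat.card_le_card_of_surjective f hf
  haveI := Fintype.ofFinite G
  haveI := Fintype.ofFinite (Set.range fun g : G => baseImages (chainBases C ls) (ρ g))
  have hb : Function.Bijective f := by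
    rw [Fintype.bijective_iff_surjective_and_card]
    exact ⟨hf, by rw [← Nat.card_eq_fintype_card, ← Nat.card_eq_fintype_card]; omega⟩
  exact fun x y e => hb.1 (Subtype.ext e)

end CfsgLib.CosetEnum
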