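import Cfsg.Agent.Lib.CosetEnum.Use

/-!
Long checks split into blocks of consecutive indices.
-/

set_option autoImplicit false

namespace CfsgLib.CosetEnum

theorem allUp_blocks {f : ℕ → Bool} {k n : ℕ}
    (h : ∀ j < n, allUp f k (j * 2 ^ k) = true) : ∀ i < n * 2 ^ k, f i = true := by
  intro i hi
  have hj : i / 2 ^ k < n := Nat.div_lt_of_lt_mul (by rwa [mul_comm] at hi)
  refine allUp_spec (h _ hj) i (Nat.div_mul_le_self i _) ?_
  have := Nat.lt_div_mul_add (a := i) (b := 2 ^ k) (Nat.two_pow_pos k)
  omega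

/-- Completeness from blocks of fact checks. -/
theorem Cert.complete_of_blocks (C : Cert) {k n k₂ : ℕ} (h0 : C.headOK = true)
    (h1 : ∀ j < n, allUp C.stepOK' k (j * 2 ^ k) = true) (hF : C.F ≤ n * 2 ^ k)
    (h2 : allUp C.entryOK' k₂ 0 = true) (hN : C.N ≤ 2 ^ k₂) : C.Complete where
  head := h0
  step i hi := by
    have h := allUp_blocks h1 i (by omega)
    unfold Cert.stepOK' at h
    simp only [strict_eq] at h
    rwa [show ltB i C.F = true from ltB_iff.mpr hi, pick_true] at h
  entry i hi := by
    have h := allUp_spec h2 i (Nat.zero_le _) (by omega)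
    unfold Cert.entryOK' at h
    simp only [strict_eq] at h
    rwa [show ltB i C.N = true from ltB_iff.mpr hi, pick_true] at h

end CfsgLib.CosetEnum
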