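import Cfsg.Agent.Lib.CosetEnum.Use

/-!
Certificates for subgroups generated by a block of consecutive involutory letters.
-/

set_option autoImplicit false

namespace CfsgLib.CosetEnum

variable {G : Type*} [Group G]

/-- The letters `off, …, off + k - 1`, renumbered from `0`. -/
def blockGen (gen : ℕ → G) (off k g : ℕ) : G := if g < k then gen (g + off) else 1

/-- the check that a certificate is about a block of letters obeying known relators -/
def blockOK (C : Cert) (known : List (List ℕ)) (off k : ℕ) : Bool :=
  decide (C.K = k) && C.invs == List.range k &&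
    (C.rels.all fun r => (r.all fun g => Nat.blt g k) && known.contains (r.map fun g => g + off)) &&
    C.subs.all fun w => w.all fun g => Nat.blt g k

theorem prodW_blockGen {gen : ℕ → G} {off k : ℕ} {w : List ℕ} (h : ∀ g ∈ w, g < k) :
    prodW (blockGen gen off k) w = prodW gen (w.map fun g => g + off) := by
  induction w with
  | nil => rfl
  | cons g w ih =>
    rw [List.forall_mem_cons] at h
    simp [blockGen, h.1, ih h.2]

theorem blockModel {gen : ℕ → G} (hsq : ∀ g, gen g * gen g = 1) {known : List (List ℕ)}
    (hknown : ∀ r ∈ known, prodW gen r = 1) {C : Cert} {off k : ℕ}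
    (hC : blockOK C known off k = true) :
    Model C (Subgroup.closure {y | ∃ w ∈ C.subs, prodW (blockGen gen off k) w = y})
      (blockGen gen off k) := by
  simp only [blockOK, Bool.and_eq_true, decide_eq_true_eq, beq_iff_eq, List.all_eq_true,
    Nat.blt_eq, List.contains_iff_mem] at hC
  obtain ⟨⟨⟨hK, hinv⟩, hrels⟩, -⟩ := hC
  refine ⟨by simp [blockGen, hK], fun g => ?_, fun r hr => ?_,
    fun w hw => Subgroup.subset_closure ⟨w, hw, rfl⟩⟩
  · have : C.inv g = g := by
      rw [Cert.inv, hinv, List.getD_eq_getElem?_getD]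
      by_cases hg : g < k <;> simp [hg]
    rw [this]
    unfold blockGen
    split <;> simp [hsq]
  · rw [prodW_blockGen (hrels r hr).1]
    exact hknown _ (hrels r hr).2

/-- One step of a nested bound. -/
theorem block_card_le {gen : ℕ → G} (hsq : ∀ g, gen g * gen g = 1) {known : List (List ℕ)}
    (hknown : ∀ r ∈ known, prodW gen r = 1) {C : Cert} (c : C.Complete) {off k : ℕ}
    (hC : blockOK C known off k = true) {n : ℕ}
    (hsub : Finite (Subgroup.closure {y | ∃ w ∈ C.subs, prodW (blockGen gen off k) w = y}) ∧
      Nat.card (Subgroup.closure {y | ∃ w ∈ C.subs, prodW (blockGen gen off k) w = y}) ≤ n) :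
    Finite (genSub (blockGen gen off k) k) ∧ Nat.card (genSub (blockGen gen off k) k) ≤ C.N * n := by
  haveI := hsub.1
  have h := finite_card_le c (blockModel hsq hknown hC) n hsub.2
  have hK : C.K = k := by
    simp only [blockOK, Bool.and_eq_true, decide_eq_true_eq] at hC
    exact hC.1.1.1
  rwa [hK] at h

/-- the check that the subgroup words of a certificate are the letters of an inner block -/
def subsBlockOK (C : Cert) (d k : ℕ) : Bool :=
  C.subs == (List.range k).map fun g => [g + d]

theorem subs_closure_eq {gen : ℕ → G} {C : Cert} {off K d k : ℕ} (h : subsBlockOK C d k = true)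
    (hk : k + d ≤ K) :
    Subgroup.closure {y | ∃ w ∈ C.subs, prodW (blockGen gen off K) w = y} =
      genSub (blockGen gen (off + d) k) k := by
  rw [subsBlockOK, beq_iff_eq] at h
  rw [genSub, h]
  congr 1
  ext y
  simp only [List.mem_map, List.mem_range, Set.mem_ofPred_eq]
  constructor
  · rintro ⟨w, ⟨g, hg, rfl⟩, rfl⟩
    exact ⟨g, hg, by
      rw [prodW_cons, prodW_nil, mul_one, blockGen, blockGen, if_pos hg, if_pos (by omega)]
      congr 1; omega⟩
  · rintro ⟨g, hg, rfl⟩
    exact ⟨[g + d], ⟨g, hg, rfl⟩, by
      rw [prodW_cons, prodW_nil, mul_one, blockGen, blockGen, if_pos hg, if_pos (by omega)]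
      congr 1; omega⟩

theorem subs_closure_bot {gen : ℕ → G} {C : Cert} (h : C.subs = []) :
    Finite (Subgroup.closure {y | ∃ w ∈ C.subs, prodW gen w = y}) ∧
      Nat.card (Subgroup.closure {y | ∃ w ∈ C.subs, prodW gen w = y}) ≤ 1 := by
  have e : Subgroup.closure {y | ∃ w ∈ C.subs, prodW gen w = y} = ⊥ := by simp [h]
  rw [e]
  exact ⟨inferInstance, by simp⟩

/-- Nested step with the inner block already bounded. -/
theorem block_step {gen : ℕ → G} (hsq : ∀ g, gen g * gen g = 1) {known : List (List ℕ)}
    (hknown : ∀ r ∈ known, prodW gen r = 1) {C : Cert} (c : C.Complete) {off K d k n : ℕ}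
    (hC : blockOK C known off K = true) (hs : subsBlockOK C d k = true) (hk : k + d ≤ K)
    (hin : Finite (genSub (blockGen gen (off + d) k) k) ∧
      Nat.card (genSub (blockGen gen (off + d) k) k) ≤ n) :
    Finite (genSub (blockGen gen off K) K) ∧ Nat.card (genSub (blockGen gen off K) K) ≤ C.N * n :=
  block_card_le hsq hknown c hC (by rw [subs_closure_eq hs hk]; exact hin)

theorem genSub_blockGen_zero (gen : ℕ → G) (k : ℕ) :
    genSub (blockGen gen 0 k) k = genSub gen k := by
  unfold genSub
  congr 1
  ext y
  simp only [Set.mem_ofPred_eq]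
  constructor <;> rintro ⟨g, hg, rfl⟩ <;> exact ⟨g, hg, by simp [blockGen, hg]⟩

theorem subs_closure_genSub {gen : ℕ → G} {C : Cert} {k : ℕ} (h : subsBlockOK C 0 k = true) :
    Subgroup.closure {y | ∃ w ∈ C.subs, prodW gen w = y} = genSub gen k := by
  rw [subsBlockOK, beq_iff_eq] at h
  rw [genSub, h]
  congr 1
  ext y
  simp [List.mem_map, eq_comm]

end CfsgLib.CosetEnum
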