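import Cfsg.Agent.Lib.CosetEnum.Presented
import Cfsg.Agent.Lib.CosetEnum.Nested
import Cfsg.Agent.Lib.CosetEnum.Chunks

/-!
Powers of words, and the checks that a word is trivial in the action.
-/

set_option autoImplicit false

namespace CfsgLib.CosetEnum

/-- The word `u` repeated `n` times. -/
def powWord (u : List ℕ) (n : ℕ) : List ℕ := (List.replicate n u).flatten

theorem prodW_powWord {G : Type*} [Group G] (gen : ℕ → G) (u : List ℕ) :
    ∀ n, prodW gen (powWord u n) = prodW gen u ^ n
  | 0 => by simp [powWord]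
  | n + 1 => by
    have e : powWord u (n + 1) = u ++ powWord u n := by simp [powWord, List.replicate_succ]
    rw [e, prodW_append, prodW_powWord gen u n, pow_succ']

/-- coset `x` is fixed by the word -/
noncomputable def wordFix (C : Cert) (w : List ℕ) (x : ℕ) : Bool :=
  bif Nat.blt x C.N then Nat.beq (C.run x (C.revInv w)) x else true

theorem Setup.pow_eq_one {G : Type*} [Group G] {C : Cert} {H : Subgroup G} {gen : ℕ → G}
    {ρ : G →* Equiv.Perm (Fin C.N)} (s : Setup C H gen ρ) (hinj : Function.Injective ρ)
    {u : List ℕ} {n k : ℕ} (hu : (u.all fun g => Nat.blt g C.K) = true)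
    (h : allUp (wordFix C (powWord u n)) k 0 = true) (hN : C.N ≤ 2 ^ k) :
    prodW gen u ^ n = 1 := by
  simp only [List.all_eq_true, Nat.blt_eq] at hu
  apply hinj
  rw [← prodW_powWord, map_one]
  refine Equiv.ext fun x => Fin.ext ?_
  have hw : ∀ g ∈ powWord u n, g < C.K := fun g hg => by
    obtain ⟨l, hl, hgl⟩ := List.mem_flatten.mp hg
    obtain rfl := List.eq_of_mem_replicate hl
    exact hu g hgl
  rw [s.rho_prodW hw]
  have hx := allUp_spec h x (Nat.zero_le _) (by have := x.2; omega)
  unfold wordFix at hx
  rw [show Nat.blt x C.N = true by rw [Nat.blt_eq]; exact x.2, cond_true] at hx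
  simpa using Nat.eq_of_beq_eq_true hx

end CfsgLib.CosetEnum
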