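import Cfsg.Agent.Lib.CosetEnum.Base
import Cfsg.Agent.Lib.CosetEnum.Words

/-!
An element fixing the base points of a full chain is trivial.
-/

set_option autoImplicit false

namespace CfsgLib.CosetEnum

/-- A power is trivial when its word fixes the base points of a chain of full size. -/
theorem Setup.pow_eq_one_of_bases {G : Type*} [Group G] [Finite G] {C : Cert} {H : Subgroup G}
    {gen : ℕ → G} {ρ : G →* Equiv.Perm (Fin C.N)} (s : Setup C H gen ρ) {ls : List Level}
    (hok : chainOK C ls = true) (hsize : chainSize C ls = Nat.card G) {u : List ℕ} {n : ℕ}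
    (hu : (u.all fun g => Nat.blt g C.K) = true)
    (h : (ls.all fun l => wordFix C (powWord u n) l.base) = true) :
    prodW gen u ^ n = 1 := by
  simp only [List.all_eq_true, Nat.blt_eq] at hu h
  apply s.base_injective hok hsize
  simp only [map_one]
  rw [← prodW_powWord]
  have hw : ∀ g ∈ powWord u n, g < C.K := fun g hg => by
    obtain ⟨l, hl, hgl⟩ := List.mem_flatten.mp hg
    obtain rfl := List.eq_of_mem_replicate hl
    exact hu g hgl
  simp only [baseImages, chainBases, List.map_map]
  refine List.map_congr_left fun l hl => ?_
  simp only [Function.comp_apply]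
  split
  · next hb =>
    simp only [Option.map_some, Option.some.injEq]
    refine Fin.ext ?_
    rw [s.rho_prodW hw]
    have hx := h l hl
    unfold wordFix at hx
    rw [show Nat.blt l.base C.N = true by rw [Nat.blt_eq]; exact hb, cond_true] at hx
    simpa using Nat.eq_of_beq_eq_true hx
  · rfl

end CfsgLib.CosetEnum
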