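import Cfsg.Agent.Lib.CosetEnum.Chain

/-!
An element fixing the base points of a chain of full size is trivial.
-/

set_option autoImplicit false

namespace CfsgLib.CosetEnum

variable {C : Cert}

/-- images of the base points -/
noncomputable def tupleOf (ls : List Level) (t : Equiv.Perm (Fin C.N)) : List ℕ :=
  ls.map fun l => if h : l.base < C.N then (t ⟨l.base, h⟩ : ℕ) else 0

theorem chainSize_le_tuples (c : C.Complete) (a : C.IsAction) : ∀ {ls : List Level},
    chainOK C ls = true →
      chainSize C ls ≤ (tupleOf ls '' (chainGroup c a ls : Set (Equiv.Perm (Fin C.N)))).ncard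
  | [], _ => by
    rw [chainSize]
    exact (Set.ncard_pos (Set.toFinite _)).mpr (Set.image_nonempty.mpr ⟨1, one_mem _⟩)
  | l :: ls, h => by
    classical
    have hlt := chainWords_lt h
    simp only [chainOK, Bool.and_eq_true, List.all_eq_true, Nat.blt_eq] at h
    obtain ⟨⟨⟨hb, ht⟩, hfix⟩, -, hok⟩ := h
    have ih := chainSize_le_tuples c a hok
    set S := chainGroup c a (l :: ls)
    set S' := chainGroup c a ls
    have hle : S' ≤ S := by
      refine Subgroup.closure_mono ?_
      rintro y ⟨w, hw, e⟩
      exact ⟨w, by rw [chainWords, List.flatMap_cons]; exact List.mem_append.mpr (Or.inr hw), e⟩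
    have hst : ∀ x ∈ S', x ⟨l.base, hb⟩ = ⟨l.base, hb⟩ := by
      intro x hx
      induction hx using Subgroup.closure_induction with
      | mem y hy =>
        obtain ⟨w, hw, rfl⟩ := hy
        refine Fin.ext ?_
        rw [prodW_letterPerm c a (chainWords_lt hok w hw)]
        exact Nat.eq_of_beq_eq_true (hfix w hw)
      | one => simp
      | mul x y _ _ hx hy => rw [Equiv.Perm.mul_apply, hy, hx]
      | inv x _ hx => rw [Equiv.Perm.inv_eq_iff_eq, hx]
    cases hr : reach C (chainWords (l :: ls)) l.tree (2 ^ l.base) with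
    | none => simp [hr] at ht
    | some m =>
      rw [hr] at ht
      obtain rfl := Nat.eq_of_beq_eq_true ht
      let O : Finset (Fin C.N) := Finset.univ.filter fun z => l.mask.testBit z = true
      have hO : ∀ z ∈ O, ∃ t ∈ S, t ⟨l.base, hb⟩ = z := by
        intro z hz
        refine (reach_spec
          (P := fun y => ∃ hy : y < C.N, ∃ t ∈ S, t ⟨l.base, hb⟩ = (⟨y, hy⟩ : Fin C.N))
          ?_ _ _ _ hr ?_ z (by simpa [O] using hz)).2
        · rintro y i hi ⟨hy, t, ht', e⟩
          have hw : (chainWords (l :: ls)).getD i [] ∈ chainWords (l :: ls) := by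
            rw [List.getD_eq_getElem _ _ hi]; exact List.getElem_mem hi
          have ha := prodW_letterPerm c a (hlt _ hw) ⟨y, hy⟩
          refine ⟨ha ▸ Fin.isLt _, _ * t, mul_mem (Subgroup.subset_closure ⟨_, hw, rfl⟩) ht', ?_⟩
          rw [Equiv.Perm.mul_apply, e]
          exact Fin.ext ha
        · intro y hy
          rw [Nat.testBit_two_pow, decide_eq_true_eq] at hy
          subst hy
          exact ⟨hb, 1, one_mem _, by simp⟩
      choose t ht1 ht2 using hO
      set T' := tupleOf ls '' (S' : Set (Equiv.Perm (Fin C.N)))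
      have hT : ∀ y ∈ T', ∃ x ∈ S', tupleOf ls x = y := fun y hy => hy
      choose u hu1 hu2 using hT
      let φ : O × T' → tupleOf (l :: ls) '' (S : Set (Equiv.Perm (Fin C.N))) := fun q =>
        ⟨tupleOf (l :: ls) (t q.1 q.1.2 * u q.2 q.2.2),
          Set.mem_image_of_mem _ (mul_mem (ht1 _ _) (hle (hu1 _ _)))⟩
      have hφ : Function.Injective φ := by
        rintro ⟨⟨z, hz⟩, ⟨y, hy⟩⟩ ⟨⟨z', hz'⟩, ⟨y', hy'⟩⟩ e
        have e' := congrArg Subtype.val e
        simp only [φ, tupleOf, List.map_cons, List.cons.injEq, dif_pos hb,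
          Equiv.Perm.mul_apply, hst _ (hu1 _ _), ht2] at e'
        obtain ⟨e1, e2⟩ := e'
        obtain rfl : z = z' := Fin.ext e1
        simp only [Prod.mk.injEq, true_and, Subtype.mk.injEq]
        rw [← hu2 y hy, ← hu2 y' hy']
        refine List.map_inj_left.mpr fun m hm => ?_
        have e3 := (List.map_inj_left.mp e2) m hm
        split at e3
        · rename_i hm'
          rw [dif_pos hm', dif_pos hm']
          exact congrArg Fin.val ((t z hz).injective (Fin.ext e3))
        · rename_i hm'
          rw [dif_neg hm', dif_neg hm']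
      have hO' : popc l.mask C.N = O.card := by
        rw [popc_eq, ← Finset.card_map Fin.valEmbedding]
        congr 1
        ext y
        simp only [O, Finset.mem_map, Finset.mem_filter, Finset.mem_range, Finset.mem_univ,
          true_and, Fin.valEmbedding_apply]
        exact ⟨fun ⟨h1, h2⟩ => ⟨⟨y, h1⟩, h2, rfl⟩, fun ⟨z, hz, e⟩ => e ▸ ⟨z.2, hz⟩⟩
      have hfin : Finite (tupleOf (l :: ls) '' (S : Set (Equiv.Perm (Fin C.N)))) :=
        (Set.toFinite _).to_subtype
      have hcard := Nat.card_le_card_of_injective φ hφ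
      rw [Nat.card_prod, Nat.card_eq_finsetCard, Nat.card_coe_set_eq, Nat.card_coe_set_eq] at hcard
      rw [chainSize, hO']
      exact le_trans (Nat.mul_le_mul_left _ ih) hcard

variable {G : Type*} [Group G] {H : Subgroup G} {gen : ℕ → G} {ρ : G →* Equiv.Perm (Fin C.N)}

theorem Setup.eq_one_of_fix_bases (s : Setup C H gen ρ) [Finite G]
    {ls : List Level} (h : chainOK C ls = true) (hsize : chainSize C ls = Nat.card G) {g : G}
    (hg : ∀ l ∈ ls, ∀ hb : l.base < C.N, ρ g ⟨l.base, hb⟩ = ⟨l.base, hb⟩) : g = 1 := by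
  classical
  have := Fintype.ofFinite G
  let f : G → List ℕ := fun x => tupleOf ls (ρ x)
  have hsub : tupleOf ls '' (chainGroup s.complete s.action ls : Set (Equiv.Perm (Fin C.N))) ⊆
      Set.range f := by
    rintro y ⟨t, ht, rfl⟩
    obtain ⟨x, rfl⟩ := s.chainGroup_le h ht
    exact ⟨x, rfl⟩
  have h1 : Nat.card G ≤ (Finset.univ.image f).card := by
    rw [← hsize, ← Set.ncard_coe_finset, Finset.coe_image, Finset.coe_univ, Set.image_univ]
    exact (chainSize_le_tuples s.complete s.action h).trans
      (Set.ncard_le_ncard hsub (Set.finite_range f))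
  rw [Nat.card_eq_fintype_card, ← Finset.card_univ] at h1
  have hinjf : Set.InjOn f (Finset.univ : Finset G) :=
    Finset.injOn_of_card_image_eq (le_antisymm Finset.card_image_le h1)
  refine hinjf (by simp) (by simp) (List.map_inj_left.mpr fun l hl => ?_)
  split
  · rename_i hb
    rw [hg l hl hb, map_one, Equiv.Perm.one_apply]
  · rfl

end CfsgLib.CosetEnum
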