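import Cfsg.Agent.Lib.CosetEnum.Chunks

/-!
Long checks of entries and of the action split into blocks.
-/

set_option autoImplicit false

namespace CfsgLib.CosetEnum

/-- Completeness from blocks of fact and entry checks. -/
theorem Cert.complete_of_blocks₂ (C : Cert) {k n k₂ n₂ : ℕ} (h0 : C.headOK = true)
    (h1 : ∀ j < n, allUp C.stepOK' k (j * 2 ^ k) = true) (hF : C.F ≤ n * 2 ^ k)
    (h2 : ∀ j < n₂, allUp C.entryOK' k₂ (j * 2 ^ k₂) = true) (hN : C.N ≤ n₂ * 2 ^ k₂) :
    C.Complete where
  head := h0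
  step i hi := by
    have h := allUp_blocks h1 i (by omega)
    unfold Cert.stepOK' at h
    simp only [strict_eq] at h
    rwa [show ltB i C.F = true from ltB_iff.mpr hi, pick_true] at h
  entry i hi := by
    have h := allUp_blocks h2 i (by omega)
    unfold Cert.entryOK' at h
    simp only [strict_eq] at h
    rwa [show ltB i C.N = true from ltB_iff.mpr hi, pick_true] at h

/-- An action from blocks of checks. -/
theorem Cert.isAction_of_blocks (C : Cert) {k₁ n₁ k₂ n₂ : ℕ} (h0 : C.ndOK = true)
    (h0' : ((List.range C.K).all fun g => Nat.beq (C.inv (C.inv g)) g) = true)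
    (h1 : ∀ j < n₂, allUp C.actOK' k₂ (j * 2 ^ k₂) = true)
    (h2 : ∀ j < n₂, allUp C.ndImgOK' k₂ (j * 2 ^ k₂) = true) (hN : C.N ≤ n₂ * 2 ^ k₂)
    (h3 : ∀ j < n₁, allUp C.imgOK' k₁ (j * 2 ^ k₁) = true) (hM : C.M ≤ n₁ * 2 ^ k₁) :
    C.IsAction where
  act i hi := by
    have h := allUp_blocks h1 i (by omega)
    unfold Cert.actOK' at h
    simp only [strict_eq] at h
    rwa [show ltB i C.N = true from ltB_iff.mpr hi, pick_true] at h
  nodes n hn := by
    have h := allUp_blocks h3 n (by omega)
    unfold Cert.imgOK' at h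
    simp only [strict_eq] at h
    rwa [show ltB n C.M = true from ltB_iff.mpr hn, pick_true] at h
  ndImg i hi := allUp_blocks h2 i (by omega)
  sub := h0
  inv_inv := h0'

end CfsgLib.CosetEnum
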