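import Cfsg.Agent.Lib.CosetEnum.RelGraph

/-!
A backtrack search for the centralizer of an element.
-/

set_option autoImplicit false

namespace CfsgLib.CosetEnum

namespace Cert

variable (C : Cert)

/-- the `i`-th image of `x` under the word `v` -/
noncomputable def shift (v : List ℕ) (i x : ℕ) : ℕ :=
  Nat.rec x (fun _ ih => strict ih fun y => C.run y (C.revInv v)) i

/-- the list of images of `x` under the powers below `n` -/
noncomputable def shifts (v : List ℕ) (n x : ℕ) : List ℕ :=
  (List.range n).map fun i => C.shift v i x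

/-- `x` is related to the known images as `b` is to the known points -/
noncomputable def pairsOK (m : ℕ) (d : List (ℕ × ℕ)) (b x : ℕ) : Bool :=
  List.rec true (fun q _ ih => band (C.relB m q.2 x == C.relB m q.1 b) ih) d

/-- `x` is related to its own images as `b` is to its images -/
noncomputable def shiftOK (m : ℕ) (v : List ℕ) (n b x : ℕ) : Bool :=
  List.rec true (fun i _ ih =>
    band (C.relB m x (C.shift v i x) == C.relB m b (C.shift v i b)) ih) (List.range n)

/-- adjoin an image and its shifts -/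
noncomputable def extend (v : List ℕ) (p : ℕ) (d : List (ℕ × ℕ)) (b x : ℕ) : List (ℕ × ℕ) :=
  d ++ (List.range p).map fun i => (C.shift v i b, C.shift v i x)

/-- some listed word has the known images of all the base points -/
noncomputable def centLeafOK (bases : List ℕ) (leaves : List (List ℕ)) (d : List (ℕ × ℕ)) : Bool :=
  leaves.any fun u => bases.all fun b =>
    d.any fun q => Nat.beq q.1 b && Nat.beq (C.run b (C.revInv u)) q.2

/-- every possible assignment of the listed points leads to a listed word -/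
noncomputable def searchOK (m : ℕ) (v : List ℕ) (n p : ℕ) (bases : List ℕ)
    (leaves : List (List ℕ)) (bs : List ℕ) : List (ℕ × ℕ) → Bool :=
  List.rec (fun d => C.centLeafOK bases leaves d)
    (fun b _ ih d => band (ltB b C.N) (allPts C.N fun x => strict x fun x =>
      pick (band (C.pairsOK m d b x) (C.shiftOK m v n b x)) (ih (C.extend v p d b x)) true)) bs

/-- only the listed images are possible for the first point -/
noncomputable def firstOK (m : ℕ) (v : List ℕ) (n p b₀ : ℕ) : Bool :=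
  band (ltB b₀ C.N) (allPts C.N fun x => strict x fun x =>
    pick (band (C.pairsOK m [(0, 0)] b₀ x) (C.shiftOK m v n b₀ x))
      ((C.shifts v p b₀).any fun y => Nat.beq x y) true)

/-- only coset `0` is fixed -/
noncomputable def oneFixed (v : List ℕ) : Bool :=
  band (Nat.beq (C.run 0 (C.revInv v)) 0) (allPts C.N fun x => strict x fun x =>
    pick (Nat.beq x 0) true (!(Nat.beq (C.run x (C.revInv v)) x)))

end Cert

variable {G : Type*} [Group G] {C : Cert} {H : Subgroup G} {gen : ℕ → G}
  {ρ : G →* Equiv.Perm (Fin C.N)}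

theorem Setup.shift_eq (s : Setup C H gen ρ) {v : List ℕ} (hv : ∀ g ∈ v, g < C.K) (i : ℕ)
    (x : Fin C.N) : (ρ (prodW gen v ^ i) x : ℕ) = C.shift v i x := by
  induction i with
  | zero => simp [Cert.shift]
  | succ i ih =>
    have e : C.shift v (i + 1) x = C.run (C.shift v i x) (C.revInv v) := by
      unfold Cert.shift
      simp only [strict_eq]
    rw [pow_succ', map_mul, Equiv.Perm.mul_apply, s.rho_prodW hv, ih, e]

theorem Setup.pairsOK_of (s : Setup C H gen ρ) (r : s.RepWords) {m : ℕ} (hm : MaskInv ρ H m)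
    {g : G} : ∀ {d : List (ℕ × ℕ)}, (∀ q ∈ d, ∃ z : Fin C.N, (z : ℕ) = q.1 ∧ (ρ g z : ℕ) = q.2) →
    ∀ b : Fin C.N, C.pairsOK m d b (ρ g b) = true
  | [], _, _ => rfl
  | q :: d, h, b => by
    rw [List.forall_mem_cons] at h
    obtain ⟨⟨z, e1, e2⟩, h2⟩ := h
    change band _ (C.pairsOK m d b (ρ g b)) = true
    rw [band_eq_true, beq_iff_eq, ← e1, ← e2, s.relB_smul r hm]
    exact ⟨rfl, s.pairsOK_of r hm h2 b⟩

theorem Setup.shiftOK_of (s : Setup C H gen ρ) (r : s.RepWords) {m : ℕ} (hm : MaskInv ρ H m)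
    {v : List ℕ} (hv : ∀ g ∈ v, g < C.K) {g : G} (hg : Commute g (prodW gen v)) (n : ℕ)
    (b : Fin C.N) : C.shiftOK m v n b (ρ g b) = true := by
  have key : ∀ i, C.relB m (ρ g b) (C.shift v i (ρ g b)) = C.relB m b (C.shift v i b) := fun i => by
    rw [← s.shift_eq hv, ← s.shift_eq hv, ← Equiv.Perm.mul_apply, ← map_mul,
      ← (hg.pow_right i).eq, map_mul, Equiv.Perm.mul_apply, s.relB_smul r hm]
  unfold Cert.shiftOK
  generalize List.range n = l
  induction l with
  | nil => rfl
  | cons i l ih =>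
    change band _ _ = true
    rw [band_eq_true, beq_iff_eq]
    exact ⟨key i, ih⟩

theorem Setup.searchOK_spec (s : Setup C H gen ρ) (r : s.RepWords) [Finite G] {m : ℕ}
    (hm : MaskInv ρ H m) {v : List ℕ} (hv : ∀ g ∈ v, g < C.K) {n p : ℕ} {ls : List Level}
    (hok : chainOK C ls = true) (hsize : chainSize C ls = Nat.card G) {leaves : List (List ℕ)}
    (hl : (leaves.all fun u => u.all fun g => Nat.blt g C.K) = true) {g : G}
    (hg : Commute g (prodW gen v)) :
    ∀ (bs : List ℕ) (d : List (ℕ × ℕ)),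
      C.searchOK m v n p (ls.map Level.base) leaves bs d = true →
      (∀ q ∈ d, ∃ z : Fin C.N, (z : ℕ) = q.1 ∧ (ρ g z : ℕ) = q.2) →
      ∃ u ∈ leaves, g = prodW gen u
  | [], d, h, hd => by
    simp only [Cert.searchOK, Cert.centLeafOK, List.any_eq_true, List.all_eq_true,
      Bool.and_eq_true] at h
    obtain ⟨u, hu, hb⟩ := h
    refine ⟨u, hu, s.base_injective hok hsize ?_⟩
    simp only [baseImages, chainBases, List.map_map]
    refine List.map_congr_left fun l hl' => ?_
    obtain ⟨q, hq, e1, e2⟩ := hb l.base (List.mem_map_of_mem hl')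
    obtain ⟨z, ez1, ez2⟩ := hd q hq
    have e1' := Nat.eq_of_beq_eq_true e1
    have hz : l.base < C.N := by rw [← e1', ← ez1]; exact z.2
    simp only [Function.comp_apply, dif_pos hz, Option.map_some, Option.some.injEq]
    refine Fin.ext ?_
    simp only [List.all_eq_true, Nat.blt_eq] at hl
    rw [s.rho_prodW (hl u hu), Nat.eq_of_beq_eq_true e2, ← ez2]
    have : z = ⟨l.base, hz⟩ := Fin.ext (ez1.trans e1')
    rw [this]
  | b :: bs, d, h, hd => by
    have e : C.searchOK m v n p (ls.map Level.base) leaves (b :: bs) d =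
        band (ltB b C.N) (Cert.allPts C.N fun x => strict x fun x =>
          pick (band (C.pairsOK m d b x) (C.shiftOK m v n b x))
            (C.searchOK m v n p (ls.map Level.base) leaves bs (C.extend v p d b x)) true) := rfl
    rw [e, band_eq_true, ltB_iff] at h
    obtain ⟨hb, h⟩ := h
    have h' := Cert.allPts_spec h (ρ g ⟨b, hb⟩ : ℕ) (Fin.isLt _)
    simp only [strict_eq] at h'
    rw [band_eq_true.mpr ⟨s.pairsOK_of r hm hd ⟨b, hb⟩, s.shiftOK_of r hm hv hg n ⟨b, hb⟩⟩,
      pick_true] at h'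
    refine s.searchOK_spec r hm hv hok hsize hl hg bs _ h' ?_
    intro q hq
    rcases List.mem_append.mp hq with hq | hq
    · exact hd q hq
    · obtain ⟨i, -, rfl⟩ := List.mem_map.mp hq
      refine ⟨ρ (prodW gen v ^ i) ⟨b, hb⟩, s.shift_eq hv i _, ?_⟩
      rw [← Equiv.Perm.mul_apply, ← map_mul, (hg.pow_right i).eq, map_mul, Equiv.Perm.mul_apply,
        s.shift_eq hv]

/-- The centralizer of a word consists of its powers times the listed words. -/
theorem Setup.centralizer_cases (s : Setup C H gen ρ) (r : s.RepWords) [Finite G] {m : ℕ}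
    (hm : MaskInv ρ H m) {v : List ℕ} (hv : ∀ g ∈ v, g < C.K) (h1 : C.oneFixed v = true)
    {n p b₀ : ℕ} (hf : C.firstOK m v n p b₀ = true) {ls : List Level}
    (hok : chainOK C ls = true) (hsize : chainSize C ls = Nat.card G) {leaves : List (List ℕ)}
    (hl : (leaves.all fun u => u.all fun g => Nat.blt g C.K) = true) {bs : List ℕ}
    (hs : C.searchOK m v n p (ls.map Level.base) leaves bs (C.extend v p [(0, 0)] b₀ b₀) = true)
    {g : G} (hg : Commute g (prodW gen v)) :
    ∃ i : ℕ, ∃ u ∈ leaves, g = prodW gen v ^ i * prodW gen u := by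
  unfold Cert.oneFixed at h1
  rw [band_eq_true] at h1
  have hv0 : ρ (prodW gen v) s.base = s.base :=
    Fin.ext ((s.rho_prodW hv s.base).trans (Nat.eq_of_beq_eq_true h1.1))
  have hbase : ∀ k : G, Commute k (prodW gen v) → ρ k s.base = s.base := by
    intro k hk
    by_contra hne
    have h' := Cert.allPts_spec h1.2 (ρ k s.base : ℕ) (Fin.isLt _)
    simp only [strict_eq] at h'
    rw [show Nat.beq (ρ k s.base : ℕ) 0 = false by
      rw [Bool.eq_false_iff]
      exact fun e => hne (Fin.ext (Nat.eq_of_beq_eq_true e)), pick_false, ← s.rho_prodW hv,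
      ← Equiv.Perm.mul_apply, ← map_mul, ← hk.eq, map_mul, Equiv.Perm.mul_apply, hv0] at h'
    simp at h'
  unfold Cert.firstOK at hf
  rw [band_eq_true, ltB_iff] at hf
  obtain ⟨hb, hf⟩ := hf
  have hd0 : ∀ k : G, Commute k (prodW gen v) →
      ∀ q ∈ [((0 : ℕ), (0 : ℕ))], ∃ z : Fin C.N, (z : ℕ) = q.1 ∧ (ρ k z : ℕ) = q.2 :=
    fun k hk q hq => by
      rw [List.mem_singleton.mp hq]
      exact ⟨s.base, rfl, congrArg Fin.val (hbase k hk)⟩
  have h' := Cert.allPts_spec hf (ρ g ⟨b₀, hb⟩ : ℕ) (Fin.isLt _)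
  simp only [strict_eq] at h'
  rw [band_eq_true.mpr ⟨s.pairsOK_of r hm (hd0 g hg) ⟨b₀, hb⟩, s.shiftOK_of r hm hv hg n ⟨b₀, hb⟩⟩,
    pick_true, List.any_eq_true] at h'
  obtain ⟨y, hy, hxy⟩ := h'
  obtain ⟨i, -, rfl⟩ := List.mem_map.mp hy
  have e : ρ g ⟨b₀, hb⟩ = ρ (prodW gen v ^ i) ⟨b₀, hb⟩ :=
    Fin.ext ((Nat.eq_of_beq_eq_true hxy).trans (s.shift_eq hv i ⟨b₀, hb⟩).symm)
  set g' := (prodW gen v ^ i)⁻¹ * g
  have hg' : Commute g' (prodW gen v) :=
    ((Commute.refl (prodW gen v)).pow_left i).inv_left.mul_left hg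
  have e' : ρ g' ⟨b₀, hb⟩ = ⟨b₀, hb⟩ := by
    simp only [g', map_mul, map_inv, Equiv.Perm.mul_apply, e, Equiv.Perm.inv_def,
      Equiv.symm_apply_apply]
  obtain ⟨u, hu, eu⟩ := s.searchOK_spec r hm hv hok hsize hl hg' bs _ hs (by
    intro q hq
    rcases List.mem_append.mp hq with hq | hq
    · exact hd0 g' hg' q hq
    · obtain ⟨j, -, rfl⟩ := List.mem_map.mp hq
      refine ⟨ρ (prodW gen v ^ j) ⟨b₀, hb⟩, s.shift_eq hv j _, ?_⟩
      rw [← Equiv.Perm.mul_apply, ← map_mul, (hg'.pow_right j).eq, map_mul, Equiv.Perm.mul_apply,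
        e', s.shift_eq hv])
  exact ⟨i, u, hu, by rw [← eu]; simp [g']⟩

end CfsgLib.CosetEnum
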