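import Cfsg.Agent.Lib.CosetEnum.OutSplit

/-!
The centralizer of an element inside the stabilizer of some of its fixed cosets.
-/

set_option autoImplicit false

namespace CfsgLib.CosetEnum

variable {G : Type*} [Group G] {C : Cert} {H : Subgroup G} {gen : ℕ → G}
  {ρ : G →* Equiv.Perm (Fin C.N)}

/-- An element commuting with `v` and fixing the listed cosets is a power of `v`. -/
theorem Setup.fix_list_cases (s : Setup C H gen ρ) (r : s.RepWords) [Finite G] {m : ℕ}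
    (hm : MaskInv ρ H m) {v : List ℕ} (hv : ∀ g ∈ v, g < C.K) {n p b₀ : ℕ} {F : List (Fin C.N)}
    (hf : C.firstFixOK m v n p b₀ (F.map fun x : Fin C.N => ((x : ℕ), (x : ℕ))) = true)
    {ls : List Level}
    (hok : chainOK C ls = true) (hsize : chainSize C ls = Nat.card G) {bs : List ℕ}
    (hs : C.searchOK m v n p (ls.map Level.base) [[]] bs
      (C.extend v p (F.map fun x : Fin C.N => ((x : ℕ), (x : ℕ))) b₀ b₀) = true)
    (hvt : ∀ x ∈ F, ρ (prodW gen v) x = x)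
    {g : G} (hg : Commute g (prodW gen v)) (hgF : ∀ x ∈ F, ρ g x = x) :
    g ∈ Subgroup.zpowers (prodW gen v) := by
  set d₀ := F.map fun x : Fin C.N => ((x : ℕ), (x : ℕ))
  have hd0 : ∀ k : G, (∀ x ∈ F, ρ k x = x) →
      ∀ q ∈ d₀, ∃ z : Fin C.N, (z : ℕ) = q.1 ∧ (ρ k z : ℕ) = q.2 := by
    intro k hk q hq
    obtain ⟨x, hx, rfl⟩ := List.mem_map.mp hq
    exact ⟨x, rfl, congrArg Fin.val (hk x hx)⟩
  unfold Cert.firstFixOK at hf
  rw [band_eq_true, ltB_iff] at hf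
  obtain ⟨hb, hf⟩ := hf
  have h' := Cert.allPts_spec hf (ρ g ⟨b₀, hb⟩ : ℕ) (Fin.isLt _)
  simp only [strict_eq] at h'
  rw [band_eq_true.mpr ⟨s.pairsOK_of r hm (hd0 g hgF) ⟨b₀, hb⟩,
    s.shiftOK_of r hm hv hg n ⟨b₀, hb⟩⟩, pick_true, List.any_eq_true] at h'
  obtain ⟨y, hy, hxy⟩ := h'
  obtain ⟨i, -, rfl⟩ := List.mem_map.mp hy
  have e : ρ g ⟨b₀, hb⟩ = ρ (prodW gen v ^ i) ⟨b₀, hb⟩ :=
    Fin.ext ((Nat.eq_of_beq_eq_true hxy).trans (s.shift_eq hv i ⟨b₀, hb⟩).symm)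
  set g' := (prodW gen v ^ i)⁻¹ * g
  have hpow : ∀ (k : ℕ) (x : Fin C.N), ρ (prodW gen v) x = x → ρ (prodW gen v ^ k) x = x := by
    intro k x hx
    induction k with
    | zero => simp
    | succ k ih => rw [pow_succ, map_mul, Equiv.Perm.mul_apply, hx, ih]
  have hkeep : ∀ x : Fin C.N, ρ (prodW gen v) x = x → ρ g x = x → ρ g' x = x := fun x hx hgx => by
    simp only [g', map_mul, map_inv, Equiv.Perm.mul_apply, hgx]
    rw [Equiv.Perm.inv_eq_iff_eq, hpow i x hx]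
  have hg' : Commute g' (prodW gen v) :=
    ((Commute.refl (prodW gen v)).pow_left i).inv_left.mul_left hg
  have e' : ρ g' ⟨b₀, hb⟩ = ⟨b₀, hb⟩ := by
    simp only [g', map_mul, map_inv, Equiv.Perm.mul_apply, e, Equiv.Perm.inv_def,
      Equiv.symm_apply_apply]
  obtain ⟨u, hu, eu⟩ := s.searchOK_spec r hm hv hok hsize (by simp) hg' bs _ hs (by
    intro q hq
    rcases List.mem_append.mp hq with hq | hq
    · exact hd0 g' (fun x hx => hkeep x (hvt x hx) (hgF x hx)) q hq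
    · obtain ⟨j, -, rfl⟩ := List.mem_map.mp hq
      refine ⟨ρ (prodW gen v ^ j) ⟨b₀, hb⟩, s.shift_eq hv j _, ?_⟩
      rw [← Equiv.Perm.mul_apply, ← map_mul, (hg'.pow_right j).eq, map_mul, Equiv.Perm.mul_apply,
        e', s.shift_eq hv])
  obtain rfl := List.mem_singleton.mp hu
  rw [prodW_nil] at eu
  have : g = prodW gen v ^ i := by
    rw [inv_mul_eq_one] at eu
    exact eu.symm
  rw [this]
  exact pow_mem (Subgroup.mem_zpowers _) i

end CfsgLib.CosetEnum
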