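import Cfsg.Agent.Lib.CosetEnum.Act

/-!
A lower bound on the image from a chain of orbits, and simplicity.
-/

set_option autoImplicit false

namespace CfsgLib.CosetEnum

/-- One level of a chain: base point, words fixing the earlier base points, a tree, its mask. -/
structure Level where
  /-- base point -/
  base : ℕ
  /-- words -/
  ws : List (List ℕ)
  /-- spanning tree of the orbit of the base point -/
  tree : List (ℕ × ℕ)
  /-- orbit -/
  mask : ℕ

/-- the words of a list of levels -/
def chainWords (ls : List Level) : List (List ℕ) := ls.flatMap Level.ws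

/-- the check of a chain -/
noncomputable def chainOK (C : Cert) : List Level → Bool
  | [] => true
  | l :: ls =>
    Nat.blt l.base C.N &&
      (match reach C (chainWords (l :: ls)) l.tree (2 ^ l.base) with
        | some m => Nat.beq m l.mask
        | none => false) &&
      (chainWords ls).all (fun w => Nat.beq (C.run l.base (C.revInv w)) l.base) &&
      ((l.ws.all fun w => w.all fun g => Nat.blt g C.K) && chainOK C ls)

/-- the product of the orbit lengths -/
def chainSize (C : Cert) : List Level → ℕ
  | [] => 1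
  | l :: ls => popc l.mask C.N * chainSize C ls

variable {C : Cert}

theorem chainWords_lt : ∀ {ls : List Level}, chainOK C ls = true →
    ∀ w ∈ chainWords ls, ∀ g ∈ w, g < C.K
  | [], _, w, hw => by simp [chainWords] at hw
  | l :: ls, h, w, hw => by
    simp only [chainOK, Bool.and_eq_true, List.all_eq_true, Nat.blt_eq] at h
    rw [chainWords, List.flatMap_cons, List.mem_append] at hw
    rcases hw with hw | hw
    · exact h.2.1 w hw
    · exact chainWords_lt h.2.2 w hw

/-- The permutation group of the words of a chain. -/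
noncomputable def chainGroup (c : C.Complete) (a : C.IsAction) (ls : List Level) :
    Subgroup (Equiv.Perm (Fin C.N)) :=
  Subgroup.closure {y | ∃ w ∈ chainWords ls, prodW (letterPerm c a) w = y}

theorem chainSize_le (c : C.Complete) (a : C.IsAction) : ∀ {ls : List Level},
    chainOK C ls = true → chainSize C ls ≤ Nat.card (chainGroup c a ls)
  | [], _ => Nat.one_le_iff_ne_zero.mpr Nat.card_pos.ne'
  | l :: ls, h => by
    classical
    have hlt := chainWords_lt h
    simp only [chainOK, Bool.and_eq_true, List.all_eq_true, Nat.blt_eq] at h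
    obtain ⟨⟨⟨hb, ht⟩, hfix⟩, -, hok⟩ := h
    have ih := chainSize_le c a hok
    set S := chainGroup c a (l :: ls)
    set S' := chainGroup c a ls
    have hle : S' ≤ S := by
      refine Subgroup.closure_mono ?_
      rintro y ⟨w, hw, e⟩
      exact ⟨w, by rw [chainWords, List.flatMap_cons]; exact List.mem_append.mpr (Or.inr hw), e⟩
    have hst : ∀ x ∈ S', x ⟨l.base, hb⟩ = ⟨l.base, hb⟩ := by
      intro x hx
      induction hx using Subgroup.closure_induction with
      | mem y hy =>
        obtain ⟨w, hw, rfl⟩ := hy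
        refine Fin.ext ?_
        rw [prodW_letterPerm c a (chainWords_lt hok w hw)]
        exact Nat.eq_of_beq_eq_true (hfix w hw)
      | one => simp
      | mul x y _ _ hx hy => rw [Equiv.Perm.mul_apply, hy, hx]
      | inv x _ hx => rw [Equiv.Perm.inv_eq_iff_eq, hx]
    cases hr : reach C (chainWords (l :: ls)) l.tree (2 ^ l.base) with
    | none => simp [hr] at ht
    | some m =>
      rw [hr] at ht
      obtain rfl := Nat.eq_of_beq_eq_true ht
      let O : Finset (Fin C.N) := Finset.univ.filter fun z => l.mask.testBit z = true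
      have hO : ∀ z ∈ O, ∃ t ∈ S, t ⟨l.base, hb⟩ = z := by
        intro z hz
        refine (reach_spec
          (P := fun y => ∃ hy : y < C.N, ∃ t ∈ S, t ⟨l.base, hb⟩ = (⟨y, hy⟩ : Fin C.N))
          ?_ _ _ _ hr ?_ z (by simpa [O] using hz)).2
        · rintro y i hi ⟨hy, t, ht', e⟩
          have hw : (chainWords (l :: ls)).getD i [] ∈ chainWords (l :: ls) := by
            rw [List.getD_eq_getElem _ _ hi]; exact List.getElem_mem hi
          have ha := prodW_letterPerm c a (hlt _ hw) ⟨y, hy⟩
          refine ⟨ha ▸ Fin.isLt _, _ * t, mul_mem (Subgroup.subset_closure ⟨_, hw, rfl⟩) ht', ?_⟩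
          rw [Equiv.Perm.mul_apply, e]
          exact Fin.ext ha
        · intro y hy
          rw [Nat.testBit_two_pow, decide_eq_true_eq] at hy
          subst hy
          exact ⟨hb, 1, one_mem _, by simp⟩
      choose t ht1 ht2 using hO
      let φ : O × S' → S := fun q => ⟨t q.1 q.1.2 * q.2, mul_mem (ht1 _ _) (hle q.2.2)⟩
      have hφ : Function.Injective φ := by
        rintro ⟨⟨z, hz⟩, x⟩ ⟨⟨z', hz'⟩, x'⟩ e
        have e' := congrArg Subtype.val e
        simp only [φ] at e'
        have e1 := congrArg (fun f : Equiv.Perm (Fin C.N) => f ⟨l.base, hb⟩) e'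
        simp only [Equiv.Perm.mul_apply, hst _ x.2, hst _ x'.2, ht2] at e1
        subst e1
        simp only [Prod.mk.injEq, true_and]
        exact Subtype.ext (mul_left_cancel e')
      have hcard := Nat.card_le_card_of_injective φ hφ
      rw [Nat.card_prod, Nat.card_eq_finsetCard] at hcard
      have hO' : popc l.mask C.N = O.card := by
        rw [popc_eq, ← Finset.card_map Fin.valEmbedding]
        congr 1
        ext y
        simp only [O, Finset.mem_map, Finset.mem_filter, Finset.mem_range, Finset.mem_univ,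
          true_and, Fin.valEmbedding_apply]
        exact ⟨fun ⟨h1, h2⟩ => ⟨⟨y, h1⟩, h2, rfl⟩, fun ⟨z, hz, e⟩ => e ▸ ⟨z.2, hz⟩⟩
      rw [chainSize, hO']
      exact le_trans (Nat.mul_le_mul_left _ ih) hcard

variable {G : Type*} [Group G] {H : Subgroup G} {gen : ℕ → G} {ρ : G →* Equiv.Perm (Fin C.N)}

theorem Setup.chainGroup_le (s : Setup C H gen ρ) {ls : List Level} (h : chainOK C ls = true) :
    chainGroup s.complete s.action ls ≤ ρ.range := by
  refine (Subgroup.closure_le _).mpr ?_
  rintro y ⟨w, hw, rfl⟩
  exact ⟨prodW gen w, by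
    rw [map_prodW]
    exact prodW_congr fun g hg => s.rho_gen g (chainWords_lt h w hw g hg)⟩

/-- The order is known and the action is faithful. -/
theorem Setup.card_eq (s : Setup C H gen ρ) [Finite G] {n : ℕ} (hn : Nat.card G ≤ n)
    {ls : List Level} (h : chainOK C ls = true) (hsize : chainSize C ls = n) :
    Nat.card G = n ∧ Function.Injective ρ := by
  have h1 : n ≤ Nat.card ρ.range := by
    rw [← hsize]
    exact (chainSize_le s.complete s.action h).trans
      (Subgroup.card_le_of_le (s.chainGroup_le h))
  have h2 : Nat.card ρ.range ≤ Nat.card G :=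
    Nat.card_le_card_of_surjective _ ρ.rangeRestrict_surjective
  refine ⟨le_antisymm hn (h1.trans h2), ?_⟩
  have hcard : Nat.card G = Nat.card ρ.range := by omega
  have hb : Function.Bijective ρ.rangeRestrict := by
    haveI := Fintype.ofFinite G
    haveI := Fintype.ofFinite ρ.range
    rw [Fintype.bijective_iff_surjective_and_card]
    exact ⟨ρ.rangeRestrict_surjective, by simpa [Nat.card_eq_fintype_card] using hcard⟩
  exact fun x y e => hb.1 (Subtype.ext e)

/-- For every union of suborbits containing the base point, the size is trivial or full, or does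
not divide the degree. -/
def unionsOK (N : ℕ) : List ℕ → ℕ → Bool
  | [], acc => !(Nat.beq (N % acc) 0) || Nat.beq acc 1 || Nat.beq acc N
  | z :: zs, acc => unionsOK N zs acc && unionsOK N zs (acc + z)

theorem unionsOK_spec {N : ℕ} : ∀ {zs : List ℕ} {acc : ℕ}, unionsOK N zs acc = true →
    ∀ S : Finset (Fin zs.length), (acc + ∑ i ∈ S, zs[i]) ∣ N →
      acc + ∑ i ∈ S, zs[i] = 1 ∨ acc + ∑ i ∈ S, zs[i] = N
  | [], acc, h, S, hd => by
    obtain rfl : S = ∅ := Finset.eq_empty_of_forall_notMem fun i => i.elim0
    simp only [Finset.sum_empty, add_zero] at hd ⊢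
    simp only [unionsOK, Bool.or_eq_true, Bool.not_eq_true'] at h
    rcases h with (h | h) | h
    · rw [Nat.mod_eq_zero_of_dvd (m := acc) (n := N) |> fun f => f hd] at h
      simp at h
    · exact Or.inl (Nat.eq_of_beq_eq_true h)
    · exact Or.inr (Nat.eq_of_beq_eq_true h)
  | z :: zs, acc, h, S, hd => by
    classical
    simp only [unionsOK, Bool.and_eq_true] at h
    let T : Finset (Fin zs.length) := Finset.univ.filter fun i => i.succ ∈ S
    have hsplit : ∑ i ∈ S, (z :: zs)[i] =
        (if (0 : Fin (zs.length + 1)) ∈ S then z else 0) + ∑ i ∈ T, zs[i] := by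
      refine (Fintype.sum_ite_mem S _).symm.trans ((Fin.sum_univ_succ _).trans ?_)
      simp only [T, Finset.sum_filter]
      rfl
    rw [hsplit, ← add_assoc] at hd ⊢
    split at hd <;> rename_i h0
    · rw [if_pos h0] at *
      exact unionsOK_spec h.2 T hd
    · rw [if_neg h0] at *
      rw [add_zero] at *
      exact unionsOK_spec h.1 T hd

/-- The masks cover every point once, the first being the base point's. -/
def maskCover (C : Cert) (ms : List ℕ) (x : ℕ) : Bool :=
  Nat.beq ((List.range (ms.length + 1)).countP fun i => Nat.testBit ((1 :: ms).getD i 0) x) 1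

/-- A list of suborbit masks, besides the base point's, that partition the points. -/
structure Suborbits (C : Cert) (ms : List ℕ) : Prop where
  orbit : ∀ m ∈ ms, ∃ r, Suborbit C r m
  cover : ∀ x < C.N, maskCover C ms x = true
  unions : unionsOK C.N (ms.map fun m => popc m C.N) 1 = true

theorem Setup.dvd_card_normal (s : Setup C H gen ρ) [Finite G] (hinj : Function.Injective ρ)
    {ms : List ℕ} (so : Suborbits C ms) (N : Subgroup G) (hN : N.Normal) (hne : N ≠ ⊥) :
    C.N ∣ Nat.card N := by
  classical
  let O : Finset (Fin C.N) := Finset.univ.filter fun z => ∃ n ∈ N, ρ n s.base = z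
  have hbase : s.base ∈ O := by simpa [O] using ⟨1, one_mem N, by simp⟩
  have hclosed : ∀ h ∈ H, ∀ z ∈ O, ρ h z ∈ O := by
    intro h hh z hz
    simp only [O, Finset.mem_filter, Finset.mem_univ, true_and] at hz ⊢
    obtain ⟨n, hn, rfl⟩ := hz
    refine ⟨h * n * h⁻¹, hN.conj_mem n hn h, ?_⟩
    rw [map_mul, map_mul, Equiv.Perm.mul_apply, Equiv.Perm.mul_apply, s.rho_fix (inv_mem hh)]
  -- orbit-stabilizer for `N`
  let act : MulAction N (Fin C.N) := MulAction.compHom _ (ρ.comp N.subtype)
  have horb : (MulAction.orbit N s.base : Set (Fin C.N)) = ↑O := by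
    ext z
    simp only [O, Finset.coe_filter, Finset.mem_univ, true_and, Set.mem_ofPred_eq]
    exact ⟨fun ⟨n, e⟩ => ⟨n, n.2, e⟩, fun ⟨n, hn, e⟩ => ⟨⟨n, hn⟩, e⟩⟩
  have hos : O.card = (MulAction.stabilizer N s.base).index := by
    rw [MulAction.index_stabilizer, horb, Set.ncard_coe_finset]
  have hst : MulAction.stabilizer N s.base = H.subgroupOf N := by
    ext n
    rw [MulAction.mem_stabilizer_iff, Subgroup.mem_subgroupOf, s.mem_iff]
    rfl
  have hdvdN : O.card ∣ C.N := by
    rw [hos, hst, ← s.index_eq]
    haveI := hN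
    have : (H.subgroupOf N).index = H.relIndex (H ⊔ N) := by
      change H.relIndex N = _
      have e1 := Subgroup.relIndex_mul_relIndex (H ⊓ N) H (H ⊔ N) inf_le_left le_sup_left
      have e2 := Subgroup.relIndex_mul_relIndex (H ⊓ N) N (H ⊔ N) inf_le_right le_sup_right
      rw [Subgroup.inf_relIndex_left] at e1
      rw [Subgroup.inf_relIndex_right, Subgroup.relIndex_sup_right, ← e1, mul_comm] at e2
      exact Nat.eq_of_mul_eq_mul_left (Nat.pos_of_ne_zero (Subgroup.index_ne_zero_of_finite (H := N.subgroupOf H))) e2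
    rw [this]
    exact Subgroup.relIndex_dvd_index_of_le le_sup_left
  -- `O` is a union of suborbits
  let Sel : Finset (Fin (ms.map fun m => popc m C.N).length) := Finset.univ.filter fun i =>
    ∃ z ∈ O, Nat.testBit (ms.getD i 0) z = true
  have hsum : 1 + ∑ i ∈ Sel, (ms.map fun m => popc m C.N)[i] = O.card := by
    have hlen : (ms.map fun m => popc m C.N).length = ms.length := List.length_map _
    have hcl : ∀ i : Fin ms.length, (∃ z ∈ O, Nat.testBit ms[i] z = true) →
        ∀ z : Fin C.N, Nat.testBit ms[i] z = true → z ∈ O := by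
      rintro i ⟨z0, hz0, hb0⟩ z hz
      obtain ⟨r, o⟩ := so.orbit _ (List.getElem_mem i.2)
      obtain ⟨h0, hh0, e0⟩ := (s.orbit_mem_iff o z0).mpr hb0
      obtain ⟨h1, hh1, e1⟩ := (s.orbit_mem_iff o z).mpr hz
      have := hclosed (h1 * h0⁻¹) (mul_mem hh1 (inv_mem hh0)) z0 hz0
      rwa [← e0, map_mul, map_inv, Equiv.Perm.mul_apply, Equiv.Perm.inv_def,
        Equiv.symm_apply_apply, e1] at this
    have hone : ∀ x : Fin C.N, ((List.range (ms.length + 1)).filter fun i =>
        Nat.testBit ((1 :: ms).getD i 0) x).length = 1 := by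
      intro x
      rw [← List.countP_eq_length_filter]
      exact Nat.eq_of_beq_eq_true (so.cover x x.2)
    -- each point lies in exactly one mask
    let cls : Fin C.N → Finset (Fin (ms.length + 1)) := fun x =>
      Finset.univ.filter fun i => Nat.testBit ((1 :: ms).getD i 0) x
    have hcls : ∀ x, (cls x).card = 1 := by
      intro x
      have h := hone x
      rw [← List.toFinset_card_of_nodup (List.nodup_range.filter _)] at h
      refine Eq.trans ?_ h
      rw [← Finset.card_map Fin.valEmbedding]
      congr 1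
      ext i
      simp only [cls, Finset.mem_map, Finset.mem_filter, Finset.mem_univ, true_and,
        Fin.valEmbedding_apply, List.mem_toFinset, List.mem_filter, List.mem_range]
      exact ⟨fun ⟨j, hj, e⟩ => e ▸ ⟨j.2, hj⟩, fun ⟨h1, h2⟩ => ⟨⟨i, h1⟩, h2, rfl⟩⟩
    have key : O.card = ∑ i : Fin (ms.length + 1),
        (O.filter fun z : Fin C.N => Nat.testBit ((1 :: ms).getD i 0) z).card := by
      simp only [Finset.card_filter]
      rw [Finset.sum_comm, Finset.card_eq_sum_ones]
      refine Finset.sum_congr rfl fun z _ => ?_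
      rw [← Finset.card_filter]
      exact (hcls z).symm
    rw [key, Fin.sum_univ_succ]
    have h1 : (O.filter fun z : Fin C.N => Nat.testBit ((1 :: ms).getD (0 : Fin (ms.length+1)) 0) z)
        = {s.base} := by
      ext z
      simp only [Finset.mem_filter, Finset.mem_singleton, Fin.val_zero, List.getD_cons_zero,
        Nat.testBit_one_eq_true_iff_self_eq_zero]
      exact ⟨fun h => Fin.ext h.2, fun h => by subst h; exact ⟨hbase, rfl⟩⟩
    rw [h1, Finset.card_singleton, Finset.sum_filter]
    congr 1
    refine Fintype.sum_equiv (finCongr hlen) _ _ fun i => ?_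
    simp only [Fin.val_succ, List.getD_cons_succ, finCongr_apply, Fin.coe_cast]
    have hi : (i : ℕ) < ms.length := hlen ▸ i.2
    rw [List.getD_eq_getElem _ _ hi]
    split
    · rename_i hz
      rw [Fin.getElem_fin, List.getElem_map, popc_eq, ← Finset.card_map Fin.valEmbedding]
      congr 1
      ext y
      simp only [Finset.mem_map, Finset.mem_filter, Finset.mem_range, Fin.valEmbedding_apply]
      exact ⟨fun ⟨h1, h2⟩ => ⟨⟨y, h1⟩, ⟨hcl ⟨i, hi⟩ hz ⟨y, h1⟩ h2, h2⟩, rfl⟩,
        fun ⟨z, ⟨_, hz'⟩, e⟩ => e ▸ ⟨z.2, hz'⟩⟩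
    · rename_i hz
      rw [Finset.filter_false_of_mem fun z hzO hb => hz ⟨z, hzO, hb⟩, Finset.card_empty]
  have hd := hdvdN
  rw [← hsum] at hd
  rcases unionsOK_spec so.unions Sel hd with h | h
  · -- trivial orbit: the normal subgroup fixes everything
    exfalso
    rw [hsum, Finset.card_eq_one] at h
    obtain ⟨z0, hz0⟩ := h
    refine hne ((Subgroup.eq_bot_iff_forall _).mpr fun n hn => hinj ?_)
    rw [map_one]
    refine Equiv.ext fun i => ?_
    obtain ⟨x, rfl⟩ := s.pretransitive i
    have h1 : ρ (x⁻¹ * n * x) s.base ∈ O := by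
      simp only [O, Finset.mem_filter, Finset.mem_univ, true_and]
      exact ⟨_, by simpa using hN.conj_mem n hn x⁻¹, rfl⟩
    rw [hz0, Finset.mem_singleton] at h1 hbase
    rw [← hbase, map_mul, map_mul, map_inv, Equiv.Perm.mul_apply, Equiv.Perm.mul_apply,
      Equiv.Perm.inv_eq_iff_eq] at h1
    exact h1
  · rw [hsum, hos] at h
    exact ⟨_, ((MulAction.stabilizer N s.base).card_mul_index.symm.trans
      (by rw [h, mul_comm]))⟩

/-- A normal subgroup whose order has the whole `p`-part contains every `p`-element. -/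
theorem mem_of_ppart {G : Type*} [Group G] [Finite G] {p : ℕ} (hp : p.Prime) {N : Subgroup G}
    (hN : N.Normal) {a : ℕ} (ha : p ^ a ∣ Nat.card N) (hmax : ¬ p ^ (a + 1) ∣ Nat.card G) {x : G}
    {k : ℕ} (hx : x ^ p ^ k = 1) : x ∈ N := by
  haveI := hN
  have hidx : ¬ p ∣ N.index := fun hd => hmax (by
    rw [← N.card_mul_index, pow_succ]; exact mul_dvd_mul ha hd)
  have h1 : orderOf (x : G ⧸ N) ∣ p ^ k :=
    orderOf_dvd_of_pow_eq_one (by rw [← QuotientGroup.mk_pow, hx, QuotientGroup.mk_one])
  have h2 : orderOf (x : G ⧸ N) ∣ N.index := orderOf_dvd_natCard _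
  have h3 : orderOf (x : G ⧸ N) = 1 := Nat.eq_one_of_dvd_coprimes
    (Nat.Coprime.pow_left k ((Nat.Prime.coprime_iff_not_dvd hp).mpr hidx)) h1 h2
  rwa [orderOf_eq_one_iff, QuotientGroup.eq_one_iff] at h3

end CfsgLib.CosetEnum
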