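import Cfsg.Agent.Lib.CosetEnum.Chain

/-!
The check of a chain, one level at a time.
-/

set_option autoImplicit false

namespace CfsgLib.CosetEnum

/-- the check of one level, given the words of the later levels -/
noncomputable def levelOK (C : Cert) (l : Level) (ls : List Level) : Bool :=
  Nat.blt l.base C.N &&
    (match reach C (chainWords (l :: ls)) l.tree (2 ^ l.base) with
      | some m => Nat.beq m l.mask
      | none => false) &&
    (chainWords ls).all (fun w => Nat.beq (C.run l.base (C.revInv w)) l.base) &&
    l.ws.all fun w => w.all fun g => Nat.blt g C.K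

theorem chainOK_cons {C : Cert} {l : Level} {ls : List Level} (h : levelOK C l ls = true)
    (hs : chainOK C ls = true) : chainOK C (l :: ls) = true := by
  simp only [levelOK, Bool.and_eq_true] at h
  simp only [chainOK, Bool.and_eq_true]
  exact ⟨⟨⟨h.1.1.1, h.1.1.2⟩, h.1.2⟩, h.2, hs⟩

theorem chainSize_cons {C : Cert} {l : Level} {ls : List Level} {a b : ℕ}
    (h : popc l.mask C.N = a) (hs : chainSize C ls = b) : chainSize C (l :: ls) = a * b := by
  rw [chainSize, h, hs]

end CfsgLib.CosetEnum
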