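import Cfsg.Agent.Lib.CosetEnum.Basic

/-!
Joining two chunks of a Boolean scan.
-/

set_option autoImplicit false

namespace CfsgLib.CosetEnum

theorem allUp_merge {f : ℕ → Bool} {k base base' : ℕ} (h1 : allUp f k base = true)
    (h2 : allUp f k base' = true) (e : base' = base + 2 ^ k := by norm_num) :
    allUp f (k + 1) base = true := by
  subst e
  change strict base (fun b => band (allUp f k b) (allUp f k (b + 2 ^ k))) = true
  rw [strict_eq, band_eq_true]
  exact ⟨h1, h2⟩

end CfsgLib.CosetEnum
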