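import Cfsg.Agent.Lib.CosetEnum.Chunks

/-!
Orbits and base chains given by tables, for actions on many points.
-/

set_option autoImplicit false

namespace CfsgLib.CosetEnum

/-! ### Checks given index by index -/

theorem Cert.complete_of_forall (C : Cert) (h0 : C.headOK = true)
    (h1 : ∀ i < C.F, C.stepOK' i = true) (h2 : ∀ i < C.N, C.entryOK' i = true) : C.Complete where
  head := h0
  step i hi := by
    have h := h1 i hi
    unfold Cert.stepOK' at h
    simp only [strict_eq] at h
    rwa [show ltB i C.F = true from ltB_iff.mpr hi, pick_true] at h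
  entry i hi := by
    have h := h2 i hi
    unfold Cert.entryOK' at h
    simp only [strict_eq] at h
    rwa [show ltB i C.N = true from ltB_iff.mpr hi, pick_true] at h

theorem Cert.isAction_of_forall (C : Cert) (h0 : C.ndOK = true)
    (h0' : ((List.range C.K).all fun g => Nat.beq (C.inv (C.inv g)) g) = true)
    (h1 : ∀ i < C.N, C.actOK' i = true) (h2 : ∀ i < C.N, C.ndImgOK' i = true)
    (h3 : ∀ i < C.M, C.imgOK' i = true) : C.IsAction where
  act i hi := by
    have h := h1 i hi
    unfold Cert.actOK' at h
    simp only [strict_eq] at h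
    rwa [show ltB i C.N = true from ltB_iff.mpr hi, pick_true] at h
  nodes n hn := by
    have h := h3 n hn
    unfold Cert.imgOK' at h
    simp only [strict_eq] at h
    rwa [show ltB n C.M = true from ltB_iff.mpr hn, pick_true] at h
  ndImg := h2
  sub := h0
  inv_inv := h0'

/-- Two adjacent blocks make one. -/
theorem allUp_join {f : ℕ → Bool} {k b c : ℕ} (hc : Nat.beq c (b + 2 ^ k) = true)
    (h : allUp f k b = true) (h' : allUp f k c = true) : allUp f (k + 1) b = true := by
  obtain rfl := Nat.eq_of_beq_eq_true hc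
  change strict b (fun b => band (allUp f k b) (allUp f k (b + 2 ^ k))) = true
  rw [strict_eq, h, h']
  rfl

/-- All the words send points of a class into it. -/
noncomputable def allWords (ws : List (List ℕ)) (f : List ℕ → Bool) : Bool :=
  List.rec true (fun w _ ih => band (f w) ih) ws

theorem allWords_spec {ws : List (List ℕ)} {f : List ℕ → Bool} (h : allWords ws f = true) :
    ∀ w ∈ ws, f w = true := by
  induction ws with
  | nil => simp
  | cons w ws ih =>
    change band (f w) (allWords ws f) = true at h
    rw [band_eq_true] at h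
    intro v hv
    rcases List.mem_cons.mp hv with rfl | hv
    · exact h.1
    · exact ih h.2 v hv

/-! ### Counting -/

/-- How many of `f base, …, f (base + 2^k - 1)` hold. -/
noncomputable def countUp (f : ℕ → Bool) (k : ℕ) : ℕ → ℕ :=
  Nat.rec (fun b => pick (f b) (nat_lit 1) (nat_lit 0))
    (fun k ih base => strict base fun b =>
      strict (ih b) fun l => strict (ih (Nat.add b (Nat.pow (nat_lit 2) k))) fun r => Nat.add l r) k

theorem countUp_eq {f : ℕ → Bool} : ∀ (k base : ℕ),
    countUp f k base = ((Finset.Ico base (base + 2 ^ k)).filter fun x => f x).card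
  | 0, base => by
    rw [pow_zero, Nat.Ico_succ_singleton, Finset.filter_singleton]
    change pick (f base) 1 0 = _
    cases f base <;> simp
  | k + 1, base => by
    change strict base (fun b => strict (countUp f k b) fun l =>
      strict (countUp f k (b + 2 ^ k)) fun r => l + r) = _
    simp only [strict_eq]
    rw [countUp_eq k base, countUp_eq k (base + 2 ^ k)]
    have e : base + 2 ^ (k + 1) = base + 2 ^ k + 2 ^ k := by rw [pow_succ]; omega
    have hp := Nat.two_pow_pos k
    rw [e, ← Finset.card_union_of_disjoint (Finset.disjoint_filter_filter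
      (Finset.Ico_disjoint_Ico_consecutive _ _ _)), ← Finset.filter_union,
      Finset.Ico_union_Ico_eq_Ico (by omega) (by omega)]

/-! ### Orbits of the subgroup -/

/-- Classes of points, each with a root and a forest of words leading to the root. -/
structure OrbTab where
  /-- class of a point, 4 bits -/
  clsTab : PTab
  /-- point ↦ parent + 2^20 * word number, 28 bits -/
  stepTab : PTab
  /-- point ↦ rank, 20 bits -/
  rnkTab : PTab
  /-- roots -/
  roots : List ℕ

namespace OrbTab

variable (C : Cert) (O : OrbTab)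

/-- class of a point -/
noncomputable def cls (x : ℕ) : ℕ := O.clsTab.at' (nat_lit 4) x

/-- rank of a point -/
noncomputable def rnk (x : ℕ) : ℕ := O.rnkTab.at' (nat_lit 20) x

/-- the check at a point -/
noncomputable def ok (x : ℕ) : Bool :=
  strict x fun x => pick (ltB x C.N)
    (strict (O.cls x) fun k => band (ltB k O.roots.length)
      (band (allWords C.subs fun w => Nat.beq (O.cls (C.run x (C.revInv w))) k)
        (pick (Nat.beq x (nth O.roots k 0)) true
          (strict (O.stepTab.at' (nat_lit 28) x) fun r =>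
           strict (Nat.mod r (nat_lit 1048576)) fun y =>
           strict (Nat.div r (nat_lit 1048576)) fun i =>
            band (ltB y C.N) (band (Nat.beq (O.cls y) k) (band (ltB (O.rnk y) (O.rnk x))
              (band (ltB i C.subs.length)
                (Nat.beq (C.run y (C.revInv (nthWord C.subs i))) x))))))))
    true

/-- whether a point lies in a class -/
noncomputable def inCls (k x : ℕ) : Bool :=
  strict x fun x => band (ltB x C.N) (Nat.beq (O.cls x) k)

end OrbTab

/-- A table of the orbits of the subgroup, with their sizes. -/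
structure OrbTab.Valid (C : Cert) (O : OrbTab) (sizes : List ℕ) (e : ℕ) : Prop where
  check : ∀ x < C.N, O.ok C x = true
  le : C.N ≤ 2 ^ e
  root : ∀ k < O.roots.length, nth O.roots k 0 < C.N ∧ O.cls (nth O.roots k 0) = k
  zero : nth O.roots 0 1 = 0
  len : O.roots.length = sizes.length + 1
  size : ∀ i < sizes.length, countUp (O.inCls C (i + 1)) e 0 = sizes.getD i 0
  unions : unionsOK C.N sizes 1 = true

namespace OrbTab.Valid

variable {G : Type*} [Group G] {C : Cert} {H : Subgroup G} {gen : ℕ → G}
  {ρ : G →* Equiv.Perm (Fin C.N)} {O : OrbTab} {sizes : List ℕ} {e : ℕ}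

theorem spec (v : O.Valid C sizes e) (x : ℕ) (hx : x < C.N) :
    O.cls x < O.roots.length ∧ (∀ w ∈ C.subs, O.cls (C.run x (C.revInv w)) = O.cls x) ∧
      (x = nth O.roots (O.cls x) 0 ∨ ∃ y i, y < C.N ∧ O.cls y = O.cls x ∧ O.rnk y < O.rnk x ∧
        i < C.subs.length ∧ C.run y (C.revInv (C.subs.getD i [])) = x) := by
  have h := v.check x hx
  unfold OrbTab.ok at h
  simp only [strict_eq] at h
  rw [show ltB x C.N = true from ltB_iff.mpr hx, pick_true, band_eq_true, band_eq_true, ltB_iff]
    at h
  refine ⟨h.1, fun w hw => Nat.eq_of_beq_eq_true (allWords_spec h.2.1 w hw), ?_⟩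
  cases hr : Nat.beq x (nth O.roots (O.cls x) 0)
  · have h3 := h.2.2
    rw [hr, pick_false] at h3
    simp only [band_eq_true, ltB_iff] at h3
    obtain ⟨h4, h5, h6, h7, h8⟩ := h3
    exact Or.inr ⟨_, _, h4, Nat.eq_of_beq_eq_true h5, h6, h7,
      by rw [← nthWord_eq]; exact Nat.eq_of_beq_eq_true h8⟩
  · exact Or.inl (Nat.eq_of_beq_eq_true hr)

theorem cls_rho (v : O.Valid C sizes e) (s : Setup C H gen ρ) {h : G} (hh : h ∈ H)
    (x : Fin C.N) : O.cls (ρ h x) = O.cls x := by
  rw [s.H_eq] at hh
  induction hh using Subgroup.closure_induction generalizing x with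
  | mem y hy =>
    obtain ⟨w, hw, rfl⟩ := hy
    rw [s.rho_prodW (s.sub_lt hw)]
    exact (v.spec x x.2).2.1 w hw
  | one => simp
  | mul a b _ _ ha hb => rw [map_mul, Equiv.Perm.mul_apply, ha, hb]
  | inv a _ ha =>
    have := ha ((ρ a)⁻¹ x)
    rw [map_inv]
    simpa using this.symm

/-- The root of a class, as a point. -/
noncomputable def rootPt (v : O.Valid C sizes e) (k : ℕ) (hk : k < O.roots.length) : Fin C.N :=
  ⟨nth O.roots k 0, (v.root k hk).1⟩

theorem exists_from_root (v : O.Valid C sizes e) (s : Setup C H gen ρ) (x : Fin C.N) :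
    ∃ h ∈ H, ρ h (v.rootPt (O.cls x) (v.spec x x.2).1) = x := by
  suffices hmain : ∀ r, ∀ x : Fin C.N, O.rnk (x : ℕ) = r →
      ∃ h ∈ H, ρ h (v.rootPt (O.cls x) (v.spec x x.2).1) = x from hmain _ x rfl
  intro r
  induction r using Nat.strong_induction_on with
  | _ r ih =>
    intro x hr
    rcases (v.spec x x.2).2.2 with h | ⟨y, i, hy, hc, hlt, hi, hxy⟩
    · exact ⟨1, one_mem _, by rw [map_one]; exact Fin.ext h.symm⟩
    · subst hr
      obtain ⟨h, hh, hroot⟩ := ih (O.rnk y) hlt ⟨y, hy⟩ rfl
      have hw : C.subs.getD i [] ∈ C.subs := by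
        rw [List.getD_eq_getElem _ _ hi]; exact List.getElem_mem hi
      refine ⟨prodW gen (C.subs.getD i []) * h, mul_mem (s.model.sub _ hw) hh, ?_⟩
      have e : v.rootPt (O.cls x) (v.spec x x.2).1 = v.rootPt (O.cls y) (v.spec y hy).1 := by
        refine Fin.ext ?_
        change nth O.roots (O.cls x) 0 = nth O.roots (O.cls y) 0
        rw [hc]
      rw [map_mul, Equiv.Perm.mul_apply, e, hroot]
      exact Fin.ext (by rw [s.rho_prodW (s.sub_lt hw)]; exact hxy)

theorem orbit_iff (v : O.Valid C sizes e) (s : Setup C H gen ρ) (x y : Fin C.N) :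
    (∃ h ∈ H, ρ h x = y) ↔ O.cls x = O.cls y := by
  constructor
  · rintro ⟨h, hh, rfl⟩
    exact (v.cls_rho s hh x).symm
  · intro hc
    obtain ⟨a, ha, ha'⟩ := v.exists_from_root s x
    obtain ⟨b, hb, hb'⟩ := v.exists_from_root s y
    refine ⟨b * a⁻¹, mul_mem hb (inv_mem ha), ?_⟩
    have e : v.rootPt (O.cls x) (v.spec x x.2).1 = v.rootPt (O.cls y) (v.spec y y.2).1 := by
      refine Fin.ext ?_
      change nth O.roots (O.cls x) 0 = nth O.roots (O.cls y) 0
      rw [hc]
    rw [map_mul, Equiv.Perm.mul_apply, map_inv]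
    conv_lhs => rw [← ha', Equiv.Perm.inv_def, Equiv.symm_apply_apply, e]
    exact hb'

theorem cls_base (v : O.Valid C sizes e) (s : Setup C H gen ρ) :
    O.cls (s.base : ℕ) = 0 := by
  have h1 : (0 : ℕ) < O.roots.length := by rw [v.len]; omega
  have h := (v.root 0 h1).2
  have hz := v.zero
  rw [nth_eq] at h hz
  rw [List.getD_eq_getElem _ _ h1] at h hz
  rw [hz] at h
  exact h

/-- The normal subgroups other than the trivial one are transitive. -/
theorem dvd_card_normal (v : O.Valid C sizes e) (s : Setup C H gen ρ) [Finite G]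
    (hinj : Function.Injective ρ) (N : Subgroup G) (hN : N.Normal) (hne : N ≠ ⊥) :
    C.N ∣ Nat.card N := by
  classical
  let S : Finset (Fin C.N) := Finset.univ.filter fun z => ∃ n ∈ N, ρ n s.base = z
  have hbase : s.base ∈ S := by simpa [S] using ⟨1, one_mem N, by simp⟩
  have hclosed : ∀ x ∈ S, ∀ y : Fin C.N, O.cls x = O.cls y → y ∈ S := by
    intro x hx y hc
    simp only [S, Finset.mem_filter, Finset.mem_univ, true_and] at hx ⊢
    obtain ⟨n, hn, rfl⟩ := hx
    obtain ⟨h, hh, rfl⟩ := (v.orbit_iff s _ y).mpr hc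
    refine ⟨h * n * h⁻¹, hN.conj_mem n hn h, ?_⟩
    rw [map_mul, map_mul, Equiv.Perm.mul_apply, Equiv.Perm.mul_apply, s.rho_fix (inv_mem hh)]
  let act : MulAction N (Fin C.N) := MulAction.compHom _ (ρ.comp N.subtype)
  have horb : (MulAction.orbit N s.base : Set (Fin C.N)) = ↑S := by
    ext z
    simp only [S, Finset.coe_filter, Finset.mem_univ, true_and, Set.mem_ofPred_eq]
    exact ⟨fun ⟨n, e⟩ => ⟨n, n.2, e⟩, fun ⟨n, hn, e⟩ => ⟨⟨n, hn⟩, e⟩⟩
  have hos : S.card = (MulAction.stabilizer N s.base).index := by
    rw [MulAction.index_stabilizer, horb, Set.ncard_coe_finset]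
  have hst : MulAction.stabilizer N s.base = H.subgroupOf N := by
    ext n
    rw [MulAction.mem_stabilizer_iff, Subgroup.mem_subgroupOf, s.mem_iff]
    rfl
  have hdvdN : S.card ∣ C.N := by
    rw [hos, hst, ← s.index_eq]
    haveI := hN
    have : (H.subgroupOf N).index = H.relIndex (H ⊔ N) := by
      change H.relIndex N = _
      have e1 := Subgroup.relIndex_mul_relIndex (H ⊓ N) H (H ⊔ N) inf_le_left le_sup_left
      have e2 := Subgroup.relIndex_mul_relIndex (H ⊓ N) N (H ⊔ N) inf_le_right le_sup_right
      rw [Subgroup.inf_relIndex_left] at e1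
      rw [Subgroup.inf_relIndex_right, Subgroup.relIndex_sup_right, ← e1, mul_comm] at e2
      exact Nat.eq_of_mul_eq_mul_left (Nat.pos_of_ne_zero
        (Subgroup.index_ne_zero_of_finite (H := N.subgroupOf H))) e2
    rw [this]
    exact Subgroup.relIndex_dvd_index_of_le le_sup_left
  let Sel : Finset (Fin sizes.length) :=
    Finset.univ.filter fun i => ∃ z ∈ S, O.cls (z : ℕ) = i + 1
  have hsum : 1 + ∑ i ∈ Sel, sizes[i] = S.card := by
    have hmaps : ∀ z ∈ S, O.cls (z : ℕ) ∈ Finset.range (sizes.length + 1) := fun z _ => by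
      rw [Finset.mem_range, ← v.len]; exact (v.spec z z.2).1
    rw [Finset.card_eq_sum_card_fiberwise hmaps, Finset.sum_range_succ']
    have h0 : (S.filter fun z : Fin C.N => O.cls (z : ℕ) = 0) = {s.base} := by
      ext z
      simp only [Finset.mem_filter, Finset.mem_singleton]
      refine ⟨fun h => ?_, fun h => h ▸ ⟨hbase, v.cls_base s⟩⟩
      obtain ⟨a, ha, rfl⟩ := (v.orbit_iff s s.base z).mpr (by rw [v.cls_base s, h.2])
      exact s.rho_fix ha
    rw [h0, Finset.card_singleton, add_comm 1]
    congr 1
    rw [Finset.sum_filter, ← Fin.sum_univ_eq_sum_range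
      (fun i => (S.filter fun z : Fin C.N => O.cls (z : ℕ) = i + 1).card)]
    refine Fintype.sum_congr _ _ fun i => ?_
    split
    · rename_i hz
      obtain ⟨z0, hz0, hc0⟩ := hz
      rw [Fin.getElem_fin, ← List.getD_eq_getElem sizes 0 i.2, ← v.size i i.2, countUp_eq,
        ← Finset.card_map Fin.valEmbedding]
      congr 1
      ext y
      simp only [Finset.mem_map, Finset.mem_filter, Finset.mem_Ico, Fin.valEmbedding_apply,
        OrbTab.inCls, strict_eq, band_eq_true, ltB_iff]
      constructor
      · rintro ⟨-, hy, hc⟩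
        exact ⟨⟨y, hy⟩, ⟨hclosed z0 hz0 ⟨y, hy⟩ (hc0.trans (Nat.eq_of_beq_eq_true hc).symm),
          Nat.eq_of_beq_eq_true hc⟩, rfl⟩
      · rintro ⟨z, ⟨-, hz⟩, rfl⟩
        exact ⟨⟨Nat.zero_le _, by have := v.le; omega⟩, z.2, by rw [hz]; simp⟩
    · rename_i hz
      rw [Finset.filter_false_of_mem fun z hzS hb => hz ⟨z, hzS, hb⟩, Finset.card_empty]
  have hd := hdvdN
  rw [← hsum] at hd
  rcases unionsOK_spec v.unions Sel hd with h | h
  · exfalso
    rw [hsum, Finset.card_eq_one] at h
    obtain ⟨z0, hz0⟩ := h
    refine hne ((Subgroup.eq_bot_iff_forall _).mpr fun n hn => hinj ?_)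
    rw [map_one]
    refine Equiv.ext fun i => ?_
    obtain ⟨x, rfl⟩ := s.pretransitive i
    have h1 : ρ (x⁻¹ * n * x) s.base ∈ S := by
      simp only [S, Finset.mem_filter, Finset.mem_univ, true_and]
      exact ⟨_, by simpa using hN.conj_mem n hn x⁻¹, rfl⟩
    rw [hz0, Finset.mem_singleton] at h1 hbase
    rw [← hbase, map_mul, map_mul, map_inv, Equiv.Perm.mul_apply, Equiv.Perm.mul_apply,
      Equiv.Perm.inv_eq_iff_eq] at h1
    exact h1
  · rw [hsum, hos] at h
    exact ⟨_, ((MulAction.stabilizer N s.base).card_mul_index.symm.trans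
      (by rw [h, mul_comm]))⟩

end OrbTab.Valid

/-- A normal subgroup of index prime to `p` containing an element of `p`-power order which
normally generates. -/
theorem Setup.isSimpleGroup_of_dvd {G : Type*} [Group G] {C : Cert} {H : Subgroup G}
    {gen : ℕ → G} {ρ : G →* Equiv.Perm (Fin C.N)} (s : Setup C H gen ρ) [Finite G]
    (hG : 1 < Nat.card G)
    (hdvd : ∀ N : Subgroup G, N.Normal → N ≠ ⊥ → C.N ∣ Nat.card N) {p a k : ℕ} (hp : p.Prime)
    (ha : p ^ a ∣ C.N) (hmax : ¬ p ^ (a + 1) ∣ Nat.card G) {w : List ℕ}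
    (hw : prodW gen w ^ p ^ k = 1) {D : Cert} (d : D.Complete) (hD : D.N = 1)
    (hDs : D.subs = []) (hDK : D.K = C.K) (hDi : D.invs = C.invs)
    (hDr : D.rels = C.rels ++ [w]) : IsSimpleGroup G := by
  haveI : Nontrivial G := Finite.one_lt_card_iff_nontrivial.mp hG
  refine ⟨fun N hN => or_iff_not_imp_left.mpr fun hne => ?_⟩
  haveI := hN
  have hwN := mem_of_ppart hp hN (ha.trans (hdvd N hN hne)) hmax hw
  refine eq_top_of_cert d hD hDs N (by rw [hDK]; exact s.model.gen_K)
    (fun g => by
      have : D.inv g = C.inv g := by simp [Cert.inv, hDi]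
      rw [this]; exact s.model.inv_mul g)
    (fun r hr => ?_) (by rw [hDK]; exact s.gen_top)
  rw [hDr, List.mem_append, List.mem_singleton] at hr
  rcases hr with hr | rfl
  · rw [s.model.rel r hr]; exact one_mem N
  · exact hwN

/-! ### Base chains -/

/-- One level of a chain: the orbit of the base point, listed in increasing order. -/
structure TLevel where
  /-- base point -/
  base : ℕ
  /-- words fixing the earlier base points -/
  ws : List (List ℕ)
  /-- orbit length -/
  size : ℕ
  /-- number of the base point in the list -/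
  root : ℕ
  /-- point + 2^20 * parent + 2^40 * word number, 56 bits -/
  ent : PTab
  /-- rank, 20 bits -/
  rnk : PTab

/-- all the words of a chain -/
def tWords (ls : List TLevel) : List (List ℕ) := ls.flatMap TLevel.ws

/-- the point with a number -/
noncomputable def TLevel.pt (l : TLevel) (j : ℕ) : ℕ :=
  Nat.mod (l.ent.at' (nat_lit 56) j) (nat_lit 1048576)

/-- the check of an entry -/
noncomputable def TLevel.ok (l : TLevel) (C : Cert) (ws : List (List ℕ)) (j : ℕ) : Bool :=
  strict j fun j => pick (ltB j l.size)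
    (strict (l.ent.at' (nat_lit 56) j) fun r =>
     strict (Nat.mod r (nat_lit 1048576)) fun x =>
     band (ltB x C.N) (band
      (pick (ltB (Nat.succ j) l.size) (ltB x (l.pt (Nat.succ j))) true)
      (pick (Nat.beq j l.root) (Nat.beq x l.base)
        (strict (Nat.mod (Nat.div r (nat_lit 1048576)) (nat_lit 1048576)) fun q =>
         strict (Nat.div r (nat_lit 1099511627776)) fun i =>
          band (ltB q l.size) (band (ltB (l.rnk.at' (nat_lit 20) q) (l.rnk.at' (nat_lit 20) j))
            (band (ltB i ws.length)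
              (Nat.beq (C.run (l.pt q) (C.revInv (nthWord ws i))) x)))))))
    true

/-- The check of a chain, level by level. -/
def TChain (C : Cert) : List TLevel → Prop
  | [] => True
  | l :: ls => (l.base < C.N ∧ (∀ w ∈ tWords (l :: ls), ∀ g ∈ w, g < C.K) ∧
      (∀ w ∈ tWords ls, C.run l.base (C.revInv w) = l.base) ∧
      ∀ j < l.size, l.ok C (tWords (l :: ls)) j = true) ∧ TChain C ls

/-- from the Boolean checks to one level -/
theorem tChain_cons {C : Cert} {l : TLevel} {ls : List TLevel} (hb : Nat.blt l.base C.N = true)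
    (hw : ((tWords (l :: ls)).all fun w => w.all fun g => Nat.blt g C.K) = true)
    (hf : ((tWords ls).all fun w => Nat.beq (C.run l.base (C.revInv w)) l.base) = true)
    (k : ℕ) (hk : Nat.ble l.size (2 ^ k) = true)
    (h : allUp (l.ok C (tWords (l :: ls))) k 0 = true) (hls : TChain C ls) :
    TChain C (l :: ls) := by
  simp only [List.all_eq_true, Nat.blt_eq] at hb hw
  simp only [List.all_eq_true] at hf
  refine ⟨⟨hb, hw, fun w hw' => Nat.eq_of_beq_eq_true (hf w hw'), fun j hj => ?_⟩, hls⟩
  exact allUp_spec h j (Nat.zero_le _) (by have := Nat.le_of_ble_eq_true hk; omega)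

/-- product of the orbit lengths -/
def tSize : List TLevel → ℕ
  | [] => 1
  | l :: ls => l.size * tSize ls

variable {C : Cert}

/-- the subgroup of `R` fixing all the bases -/
def fixBases (C : Cert) : Subgroup (Equiv.Perm (Fin C.N)) → List TLevel →
    Subgroup (Equiv.Perm (Fin C.N))
  | R, [] => R
  | R, l :: ls => fixBases C
      (if h : l.base < C.N then
        R ⊓ MulAction.stabilizer (Equiv.Perm (Fin C.N)) (⟨l.base, h⟩ : Fin C.N) else R) ls

theorem mem_fixBases {ls : List TLevel} : ∀ {R : Subgroup (Equiv.Perm (Fin C.N))}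
    {x : Equiv.Perm (Fin C.N)}, x ∈ R →
    (∀ l ∈ ls, ∀ h : l.base < C.N, x ⟨l.base, h⟩ = ⟨l.base, h⟩) → x ∈ fixBases C R ls := by
  induction ls with
  | nil => intro R x hx _; exact hx
  | cons l ls ih =>
    intro R x hx hfix
    refine ih ?_ fun m hm => hfix m (List.mem_cons_of_mem _ hm)
    split
    · rename_i hb
      exact ⟨hx, hfix l (List.mem_cons_self) hb⟩
    · exact hx

theorem tChain_le (c : C.Complete) (a : C.IsAction) : ∀ {ls : List TLevel}, TChain C ls →
    ∀ R : Subgroup (Equiv.Perm (Fin C.N)), (∀ w ∈ tWords ls, prodW (letterPerm c a) w ∈ R) →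
      tSize ls * Nat.card (fixBases C R ls) ≤ Nat.card R
  | [], _, R, _ => by simp [tSize, fixBases]
  | l :: ls, ⟨⟨hb, hlt, hfix, hok⟩, hls⟩, R, hR => by
    classical
    let b : Fin C.N := ⟨l.base, hb⟩
    set R' := R ⊓ MulAction.stabilizer (Equiv.Perm (Fin C.N)) b with hR'
    have hsub : ∀ w ∈ tWords ls, prodW (letterPerm c a) w ∈ R' := by
      intro w hw
      have hw' : w ∈ tWords (l :: ls) := by
        rw [tWords, List.flatMap_cons]; exact List.mem_append.mpr (Or.inr hw)
      refine ⟨hR w hw', Fin.ext ?_⟩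
      change (prodW (letterPerm c a) w b : ℕ) = _
      rw [prodW_letterPerm c a (hlt w hw')]
      exact hfix w hw
    have ih := tChain_le c a hls R' hsub
    have hfb : fixBases C R (l :: ls) = fixBases C R' ls := by
      simp only [fixBases, dif_pos hb, hR', b]
    -- every listed point is reached
    have hreach : ∀ j < l.size, ∃ t ∈ R, (t b : ℕ) = l.pt j := by
      suffices hmain : ∀ r, ∀ j, l.rnk.at' 20 j = r → j < l.size → ∃ t ∈ R, (t b : ℕ) = l.pt j from
        fun j hj => hmain _ j rfl hj
      intro r
      induction r using Nat.strong_induction_on with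
      | _ r ihr =>
        intro j hr hj
        have h := hok j hj
        unfold TLevel.ok at h
        simp only [strict_eq] at h
        rw [show ltB j l.size = true from ltB_iff.mpr hj, pick_true, band_eq_true, band_eq_true]
          at h
        cases hroot : Nat.beq j l.root
        · have h3 := h.2.2
          rw [hroot, pick_false] at h3
          simp only [band_eq_true, ltB_iff] at h3
          obtain ⟨hq, hlt', hi, hrun⟩ := h3
          obtain ⟨t, ht, ht'⟩ := ihr _ (hr ▸ hlt') _ rfl hq
          rw [nthWord_eq] at hrun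
          set w := (tWords (l :: ls)).getD _ []
          have hw : w ∈ tWords (l :: ls) := by
            simp only [w, List.getD_eq_getElem _ _ hi]; exact List.getElem_mem hi
          refine ⟨prodW (letterPerm c a) w * t, mul_mem (hR w hw) ht, ?_⟩
          rw [Equiv.Perm.mul_apply, prodW_letterPerm c a (hlt w hw), ht']
          exact Nat.eq_of_beq_eq_true hrun
        · have h3 := h.2.2
          rw [hroot, pick_true] at h3
          exact ⟨1, one_mem R, by simpa [TLevel.pt] using (Nat.eq_of_beq_eq_true h3).symm⟩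
    have hpt : ∀ j, j + 1 < l.size → l.pt j < l.pt (j + 1) := by
      intro j hj
      have h := hok j (by omega)
      unfold TLevel.ok at h
      simp only [strict_eq] at h
      rw [show ltB j l.size = true from ltB_iff.mpr (by omega), pick_true, band_eq_true,
        band_eq_true, show ltB (Nat.succ j) l.size = true from ltB_iff.mpr hj, pick_true] at h
      simpa [TLevel.pt, ltB_iff] using h.2.1
    have hmono : ∀ i j, i < j → j < l.size → l.pt i < l.pt j := by
      intro i j hij
      induction j with
      | zero => omega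
      | succ j ihj =>
        intro hj
        rcases Nat.lt_succ_iff_lt_or_eq.mp hij with h | rfl
        · exact (ihj h (by omega)).trans (hpt j hj)
        · exact hpt i hj
    choose t ht1 ht2 using hreach
    let φ : Fin l.size × R' → R := fun q => ⟨t q.1 q.1.2 * q.2, mul_mem (ht1 _ _) q.2.2.1⟩
    have hφ : Function.Injective φ := by
      rintro ⟨i, x⟩ ⟨j, y⟩ e
      have e' := congrArg Subtype.val e
      simp only [φ] at e'
      have e1 := congrArg (fun f : Equiv.Perm (Fin C.N) => (f b : ℕ)) e'
      simp only [Equiv.Perm.mul_apply] at e1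
      rw [show (x : Equiv.Perm (Fin C.N)) b = b from x.2.2,
        show (y : Equiv.Perm (Fin C.N)) b = b from y.2.2, ht2, ht2] at e1
      obtain rfl : i = j := by
        refine Fin.ext ?_
        rcases Nat.lt_trichotomy (i : ℕ) j with h | h | h
        · exact absurd e1 (hmono _ _ h j.2).ne
        · exact h
        · exact absurd e1 (hmono _ _ h i.2).ne'
      simp only [Prod.mk.injEq, true_and]
      exact Subtype.ext (mul_left_cancel e')
    have hcard := Nat.card_le_card_of_injective φ hφ
    rw [Nat.card_prod, Nat.card_fin] at hcard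
    rw [tSize, hfb, mul_assoc]
    exact le_trans (Nat.mul_le_mul_left _ ih) hcard

variable {G : Type*} [Group G] {H : Subgroup G} {gen : ℕ → G} {ρ : G →* Equiv.Perm (Fin C.N)}

theorem Setup.tWords_mem (s : Setup C H gen ρ) {ls : List TLevel} (h : TChain C ls) :
    ∀ w ∈ tWords ls, prodW (letterPerm s.complete s.action) w ∈ ρ.range := by
  intro w hw
  cases ls with
  | nil => simp [tWords] at hw
  | cons l ls =>
    exact ⟨prodW gen w, by
      rw [map_prodW]
      exact prodW_congr fun g hg => s.rho_gen g (h.1.2.1 w hw g hg)⟩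

/-- The order is known and the action is faithful. -/
theorem Setup.card_eq_of_tChain (s : Setup C H gen ρ) [Finite G] {n : ℕ} (hn : Nat.card G ≤ n)
    {ls : List TLevel} (h : TChain C ls) (hsize : tSize ls = n) :
    Nat.card G = n ∧ Function.Injective ρ := by
  have h0 := tChain_le s.complete s.action h ρ.range (s.tWords_mem h)
  have h1 : n ≤ Nat.card ρ.range := by
    rw [← hsize]
    exact (Nat.le_mul_of_pos_right _ Nat.card_pos).trans h0
  have h2 : Nat.card ρ.range ≤ Nat.card G :=
    Nat.card_le_card_of_surjective _ ρ.rangeRestrict_surjective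
  refine ⟨le_antisymm hn (h1.trans h2), ?_⟩
  have hb : Function.Bijective ρ.rangeRestrict := by
    haveI := Fintype.ofFinite G
    haveI := Fintype.ofFinite ρ.range
    rw [Fintype.bijective_iff_surjective_and_card]
    exact ⟨ρ.rangeRestrict_surjective, by
      rw [← Nat.card_eq_fintype_card, ← Nat.card_eq_fintype_card]; omega⟩
  exact fun x y e => hb.1 (Subtype.ext e)

/-- A word is trivial as soon as it fixes the bases. -/
theorem Setup.eq_one_of_bases (s : Setup C H gen ρ) [Finite G] {ls : List TLevel}
    (h : TChain C ls) (hsize : tSize ls = Nat.card G) (hinj : Function.Injective ρ) {w : List ℕ}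
    (hw : (w.all fun g => Nat.blt g C.K) = true)
    (hfix : (ls.all fun l => Nat.beq (C.run l.base (C.revInv w)) l.base) = true) :
    prodW gen w = 1 := by
  simp only [List.all_eq_true, Nat.blt_eq] at hw
  simp only [List.all_eq_true] at hfix
  have h0 := tChain_le s.complete s.action h ρ.range (s.tWords_mem h)
  have h2 : Nat.card ρ.range ≤ Nat.card G :=
    Nat.card_le_card_of_surjective _ ρ.rangeRestrict_surjective
  have hpos : 0 < tSize ls := by rw [hsize]; exact Nat.card_pos
  have hle : Nat.card (fixBases C ρ.range ls) ≤ 1 := by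
    by_contra hc
    have h3 : tSize ls * 2 ≤ tSize ls * Nat.card (fixBases C ρ.range ls) :=
      Nat.mul_le_mul_left _ (by omega)
    omega
  haveI : Subsingleton (fixBases C ρ.range ls) := Finite.card_le_one_iff_subsingleton.mp hle
  apply hinj
  rw [map_one]
  have hm : ρ (prodW gen w) ∈ fixBases C ρ.range ls := mem_fixBases ⟨_, rfl⟩ fun l hl hb =>
    Fin.ext (by rw [s.rho_prodW hw]; exact Nat.eq_of_beq_eq_true (hfix l hl))
  exact congrArg Subtype.val
    (Subsingleton.elim (⟨_, hm⟩ : fixBases C ρ.range ls) ⟨1, one_mem _⟩)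

end CfsgLib.CosetEnum
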