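import Cfsg.Agent.Lib.CosetEnum.RelGraph

/-!
Enumeration, up to the group, of tuples of cosets with prescribed relations.
-/

set_option autoImplicit false

namespace CfsgLib.CosetEnum

/-- One node of the enumeration: chosen points, words fixing them, and representatives of the
possible next points with a tree and the mask of their orbit. -/
structure TupNode where
  /-- chosen points -/
  ps : List ℕ
  /-- words fixing them -/
  ws : List (List ℕ)
  /-- representatives: point, tree, orbit -/
  kids : List (ℕ × List (ℕ × ℕ) × ℕ)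

namespace Cert

variable (C : Cert)

/-- `x` is new and related to the chosen points like the standard ones -/
noncomputable def tupPat (m : ℕ) (std : List ℕ) (j : ℕ) (ps : List ℕ) (x : ℕ) : Bool :=
  List.rec (fun _ => true) (fun p _ ih l =>
    band (!(Nat.beq p x)) (band (C.relB m p x == C.relB m (nth std l 0) (nth std j 0))
      (ih (Nat.succ l)))) ps 0

/-- the check of a node -/
noncomputable def tupNodeOK (m : ℕ) (std : List ℕ) (known : List (List ℕ)) (nd : TupNode) : Bool :=
  band ((nd.ps.all fun p => ltB p C.N) &&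
      (nd.ws.all fun w => (w.all fun g => Nat.blt g C.K) &&
        nd.ps.all fun p => Nat.beq (C.run p (C.revInv w)) p) &&
      (nd.kids.all fun k => ltB k.1 C.N && known.contains (nd.ps ++ [k.1]) &&
        reach C nd.ws k.2.1 (2 ^ k.1) == some k.2.2))
    (allPts C.N fun x => strict x fun x =>
      pick (C.tupPat m std nd.ps.length nd.ps x) (nd.kids.any fun k => Nat.testBit k.2.2 x) true)

/-- all the nodes are checked; the prefixes lead to nodes or to leaves -/
noncomputable def tupOK (m : ℕ) (std : List ℕ) (nodes : List TupNode) (leaves : List (List ℕ)) :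
    Bool :=
  (nodes.all fun nd => C.tupNodeOK m std ((nodes.map TupNode.ps) ++ leaves) nd) &&
    ((nodes.map TupNode.ps).all fun ps => decide (ps.length < std.length)) &&
    (leaves.all fun ps => decide (ps.length = std.length)) &&
    (nodes.map TupNode.ps).contains [0]

end Cert

variable {G : Type*} [Group G] {C : Cert} {H : Subgroup G} {gen : ℕ → G}
  {ρ : G →* Equiv.Perm (Fin C.N)}

/-- A tuple with the relations of the standard one. -/
def GoodTuple (C : Cert) (m : ℕ) (std : List ℕ) (p : ℕ → Fin C.N) : Prop :=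
  ∀ j < std.length, ∀ l < j, p l ≠ p j ∧
    C.relB m (p l) (p j) = C.relB m (std.getD l 0) (std.getD j 0)

theorem Setup.goodTuple_smul (s : Setup C H gen ρ) (r : s.RepWords) {m : ℕ}
    (hm : MaskInv ρ H m) {std : List ℕ} {p : ℕ → Fin C.N} (hp : GoodTuple C m std p) (g : G) :
    GoodTuple C m std fun k => ρ g (p k) := fun j hj l hl => by
  obtain ⟨h1, h2⟩ := hp j hj l hl
  exact ⟨fun e => h1 ((ρ g).injective e), by rw [s.relB_smul r hm, h2]⟩

theorem tupPat_of {m : ℕ} {std : List ℕ} {p : ℕ → Fin C.N} (hp : GoodTuple C m std p) {j : ℕ}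
    (hj : j < std.length) :
    ∀ (k o : ℕ), o + k = j →
      (List.rec (fun _ => true) (fun q _ ih l =>
        band (!(Nat.beq q (p j : ℕ))) (band (C.relB m q (p j) == C.relB m (nth std l 0) (nth std j 0))
          (ih (Nat.succ l)))) ((List.range' o k).map fun l => ((p l : Fin C.N) : ℕ)) o : Bool) = true
  | 0, o, _ => rfl
  | k + 1, o, he => by
    rw [List.range'_succ, List.map_cons]
    obtain ⟨h1, h2⟩ := hp j hj o (by omega)
    change band _ (band _ _) = true
    rw [band_eq_true, band_eq_true, beq_iff_eq]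
    refine ⟨?_, by rw [nth_eq, nth_eq]; exact h2, tupPat_of hp hj k (o + 1) (by omega)⟩
    rw [Bool.not_eq_true', Bool.eq_false_iff]
    exact fun e => h1 (Fin.ext (Nat.eq_of_beq_eq_true e))

/-- The prefix of a tuple. -/
def tupPrefix (p : ℕ → Fin C.N) (j : ℕ) : List ℕ := (List.range j).map fun l => (p l : ℕ)

theorem Setup.exists_prefix (s : Setup C H gen ρ) (r : s.RepWords) {m : ℕ} (hm : MaskInv ρ H m)
    {std : List ℕ} {nodes : List TupNode} {leaves : List (List ℕ)}
    (hok : C.tupOK m std nodes leaves = true) {p : ℕ → Fin C.N} (hp : GoodTuple C m std p) :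
    ∀ j, 1 ≤ j → j ≤ std.length →
      ∃ g : G, tupPrefix (fun k => ρ g (p k)) j ∈ (nodes.map TupNode.ps) ++ leaves := by
  simp only [Cert.tupOK, Bool.and_eq_true, List.all_eq_true, decide_eq_true_eq,
    List.contains_iff_mem] at hok
  obtain ⟨⟨⟨hnodes, hlen⟩, hlens⟩, h0⟩ := hok
  intro j
  induction j with
  | zero => intro h; omega
  | succ j ih =>
    intro _ hj
    rcases Nat.eq_zero_or_pos j with rfl | hj0
    · obtain ⟨x, hx⟩ := s.pretransitive (p 0)
      refine ⟨x⁻¹, List.mem_append_left _ ?_⟩
      have : ρ x⁻¹ (p 0) = s.base := by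
        rw [← hx, map_inv, Equiv.Perm.inv_def, Equiv.symm_apply_apply]
      show [((ρ x⁻¹ (p 0) : Fin C.N) : ℕ)] ∈ _
      rw [this]
      exact h0
    · obtain ⟨g, hg⟩ := ih hj0 (by omega)
      rcases List.mem_append.mp hg with hn | hl
      swap
      · have := hlens _ hl
        simp [tupPrefix] at this
        omega
      obtain ⟨nd, hnd, hps⟩ := List.mem_map.mp hn
      have hnk := hnodes nd hnd
      simp only [Cert.tupNodeOK, band_eq_true, Bool.and_eq_true, List.all_eq_true, Nat.blt_eq,
        ltB_iff, List.contains_iff_mem, beq_iff_eq] at hnk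
      obtain ⟨⟨⟨hlt, hws⟩, hkids⟩, hcov⟩ := hnk
      have hq := s.goodTuple_smul r hm hp g
      have hx := Cert.allPts_spec hcov (ρ g (p j) : ℕ) (Fin.isLt _)
      simp only [strict_eq] at hx
      have hl : nd.ps.length = j := by rw [hps]; simp [tupPrefix]
      have hpat : C.tupPat m std nd.ps.length nd.ps (ρ g (p j)) = true := by
        rw [hl, hps]
        unfold Cert.tupPat tupPrefix
        rw [List.range_eq_range']
        exact tupPat_of hq (by omega) j 0 (by omega)
      rw [hpat, pick_true, List.any_eq_true] at hx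
      obtain ⟨k, hk, hbit⟩ := hx
      obtain ⟨⟨hk1, hk2⟩, hk3⟩ := hkids k hk
      have hS : ∀ h ∈ Subgroup.closure {y | ∃ w ∈ nd.ws, prodW gen w = y},
          ∀ l < j, ρ h (ρ g (p l)) = ρ g (p l) := by
        intro h hh
        induction hh using Subgroup.closure_induction with
        | mem y hy =>
          obtain ⟨w, hw, rfl⟩ := hy
          intro l hl'
          refine Fin.ext ?_
          rw [s.rho_prodW (hws w hw).1]
          refine Nat.eq_of_beq_eq_true ((hws w hw).2 _ ?_)
          rw [hps]
          exact List.mem_map.mpr ⟨l, List.mem_range.mpr hl', rfl⟩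
        | one => simp
        | mul x y _ _ hx hy =>
          intro l hl'; rw [map_mul, Equiv.Perm.mul_apply, hy l hl', hx l hl']
        | inv x _ hx => intro l hl'; rw [map_inv, Equiv.Perm.inv_eq_iff_eq, hx l hl']
      have hall : ∀ y, k.2.2.testBit y = true → ∃ hy : y < C.N,
          ∃ h ∈ Subgroup.closure {y | ∃ w ∈ nd.ws, prodW gen w = y},
            ρ h ⟨k.1, hk1⟩ = (⟨y, hy⟩ : Fin C.N) := by
        refine reach_spec ?_ _ _ _ hk3 ?_
        · rintro y i hi ⟨hy, h, hh, e⟩
          have hw : nd.ws.getD i [] ∈ nd.ws := by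
            rw [List.getD_eq_getElem _ _ hi]; exact List.getElem_mem hi
          have ha := s.rho_prodW (hws _ hw).1 ⟨y, hy⟩
          refine ⟨ha ▸ Fin.isLt _, _ * h, mul_mem (Subgroup.subset_closure ⟨_, hw, rfl⟩) hh, ?_⟩
          rw [map_mul, Equiv.Perm.mul_apply, e]
          exact Fin.ext ha
        · intro y hy
          rw [Nat.testBit_two_pow, decide_eq_true_eq] at hy
          subst hy
          exact ⟨hk1, 1, one_mem _, by simp⟩
      obtain ⟨hy, h, hh, e⟩ := hall _ hbit
      refine ⟨h⁻¹ * g, ?_⟩
      have e2 : tupPrefix (fun l => ρ (h⁻¹ * g) (p l)) (j + 1) = nd.ps ++ [k.1] := by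
        rw [hps, tupPrefix, tupPrefix, List.range_succ, List.map_append, List.map_cons, List.map_nil]
        congr 1
        · refine List.map_congr_left fun l hl' => ?_
          rw [map_mul, Equiv.Perm.mul_apply, map_inv, Equiv.Perm.inv_eq_iff_eq.mpr
            ((hS h hh l (List.mem_range.mp hl')).symm)]
        · rw [List.cons.injEq]
          refine ⟨?_, rfl⟩
          have e3 : ρ (h⁻¹ * g) (p j) = ⟨k.1, hk1⟩ := by
            rw [map_mul, Equiv.Perm.mul_apply, map_inv, Equiv.Perm.inv_eq_iff_eq, e]
          rw [e3]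
      rw [e2]
      exact hk2

/-- Every tuple with the standard relations is moved to a leaf. -/
theorem Setup.exists_leaf (s : Setup C H gen ρ) (r : s.RepWords) {m : ℕ} (hm : MaskInv ρ H m)
    {std : List ℕ} {nodes : List TupNode} {leaves : List (List ℕ)}
    (hok : C.tupOK m std nodes leaves = true) (hstd : 1 ≤ std.length) {p : ℕ → Fin C.N}
    (hp : GoodTuple C m std p) :
    ∃ g : G, tupPrefix (fun k => ρ g (p k)) std.length ∈ leaves := by
  obtain ⟨g, hg⟩ := s.exists_prefix r hm hok hp std.length hstd le_rfl
  simp only [Cert.tupOK, Bool.and_eq_true, List.all_eq_true, decide_eq_true_eq] at hok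
  rcases List.mem_append.mp hg with h | h
  · have := hok.1.1.2 _ h
    simp [tupPrefix] at this
  · exact ⟨g, h⟩

end CfsgLib.CosetEnum
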