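import Cfsg.Prelude.Def_KGroupFacts
import Cfsg.Agent.Lib.CosetEnum.CentSearch
import Cfsg.Agent.Lib.CosetEnum.TupleSearch

/-!
A bound on the outer automorphism group of a group generated by conjugates of an involution whose
centralizer contains the point stabilizer.
-/

set_option autoImplicit false
set_option linter.style.haveILetI false

namespace CfsgLib.CosetEnum

/-- every subgroup word commutes with a letter -/
noncomputable def subsCommOK (C : Cert) (g : ℕ) (k : ℕ) : Bool :=
  C.subs.all fun w => allUp (sameAt C (g :: w) (w ++ [g])) k 0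

/-- every point but the base point is moved by a subgroup word -/
noncomputable def onlyBaseOK (C : Cert) : Bool :=
  Cert.allPts C.N fun x => strict x fun x =>
    pick (Nat.beq x 0) true (C.subs.any fun w => !(Nat.beq (C.run x (C.revInv w)) x))

variable {G : Type*} [Group G] {C : Cert} {H : Subgroup G} {gen : ℕ → G}
  {ρ : G →* Equiv.Perm (Fin C.N)}

theorem conj_commute_iff (h a b : G) :
    Commute (h * a * h⁻¹) (h * b * h⁻¹) ↔ Commute a b := by
  unfold Commute SemiconjBy
  rw [show h * a * h⁻¹ * (h * b * h⁻¹) = h * (a * b) * h⁻¹ by group,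
    show h * b * h⁻¹ * (h * a * h⁻¹) = h * (b * a) * h⁻¹ by group, mul_left_inj, mul_right_inj]

theorem Setup.comm_of_subs (s : Setup C H gen ρ) (hinj : Function.Injective ρ) {g k : ℕ}
    (hg : g < C.K) (h : subsCommOK C g k = true) (hN : C.N ≤ 2 ^ k) :
    ∀ x ∈ H, x * gen g = gen g * x := by
  simp only [subsCommOK, List.all_eq_true] at h
  intro x hx
  rw [s.H_eq] at hx
  induction hx using Subgroup.closure_induction with
  | mem y hy =>
    obtain ⟨w, hw, rfl⟩ := hy
    have h1 := s.eq_of_sameAt hinj (u := g :: w) (w := w ++ [g])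
      (by intro l hl; rcases List.mem_cons.mp hl with rfl | hl; exacts [hg, s.sub_lt hw l hl])
      (by
        intro l hl
        rcases List.mem_append.mp hl with hl | hl
        · exact s.sub_lt hw l hl
        · rw [List.mem_singleton] at hl; exact hl ▸ hg) (h w hw) hN
    rw [prodW_cons, prodW_append, prodW_cons, prodW_nil, mul_one] at h1
    exact h1.symm
  | one => simp
  | mul x y _ _ hx hy => rw [mul_assoc, hy, ← mul_assoc, hx, mul_assoc]
  | inv x _ hx =>
    rw [eq_mul_inv_iff_mul_eq, mul_assoc, ← hx, inv_mul_cancel_left]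

/-- The conjugates of `a` are the cosets, and `m` records which commute. -/
structure Setup.ConjGraph (s : Setup C H gen ρ) (a : G) (m : ℕ) : Prop where
  comm : ∀ h ∈ H, h * a = a * h
  inv : MaskInv ρ H m
  mask : ∀ z : Fin C.N, m.testBit z = true ↔ Commute a (conjAt C gen a z)
  distinct : ∀ z : Fin C.N, conjAt C gen a z = a → z = s.base

theorem Setup.conjAt_base (s : Setup C H gen ρ) (a : G) : conjAt C gen a s.base = a := by
  simp [conjAt, coreRep, Setup.base, s.complete.nd_zero, psi_zero]

theorem Setup.conjAt_seen (s : Setup C H gen ρ) {a : G} (ha : ∀ h ∈ H, h * a = a * h)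
    (x y : Fin C.N) :
    coreRep C gen x * conjAt C gen a x * (coreRep C gen x)⁻¹ = a ∧
      coreRep C gen x * conjAt C gen a y * (coreRep C gen x)⁻¹ =
        conjAt C gen a (ρ (coreRep C gen x) y) :=
  ⟨by simp [conjAt, mul_assoc], s.conjAt_smul ha _ y⟩

theorem Setup.ConjGraph.commute_iff {s : Setup C H gen ρ} {a : G} {m : ℕ} (cg : s.ConjGraph a m)
    (r : s.RepWords) (x y : Fin C.N) :
    C.relB m x y = true ↔ Commute (conjAt C gen a x) (conjAt C gen a y) := by
  obtain ⟨h1, h2⟩ := s.conjAt_seen cg.comm x y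
  rw [← conj_commute_iff (coreRep C gen x) (conjAt C gen a x) (conjAt C gen a y), h1, h2,
    ← cg.mask, Cert.relB, ← s.seenFrom_eq r]

theorem Setup.ConjGraph.injective {s : Setup C H gen ρ} {a : G} {m : ℕ} (cg : s.ConjGraph a m)
    {x y : Fin C.N} (h : conjAt C gen a x = conjAt C gen a y) : x = y := by
  obtain ⟨h1, h2⟩ := s.conjAt_seen cg.comm x y
  rw [← h, h1] at h2
  have e := cg.distinct _ h2.symm
  have e' : ρ (coreRep C gen x) x = s.base := by
    have := s.rho_rep_inv x
    rw [map_inv, Equiv.Perm.inv_eq_iff_eq] at this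
    exact this.symm
  exact (ρ (coreRep C gen x)).injective (e'.trans e.symm)

/-- The graph from two suborbits. -/
theorem Setup.conjGraph_rankThree (s : Setup C H gen ρ) {a : G} (ha : ∀ h ∈ H, h * a = a * h)
    {r₁ m₁ r₂ m₂ : ℕ} (o₁ : Suborbit C r₁ m₁) (o₂ : Suborbit C r₂ m₂)
    (hcover : ∀ x < C.N, maskCover C [m₁, m₂] x = true)
    (h₁ : Commute a (conjAt C gen a r₁)) (h₁' : conjAt C gen a r₁ ≠ a)
    (h₂ : ¬ Commute a (conjAt C gen a r₂)) : s.ConjGraph a (1 ||| m₁) := by
  have hfix : ∀ h ∈ H, h * a * h⁻¹ = a := fun h hh => by rw [ha h hh, mul_inv_cancel_right]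
  have key : ∀ {r m : ℕ} (o : Suborbit C r m) (z : Fin C.N), m.testBit z = true →
      ∃ h ∈ H, conjAt C gen a z = h * conjAt C gen a r * h⁻¹ := fun {r m} o z hz => by
    obtain ⟨h, hh, e⟩ := (s.orbit_mem_iff o z).mpr hz
    exact ⟨h, hh, by rw [← e]; exact (s.conjAt_smul ha h ⟨r, o.mem.1⟩).symm⟩
  have cases3 : ∀ z : Fin C.N, z = s.base ∨
      (m₁.testBit z = true ∧ (z : ℕ) ≠ 0) ∨
      (m₂.testBit z = true ∧ (1 ||| m₁).testBit z = false) := fun z => by
    have h := Nat.eq_of_beq_eq_true (hcover z z.2)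
    rw [show [m₁, m₂].length + 1 = 3 from rfl, show List.range 3 = [0, 1, 2] from rfl] at h
    simp only [List.countP_cons, List.countP_nil, List.getD_cons_zero, List.getD_cons_succ] at h
    rw [Nat.testBit_or]
    by_cases hz : (z : ℕ) = 0
    · exact Or.inl (Fin.ext hz)
    · have h1 : Nat.testBit 1 (z : ℕ) = false := by
        rw [Bool.eq_false_iff]
        exact fun e => hz (Nat.testBit_one_eq_true_iff_self_eq_zero.mp e)
      rw [h1] at h ⊢
      cases hm1 : m₁.testBit z <;> cases hm2 : m₂.testBit z <;> simp [hm1, hm2, hz] at h ⊢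
  have hb : conjAt C gen a s.base = a := s.conjAt_base a
  refine ⟨ha, s.maskInv_or o₁, fun z => ?_, fun z hz => ?_⟩
  · rcases cases3 z with rfl | ⟨hz, -⟩ | ⟨hz, hm⟩
    · rw [hb]
      simp [Setup.base, Nat.testBit_or]
    · obtain ⟨h, hh, e⟩ := key o₁ z hz
      rw [Nat.testBit_or, hz, Bool.or_true, e]
      refine iff_of_true rfl ?_
      have h1 := (conj_commute_iff h a (conjAt C gen a r₁)).mpr h₁
      rwa [hfix h hh] at h1
    · obtain ⟨h, hh, e⟩ := key o₂ z hz
      rw [hm, e]
      refine iff_of_false (by simp) fun hc => h₂ ?_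
      have h1 := conj_commute_iff h a (conjAt C gen a r₂)
      rw [hfix h hh] at h1
      exact h1.mp hc
  · rcases cases3 z with rfl | ⟨hz', -⟩ | ⟨hz', -⟩
    · rfl
    · obtain ⟨h, hh, e⟩ := key o₁ z hz'
      rw [e] at hz
      conv_rhs at hz => rw [← hfix h hh]
      exact absurd (mul_left_cancel (mul_right_cancel hz)) h₁'
    · obtain ⟨h, hh, e⟩ := key o₂ z hz'
      rw [e] at hz
      conv_rhs at hz => rw [← hfix h hh]
      exact absurd (by rw [mul_left_cancel (mul_right_cancel hz)]) h₂

/-- An automorphism can be corrected to fix the involution in the centralizer of `v`. -/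
theorem exists_inner_fix [Finite G] {p : ℕ} [Fact p.Prime] {v a : G} (hv : orderOf v = p)
    (hp : ¬ p ^ 2 ∣ Nat.card G) (hcomm : Commute a v) (ha2 : a * a = 1) (ha1 : a ≠ 1)
    (hcent : ∀ g : G, Commute g v → g * g = 1 → g ≠ 1 → g = a) (φ : MulAut G) :
    ∃ g : G, g * φ a * g⁻¹ = a := by
  have hsyl : ∀ u : G, orderOf u = p → ∃ P : Sylow p G, (P : Subgroup G) = Subgroup.zpowers u := by
    intro u hu
    have h1 : p ^ 1 ∣ Nat.card G := by rw [pow_one, ← hu]; exact orderOf_dvd_natCard u
    refine ⟨Sylow.ofCard (Subgroup.zpowers u) ?_, rfl⟩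
    rw [Nat.card_zpowers, hu]
    conv_lhs => rw [← pow_one p]
    congr 1
    refine le_antisymm
      (((Fact.out : p.Prime).pow_dvd_iff_le_factorization Nat.card_pos.ne').mp h1) ?_
    by_contra hc
    exact hp (((Fact.out : p.Prime).pow_dvd_iff_le_factorization Nat.card_pos.ne').mpr (by omega))
  obtain ⟨P, hP⟩ := hsyl v hv
  obtain ⟨Q, hQ⟩ := hsyl (φ v) ((orderOf_injective φ.toMonoidHom φ.injective v).trans hv)
  obtain ⟨g, hg⟩ := MulAction.exists_smul_eq G Q P
  have hmem : g * φ v * g⁻¹ ∈ Subgroup.zpowers v := by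
    rw [← hP, ← hg, Sylow.coe_subgroup_smul, hQ]
    exact ⟨φ v, Subgroup.mem_zpowers _, rfl⟩
  have hgen : Subgroup.zpowers (g * φ v * g⁻¹) = Subgroup.zpowers v := by
    refine Subgroup.eq_of_le_of_card_ge (Subgroup.zpowers_le.mpr hmem) (le_of_eq ?_)
    rw [Nat.card_zpowers, Nat.card_zpowers]
    have e1 := (orderOf_injective φ.toMonoidHom φ.injective v)
    have e2 : orderOf (g * φ v * g⁻¹) = orderOf (φ v) := by
      rw [show g * φ v * g⁻¹ = MulAut.conj g (φ v) from rfl]
      exact orderOf_injective (MulAut.conj g).toMonoidHom (MulAut.conj g).injective _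
    rw [e2]
    exact e1.symm
  refine ⟨g, hcent _ ?_ ?_ ?_⟩
  · obtain ⟨k, hk⟩ := Subgroup.mem_zpowers_iff.mp (hgen.symm ▸ Subgroup.mem_zpowers v :
      v ∈ Subgroup.zpowers (g * φ v * g⁻¹))
    rw [← hk]
    refine Commute.zpow_right ?_ k
    rw [conj_commute_iff]
    exact hcomm.map φ.toMonoidHom
  · rw [show g * φ a * g⁻¹ * (g * φ a * g⁻¹) = g * (φ a * φ a) * g⁻¹ by group, ← map_mul, ha2,
      map_one, mul_one, mul_inv_cancel]
  · intro e
    rw [conj_eq_one_iff, EmbeddingLike.map_eq_one_iff] at e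
    exact ha1 e

/-- The bound from the enumeration of tuples. -/
theorem Setup.card_out_le [Finite G] (s : Setup C H gen ρ) (r : s.RepWords) {a : G} {m : ℕ}
    (cg : s.ConjGraph a m) (hfix : ∀ φ : MulAut G, ∃ g : G, g * φ a * g⁻¹ = a)
    (hconj : ∀ k < C.K, ∃ g : G, gen k = g * a * g⁻¹) {std : List ℕ} (hlen : std.length = C.K)
    (hK : 1 ≤ C.K) (hstd : ∀ k < C.K, std.getD k 0 < C.N ∧ conjAt C gen a (std.getD k 0) = gen k)
    (hnd : std.Nodup) {nodes : List TupNode} {leaves : List (List ℕ)}
    (hok : C.tupOK m std nodes leaves = true) :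
    Nat.card (Cfsg.Out G) ≤ leaves.length := by
  classical
  haveI : Finite (MulAut G) := Finite.of_injective (fun φ : MulAut G => φ.toEquiv)
    fun φ ψ h => MulEquiv.toEquiv_injective h
  let A := {φ : MulAut G // ∃ i : Fin leaves.length, ∀ k < C.K,
    φ (gen k) = conjAt C gen a ((leaves[i]).getD k 0)}
  have hA : Nat.card A ≤ leaves.length := by
    let f : A → Fin leaves.length := fun φ => φ.2.choose
    have hf : Function.Injective f := by
      intro φ ψ e
      refine Subtype.ext (MulEquiv.ext fun x => ?_)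
      have hx : x ∈ Subgroup.closure {y | ∃ g < C.K, gen g = y} := by rw [s.gen_top]; trivial
      induction hx using Subgroup.closure_induction with
      | mem y hy =>
        obtain ⟨k, hk, rfl⟩ := hy
        rw [φ.2.choose_spec k hk, ψ.2.choose_spec k hk]
        exact congrArg (fun i : Fin leaves.length => conjAt C gen a ((leaves[i]).getD k 0)) e
      | one => simp
      | mul x y _ _ hx hy => simp [hx, hy]
      | inv x _ hx => simp [hx]
    exact (Nat.card_le_card_of_injective f hf).trans (by rw [Nat.card_fin])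
  refine le_trans (Nat.card_le_card_of_surjective (fun φ : A => (φ.1 : Cfsg.Out G)) ?_) hA
  intro q
  obtain ⟨φ, rfl⟩ := QuotientGroup.mk_surjective q
  obtain ⟨g₀, hg₀⟩ := hfix φ
  -- the images of the generators
  have hex : ∀ k : ℕ, ∃ x : Fin C.N, k < C.K → g₀ * φ (gen k) * g₀⁻¹ = conjAt C gen a x := by
    intro k
    by_cases hk : k < C.K
    · obtain ⟨g, hg⟩ := hconj k hk
      refine ⟨ρ (g₀ * φ g * g₀⁻¹) s.base, fun _ => ?_⟩
      rw [← s.conj_eq_conjAt cg.comm]
      conv_rhs => rw [← hg₀]
      rw [hg, map_mul, map_mul, map_inv]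
      group
    · exact ⟨s.base, fun h => absurd h hk⟩
  choose p hp using hex
  have hgood : GoodTuple C m std p := by
    intro j hj l hl
    have hl' : l < C.K := by omega
    have hj' : j < C.K := by omega
    obtain ⟨hlN, el⟩ := hstd l hl'
    obtain ⟨hjN, ej⟩ := hstd j hj'
    refine ⟨fun e => ?_, ?_⟩
    · have h1 := hp l hl'
      rw [e, ← hp j hj', mul_left_inj, mul_right_inj, φ.injective.eq_iff, ← el, ← ej] at h1
      have h2 := congrArg Fin.val (cg.injective (x := ⟨_, hlN⟩) (y := ⟨_, hjN⟩) h1)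
      simp only at h2
      have h3 : std[l]'(by omega) = std[j]'(by omega) := by
        rwa [List.getD_eq_getElem _ _ (by omega), List.getD_eq_getElem _ _ (by omega)] at h2
      rw [hnd.getElem_inj_iff] at h3
      omega
    · rw [Bool.eq_iff_iff, cg.commute_iff r, cg.commute_iff r ⟨_, hlN⟩ ⟨_, hjN⟩, el, ej,
        ← hp l hl', ← hp j hj', conj_commute_iff]
      exact ⟨fun h => by simpa using h.map φ.symm.toMonoidHom, fun h => h.map φ.toMonoidHom⟩
  obtain ⟨g₁, hg₁⟩ := s.exists_leaf r cg.inv hok (by omega) hgood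
  obtain ⟨i, hi, hi'⟩ := List.getElem_of_mem hg₁
  refine ⟨⟨MulAut.conj (g₁ * g₀) * φ, ⟨i, hi⟩, fun k hk => ?_⟩, ?_⟩
  · have e : (leaves[i]'hi).getD k 0 = (ρ g₁ (p k) : ℕ) := by
      rw [hi', tupPrefix, List.getD_eq_getElem _ _ (by simp; omega), List.getElem_map,
        List.getElem_range]
    rw [show (leaves[(⟨i, hi⟩ : Fin leaves.length)]) = leaves[i]'hi from rfl, e,
      ← s.conjAt_smul cg.comm, ← hp k hk, MulAut.mul_apply, MulAut.conj_apply]
    group
  · simp only [QuotientGroup.mk_mul]
    rw [(QuotientGroup.eq_one_iff (N := Cfsg.Inn G) (MulAut.conj (g₁ * g₀))).mpr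
      (MonoidHom.mem_range.mpr ⟨g₁ * g₀, rfl⟩), one_mul]

/-- An automorphism induced by a permutation of the cosets is not inner when it is odd. -/
theorem Setup.one_lt_card_out [Finite G] [IsSimpleGroup G] (s : Setup C H gen ρ)
    (hinj : Function.Injective ρ) (hG : 2 < Nat.card G) (honly : onlyBaseOK C = true)
    (π : Equiv.Perm (Fin C.N)) (hπ : π * π = 1) (hsign : Equiv.Perm.sign π = -1)
    (himg : ∀ k < C.K, π * ρ (gen k) * π ∈ ρ.range) : 1 < Nat.card (Cfsg.Out G) := by
  have hπinv : π⁻¹ = π := inv_eq_of_mul_eq_one_right hπ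
  have hmem : ∀ x : G, π * ρ x * π ∈ ρ.range := by
    intro x
    have hx : x ∈ Subgroup.closure {y | ∃ g < C.K, gen g = y} := by rw [s.gen_top]; trivial
    induction hx using Subgroup.closure_induction with
    | mem y hy => obtain ⟨k, hk, rfl⟩ := hy; exact himg k hk
    | one => rw [map_one, mul_one, hπ]; exact one_mem _
    | mul x y _ _ hx hy =>
      rw [map_mul, show π * (ρ x * ρ y) * π = (π * ρ x * π) * (π * ρ y * π) by
        simp only [mul_assoc]; rw [← mul_assoc π π, hπ, one_mul]]
      exact mul_mem hx hy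
    | inv x _ hx =>
      rw [map_inv, show π * (ρ x)⁻¹ * π = (π * ρ x * π)⁻¹ by
        rw [mul_inv_rev, mul_inv_rev, hπinv, mul_assoc]]
      exact inv_mem hx
  choose f hf using hmem
  have hfinj : Function.Injective f := fun x y e => hinj (by
    have := hf x
    rw [e, hf y] at this
    exact (mul_left_cancel (mul_right_cancel this)).symm)
  let f' : G →* G :=
    { toFun := f
      map_one' := hinj (by rw [hf, map_one, mul_one, hπ])
      map_mul' := fun x y => hinj (by
        rw [map_mul, hf, hf, hf, map_mul]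
        simp only [mul_assoc]; rw [← mul_assoc π π, hπ, one_mul]) }
  let φ : MulAut G := MulEquiv.ofBijective f' ⟨hfinj, Finite.injective_iff_surjective.mp hfinj⟩
  haveI : Finite (MulAut G) := Finite.of_injective (fun φ : MulAut G => φ.toEquiv)
    fun φ ψ h => MulEquiv.toEquiv_injective h
  rw [Finite.one_lt_card_iff_nontrivial, nontrivial_iff]
  refine ⟨(φ : Cfsg.Out G), 1, fun hc => ?_⟩
  obtain ⟨g, hg⟩ := (QuotientGroup.eq_one_iff φ).mp hc
  set c := π * ρ g
  have hcomm : ∀ x : G, c * ρ x = ρ x * c := by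
    intro x
    have h1 : ρ (φ x) = π * ρ x * π := hf x
    rw [← hg, MulAut.conj_apply, map_mul, map_mul, map_inv] at h1
    calc c * ρ x = π * (ρ g * ρ x * (ρ g)⁻¹) * ρ g := by simp only [c]; group
      _ = π * (π * ρ x * π) * ρ g := by rw [h1]
      _ = ρ x * c := by simp only [c, ← mul_assoc, hπ, one_mul]
  have hbase : c s.base = s.base := by
    by_contra hne
    have h := Cert.allPts_spec honly (c s.base : ℕ) (Fin.isLt _)
    simp only [strict_eq] at h
    rw [show Nat.beq (c s.base : ℕ) 0 = false by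
      rw [Bool.eq_false_iff]
      exact fun e => hne (Fin.ext (Nat.eq_of_beq_eq_true e)), pick_false, List.any_eq_true] at h
    obtain ⟨w, hw, hmove⟩ := h
    have hH : prodW gen w ∈ H := s.model.sub w hw
    rw [← s.rho_prodW (s.sub_lt hw), ← Equiv.Perm.mul_apply, ← hcomm, Equiv.Perm.mul_apply,
      s.rho_fix hH] at hmove
    simp at hmove
  have hc1 : c = 1 := Equiv.ext fun i => by
    obtain ⟨x, rfl⟩ := s.pretransitive i
    rw [← Equiv.Perm.mul_apply, hcomm, Equiv.Perm.mul_apply, hbase]
    rfl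
  have hπg : ρ g = π := by rw [← hπinv]; exact eq_inv_of_mul_eq_one_right hc1
  have hker : (Equiv.Perm.sign.comp ρ).ker = ⊤ := by
    rcases IsSimpleGroup.eq_bot_or_eq_top_of_normal (Equiv.Perm.sign.comp ρ).ker inferInstance
      with h | h
    · exfalso
      have h2 := Nat.card_le_card_of_injective _ ((MonoidHom.ker_eq_bot_iff _).mp h)
      rw [Nat.card_eq_fintype_card (α := ℤˣ), Fintype.card_units_int] at h2
      omega
    · exact h
  have := (MonoidHom.mem_ker).mp (hker ▸ Subgroup.mem_top g : g ∈ (Equiv.Perm.sign.comp ρ).ker)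
  rw [MonoidHom.comp_apply, hπg, hsign] at this
  exact absurd this (by decide)

/-- number of fixed points below `n` -/
noncomputable def fixCount (f : ℕ → ℕ) (n : ℕ) : ℕ :=
  Nat.rec 0 (fun k ih => strict ih fun t => pick (Nat.beq (f k) k) (Nat.succ t) t) n

/-- An involution with the given number of fixed points is odd. -/
theorem sign_involution {n : ℕ} (π : Equiv.Perm (Fin n)) (hπ : π * π = 1) (f : ℕ → ℕ)
    (hf : ∀ x : Fin n, (π x : ℕ) = f x) {j : ℕ} (hj : fixCount f n + (4 * j + 2) = n) :
    Equiv.Perm.sign π = -1 := by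
  classical
  have hcount : ∀ k, fixCount f k = ((Finset.range k).filter fun x => f x = x).card := by
    intro k
    induction k with
    | zero => rfl
    | succ k ih =>
      have e : fixCount f (k + 1) =
          pick (Nat.beq (f k) k) (Nat.succ (fixCount f k)) (fixCount f k) := by
        unfold fixCount
        simp only [strict_eq]
      rw [e, ih, Finset.range_add_one, Finset.filter_insert]
      cases h : Nat.beq (f k) k
      · have : f k ≠ k := fun e => by rw [e, Nat.beq_refl] at h; exact absurd h (by simp)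
        simp [this]
      · simp [Nat.eq_of_beq_eq_true h]
  have hsupp : π.support.card + fixCount f n = n := by
    have h1 : (Finset.univ.filter fun x : Fin n => π x = x).card = fixCount f n := by
      rw [hcount, ← Finset.card_map Fin.valEmbedding]
      congr 1
      ext y
      simp only [Finset.mem_map, Finset.mem_filter, Finset.mem_univ, true_and,
        Fin.valEmbedding_apply, Finset.mem_range]
      exact ⟨fun ⟨z, hz, e⟩ => e ▸ ⟨z.2, by rw [← hf z, hz]⟩,
        fun ⟨h1, h2⟩ => ⟨⟨y, h1⟩, Fin.ext ((hf ⟨y, h1⟩).trans h2), rfl⟩⟩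
    rw [← h1, ← Finset.card_union_of_disjoint]
    · convert Finset.card_fin n
      ext x
      simp [Equiv.Perm.mem_support, em']
    · exact Finset.disjoint_left.mpr fun x hx hx' => by simp_all [Equiv.Perm.mem_support]
  have htwo : ∀ l ∈ π.cycleType, l = 2 := fun l hl => by
    refine le_antisymm ?_ (Equiv.Perm.two_le_of_mem_cycleType hl)
    have hd : l ∣ orderOf π := Equiv.Perm.lcm_cycleType π ▸ Multiset.dvd_lcm hl
    have : orderOf π ∣ 2 := orderOf_dvd_of_pow_eq_one (by rw [pow_two, hπ])
    exact Nat.le_of_dvd two_pos (hd.trans this)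
  have hrep := Multiset.eq_replicate_card.mpr htwo
  have hsum := Equiv.Perm.sum_cycleType π
  rw [hrep, Multiset.sum_replicate, smul_eq_mul] at hsum
  rw [Equiv.Perm.sign_of_cycleType, hrep, Multiset.sum_replicate, Multiset.card_replicate,
    smul_eq_mul, show Multiset.card π.cycleType = 2 * j + 1 by omega,
    show (2 * j + 1) * 2 + (2 * j + 1) = 2 * (3 * j + 1) + 1 by ring, pow_succ, pow_mul]
  simp

end CfsgLib.CosetEnum
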