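import Cfsg.Agent.Lib.CosetEnum.OutThree
import Cfsg.Agent.Lib.CosetEnum.Blocks

/-!
Long scans of the automorphism searches split into short ones.
-/

set_option autoImplicit false

namespace CfsgLib.CosetEnum

namespace Cert

theorem allPtsFrom_of {n : ℕ} {f : ℕ → Bool} (h : ∀ i < n, f i = true) :
    ∀ k b : ℕ, allPtsFrom n f k b = true
  | 0, b => by
    unfold allPtsFrom
    simp only [Nat.rec_zero, strict_eq]
    cases hb : ltB b n
    · rfl
    · rw [pick_true]; exact h b (ltB_iff.mp hb)
  | k + 1, b => by
    have e : allPtsFrom n f (k + 1) b =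
        pick (ltB b n) (band (allPtsFrom n f k b) (allPtsFrom n f k (b + 2 ^ k))) true := by
      unfold allPtsFrom
      simp only [strict_eq]
      rfl
    rw [e, allPtsFrom_of h k, allPtsFrom_of h k]
    cases ltB b n <;> rfl

theorem allPts_of {n : ℕ} {f : ℕ → Bool} (hn : n < 2 ^ 20) (h : ∀ i < n, f i = true) :
    allPts n f = true := by
  rw [allPts, band_eq_true, ltB_iff]
  exact ⟨hn, allPtsFrom_of h _ _⟩

/-- one block of a scan of all cosets -/
noncomputable def blockPts (n : ℕ) (f : ℕ → Bool) (k j : ℕ) : Bool :=
  allUp (fun x => strict x fun x => pick (ltB x n) (f x) true) k (j * 2 ^ k)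

theorem allPts_of_blockPts {n : ℕ} {f : ℕ → Bool} {k b : ℕ} (hn : n < 2 ^ 20)
    (hb : n ≤ b * 2 ^ k) (h : ∀ j < b, blockPts n f k j = true) : allPts n f = true := by
  refine allPts_of hn fun i hi => ?_
  have h' := allUp_blocks (f := fun x => strict x fun x => pick (ltB x n) (f x) true) h i (by omega)
  simp only [strict_eq] at h'
  rwa [show ltB i n = true from ltB_iff.mpr hi, pick_true] at h'

/-- the depth recorded for a node is one more than the depth of its parent -/
noncomputable def depthOK (C : Cert) (dep : PTab) (i : ℕ) : Bool :=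
  strict i fun n => pick (ltB n C.M) (strict (dep.at' (nat_lit 8) n) fun d =>
    band (Nat.ble d climbFuel)
      (pick (Nat.beq n 0) true (ltB (dep.at' (nat_lit 8) (C.par n)) d))) true

theorem pairsOK_iff (C : Cert) (m b x : ℕ) : ∀ (d : List (ℕ × ℕ)),
    C.pairsOK m d b x = true ↔ ∀ q ∈ d, C.relB m q.2 x = C.relB m q.1 b
  | [] => by simp [pairsOK]
  | q :: d => by
    change band _ (C.pairsOK m d b x) = true ↔ _
    rw [band_eq_true, beq_iff_eq, pairsOK_iff C m b x d, List.forall_mem_cons]

/-- the only possible image of `b` is `b` -/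
noncomputable def forcedAt (C : Cert) (m : ℕ) (d : List (ℕ × ℕ)) (b x : ℕ) : Bool :=
  pick (C.pairsOK m d b x) (Nat.beq x b) true

theorem searchOK_of_forced (C : Cert) {m : ℕ} {v : List ℕ} {n p : ℕ} {bases : List ℕ}
    {leaves : List (List ℕ)} {bs : List ℕ} {d d' : List (ℕ × ℕ)} {b : ℕ}
    (hN : C.N < 2 ^ 20) (hb : b < C.N) (hsub : (d'.all fun q => d.contains q) = true)
    (hf : allPts C.N (C.forcedAt m d' b) = true)
    (hs : C.searchOK m v n p bases leaves bs (C.extend v p d b b) = true) :
    C.searchOK m v n p bases leaves (b :: bs) d = true := by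
  have e : C.searchOK m v n p bases leaves (b :: bs) d =
      band (ltB b C.N) (allPts C.N fun x => strict x fun x =>
        pick (band (C.pairsOK m d b x) (C.shiftOK m v n b x))
          (C.searchOK m v n p bases leaves bs (C.extend v p d b x)) true) := rfl
  rw [e, band_eq_true, ltB_iff]
  refine ⟨hb, allPts_of hN fun x hx => ?_⟩
  simp only [strict_eq]
  cases hc : band (C.pairsOK m d b x) (C.shiftOK m v n b x)
  · rfl
  · rw [pick_true]
    have h1 := (pairsOK_iff C m b x d).mp (band_eq_true.mp hc).1
    simp only [List.all_eq_true, List.contains_iff_mem] at hsub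
    have h' := allPts_spec hf x hx
    rw [forcedAt, (pairsOK_iff C m b x d').mpr fun q hq => h1 q (hsub q hq), pick_true] at h'
    rwa [Nat.eq_of_beq_eq_true h']

/-- the cosets with the prescribed relations are covered by the listed orbits -/
noncomputable def tupCover (C : Cert) (m : ℕ) (std : List ℕ) (nd : TupNode) (x : ℕ) : Bool :=
  pick (C.tupPat m std nd.ps.length nd.ps x) (nd.kids.any fun k => Nat.testBit k.2.2 x) true

/-- the checks of a node apart from the covering -/
noncomputable def tupHead (C : Cert) (known : List (List ℕ)) (nd : TupNode) : Bool :=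
  (nd.ps.all fun p => ltB p C.N) &&
    (nd.ws.all fun w => (w.all fun g => Nat.blt g C.K) &&
      nd.ps.all fun p => Nat.beq (C.run p (C.revInv w)) p) &&
    (nd.kids.all fun k => ltB k.1 C.N && known.contains (nd.ps ++ [k.1]) &&
      reach C nd.ws k.2.1 (2 ^ k.1) == some k.2.2)

theorem tupNodeOK_of (C : Cert) {m : ℕ} {std : List ℕ} {known : List (List ℕ)} {nd : TupNode}
    (h1 : C.tupHead known nd = true) (h2 : allPts C.N (C.tupCover m std nd) = true) :
    C.tupNodeOK m std known nd = true := by
  unfold tupNodeOK
  rw [band_eq_true]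
  refine ⟨h1, ?_⟩
  have e : (fun x => strict x fun x =>
      pick (C.tupPat m std nd.ps.length nd.ps x) (nd.kids.any fun k => Nat.testBit k.2.2 x) true) =
      C.tupCover m std nd := funext fun x => by rw [strict_eq]; rfl
  rw [e]
  exact h2

end Cert

variable {G : Type*} [Group G] {C : Cert} {H : Subgroup G} {gen : ℕ → G}
  {ρ : G →* Equiv.Perm (Fin C.N)}

theorem climbOK_of_depth (a : C.IsAction) {dep : PTab}
    (h : ∀ n < C.M, C.depthOK dep n = true) :
    ∀ (fuel n : ℕ), n < C.M → dep.at' 8 n ≤ fuel → C.climbOK fuel n = true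
  | fuel, n, hn, hd => by
    have h' := h n hn
    unfold Cert.depthOK at h'
    simp only [strict_eq] at h'
    rw [show ltB n C.M = true from ltB_iff.mpr hn, pick_true, band_eq_true] at h'
    have hi := a.nodes n hn
    unfold Cert.imgOK at hi
    simp only [strict_eq] at hi
    cases h0 : Nat.beq n 0
    · rw [h0, pick_false] at h' hi
      have hlt := ltB_iff.mp h'.2
      cases fuel with
      | zero => omega
      | succ fuel =>
        have e1 : C.climbOK (fuel + 1) n = pick (Nat.beq n 0) true
            (band (ltB (C.par n) n) (band (ltB (C.lett n) C.K) (C.climbOK fuel (C.par n)))) := by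
          unfold Cert.climbOK
          simp only [strict_eq]
        cases hp : band (ltB (C.par n) n) (ltB (C.lett n) C.K)
        · rw [hp, pick_false] at hi; simp at hi
        · rw [band_eq_true] at hp
          have hpn := ltB_iff.mp hp.1
          rw [e1, h0, pick_false, band_eq_true, band_eq_true]
          exact ⟨hp.1, hp.2, climbOK_of_depth a h fuel _ (hpn.trans hn) (by omega)⟩
    · obtain rfl : n = 0 := Nat.eq_of_beq_eq_true h0
      cases fuel with
      | zero => rfl
      | succ fuel =>
        unfold Cert.climbOK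
        simp [strict_eq, pick, Nat.beq]

/-- The representatives are the climbed words, from a table of depths. -/
theorem Setup.repWords_of_depth (s : Setup C H gen ρ) {dep : PTab} {k b : ℕ} (hM : C.M ≤ b * 2 ^ k)
    (h : ∀ j < b, allUp (C.depthOK dep) k (j * 2 ^ k) = true) : s.RepWords := ⟨fun x hx => by
  have hd : ∀ n < C.M, C.depthOK dep n = true := fun n hn => allUp_blocks h n (by omega)
  have h' := s.action.ndImg x hx
  unfold Cert.ndImgOK' at h'
  simp only [strict_eq] at h'
  rw [show ltB x C.N = true from ltB_iff.mpr hx, pick_true, band_eq_true, ltB_iff] at h'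
  have h2 := hd _ h'.1
  unfold Cert.depthOK at h2
  simp only [strict_eq] at h2
  rw [show ltB (C.nd.at' 24 x) C.M = true from ltB_iff.mpr h'.1, pick_true, band_eq_true] at h2
  exact climbOK_of_depth s.action hd _ _ h'.1 (Nat.le_of_ble_eq_true h2.1)⟩

end CfsgLib.CosetEnum
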