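import Cfsg.Agent.Lib.CosetEnum.OutBound
import Cfsg.Agent.Lib.CosetEnum.BasePow

/-!
Automorphisms fixing a class, when an element of prime order fixes three cosets.
-/

set_option autoImplicit false

namespace CfsgLib.CosetEnum

namespace Cert

/-- coset `0` and two listed cosets are the only fixed ones, and the latter are fixed -/
noncomputable def threeFixed (C : Cert) (v : List ℕ) (t₂ t₃ : ℕ) : Bool :=
  band (band (Nat.beq (C.run 0 (C.revInv v)) 0) (band (Nat.beq (C.run t₂ (C.revInv v)) t₂)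
    (Nat.beq (C.run t₃ (C.revInv v)) t₃)))
    (allPts C.N fun x => strict x fun x =>
      pick (Nat.beq x 0) true (pick (Nat.beq x t₂) true (pick (Nat.beq x t₃) true
        (!(Nat.beq (C.run x (C.revInv v)) x)))))

/-- the first search step with given fixed points -/
noncomputable def firstFixOK (C : Cert) (m : ℕ) (v : List ℕ) (n p b₀ : ℕ) (d₀ : List (ℕ × ℕ)) :
    Bool :=
  band (ltB b₀ C.N) (allPts C.N fun x => strict x fun x =>
    pick (band (C.pairsOK m d₀ b₀ x) (C.shiftOK m v n b₀ x))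
      ((C.shifts v p b₀).any fun y => Nat.beq x y) true)

end Cert

/-- two words agree on the base points of a chain -/
noncomputable def sameBases (C : Cert) (ls : List Level) (u w : List ℕ) : Bool :=
  ls.all fun l => Nat.beq (C.run l.base (C.revInv u)) (C.run l.base (C.revInv w))

variable {G : Type*} [Group G] {C : Cert} {H : Subgroup G} {gen : ℕ → G}
  {ρ : G →* Equiv.Perm (Fin C.N)}

theorem Setup.eq_of_bases (s : Setup C H gen ρ) [Finite G] {ls : List Level}
    (hok : chainOK C ls = true) (hsize : chainSize C ls = Nat.card G) {u w : List ℕ}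
    (hu : ∀ g ∈ u, g < C.K) (hw : ∀ g ∈ w, g < C.K) (h : sameBases C ls u w = true) :
    prodW gen u = prodW gen w := by
  simp only [sameBases, List.all_eq_true] at h
  apply s.base_injective hok hsize
  simp only [baseImages, chainBases, List.map_map]
  refine List.map_congr_left fun l hl => ?_
  simp only [Function.comp_apply]
  split
  · next hb =>
    simp only [Option.map_some, Option.some.injEq]
    refine Fin.ext ?_
    rw [s.rho_prodW hu, s.rho_prodW hw]
    exact Nat.eq_of_beq_eq_true (h l hl)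
  · rfl

/-- An element commuting with `v` and fixing its three fixed cosets is a power of `v`. -/
theorem Setup.fix_three_cases (s : Setup C H gen ρ) (r : s.RepWords) [Finite G] {m : ℕ}
    (hm : MaskInv ρ H m) {v : List ℕ} (hv : ∀ g ∈ v, g < C.K) {n p b₀ : ℕ} {t₂ t₃ : Fin C.N}
    (hf : C.firstFixOK m v n p b₀ [(0, 0), ((t₂ : ℕ), (t₂ : ℕ)), ((t₃ : ℕ), (t₃ : ℕ))] = true)
    {ls : List Level}
    (hok : chainOK C ls = true) (hsize : chainSize C ls = Nat.card G) {bs : List ℕ}
    (hs : C.searchOK m v n p (ls.map Level.base) [[]] bs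
      (C.extend v p [(0, 0), ((t₂ : ℕ), (t₂ : ℕ)), ((t₃ : ℕ), (t₃ : ℕ))] b₀ b₀) = true)
    (hvt : ρ (prodW gen v) s.base = s.base ∧ ρ (prodW gen v) t₂ = t₂ ∧ ρ (prodW gen v) t₃ = t₃)
    {g : G} (hg : Commute g (prodW gen v)) (h0 : ρ g s.base = s.base) (h2 : ρ g t₂ = t₂)
    (h3 : ρ g t₃ = t₃) : g ∈ Subgroup.zpowers (prodW gen v) := by
  set d₀ := [((0 : ℕ), (0 : ℕ)), ((t₂ : ℕ), (t₂ : ℕ)), ((t₃ : ℕ), (t₃ : ℕ))]
  have hd0 : ∀ k : G, ρ k s.base = s.base → ρ k t₂ = t₂ → ρ k t₃ = t₃ →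
      ∀ q ∈ d₀, ∃ z : Fin C.N, (z : ℕ) = q.1 ∧ (ρ k z : ℕ) = q.2 := by
    intro k k0 k2 k3 q hq
    simp only [d₀, List.mem_cons, List.not_mem_nil, or_false] at hq
    rcases hq with rfl | rfl | rfl
    · exact ⟨s.base, rfl, congrArg Fin.val k0⟩
    · exact ⟨t₂, rfl, congrArg Fin.val k2⟩
    · exact ⟨t₃, rfl, congrArg Fin.val k3⟩
  unfold Cert.firstFixOK at hf
  rw [band_eq_true, ltB_iff] at hf
  obtain ⟨hb, hf⟩ := hf
  have h' := Cert.allPts_spec hf (ρ g ⟨b₀, hb⟩ : ℕ) (Fin.isLt _)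
  simp only [strict_eq] at h'
  rw [band_eq_true.mpr ⟨s.pairsOK_of r hm (hd0 g h0 h2 h3) ⟨b₀, hb⟩,
    s.shiftOK_of r hm hv hg n ⟨b₀, hb⟩⟩, pick_true, List.any_eq_true] at h'
  obtain ⟨y, hy, hxy⟩ := h'
  obtain ⟨i, -, rfl⟩ := List.mem_map.mp hy
  have e : ρ g ⟨b₀, hb⟩ = ρ (prodW gen v ^ i) ⟨b₀, hb⟩ :=
    Fin.ext ((Nat.eq_of_beq_eq_true hxy).trans (s.shift_eq hv i ⟨b₀, hb⟩).symm)
  set g' := (prodW gen v ^ i)⁻¹ * g
  have hpow : ∀ (k : ℕ) (x : Fin C.N), ρ (prodW gen v) x = x → ρ (prodW gen v ^ k) x = x := by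
    intro k x hx
    induction k with
    | zero => simp
    | succ k ih => rw [pow_succ, map_mul, Equiv.Perm.mul_apply, hx, ih]
  have hkeep : ∀ x : Fin C.N, ρ (prodW gen v) x = x → ρ g x = x → ρ g' x = x := fun x hx hgx => by
    simp only [g', map_mul, map_inv, Equiv.Perm.mul_apply, hgx]
    rw [Equiv.Perm.inv_eq_iff_eq, hpow i x hx]
  have hg' : Commute g' (prodW gen v) :=
    ((Commute.refl (prodW gen v)).pow_left i).inv_left.mul_left hg
  have e' : ρ g' ⟨b₀, hb⟩ = ⟨b₀, hb⟩ := by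
    simp only [g', map_mul, map_inv, Equiv.Perm.mul_apply, e, Equiv.Perm.inv_def,
      Equiv.symm_apply_apply]
  obtain ⟨u, hu, eu⟩ := s.searchOK_spec r hm hv hok hsize (by simp) hg' bs _ hs (by
    intro q hq
    rcases List.mem_append.mp hq with hq | hq
    · exact hd0 g' (hkeep _ hvt.1 h0) (hkeep _ hvt.2.1 h2) (hkeep _ hvt.2.2 h3) q hq
    · obtain ⟨j, -, rfl⟩ := List.mem_map.mp hq
      refine ⟨ρ (prodW gen v ^ j) ⟨b₀, hb⟩, s.shift_eq hv j _, ?_⟩
      rw [← Equiv.Perm.mul_apply, ← map_mul, (hg'.pow_right j).eq, map_mul, Equiv.Perm.mul_apply,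
        e', s.shift_eq hv])
  obtain rfl := List.mem_singleton.mp hu
  rw [prodW_nil] at eu
  have : g = prodW gen v ^ i := by
    rw [inv_mul_eq_one] at eu
    exact eu.symm
  rw [this]
  exact pow_mem (Subgroup.mem_zpowers _) i

/-- The involutions commuting with `v` are conjugates of `a`. -/
theorem Setup.involution_conj (s : Setup C H gen ρ) [Finite G] {v : List ℕ}
    (hv : ∀ g ∈ v, g < C.K) {t₂ t₃ : Fin C.N} (hfix : C.threeFixed v t₂ t₃ = true)
    (hne : s.base ≠ t₂ ∧ s.base ≠ t₃ ∧ t₂ ≠ t₃)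
    {a b : G} (ha : ∀ h ∈ H, h * a = a * h) (hav : Commute a (prodW gen v)) (ha2 : a * a = 1)
    (ha0 : ρ a s.base = s.base) (ha23 : ρ a t₂ = t₃)
    (hbv : Commute b (prodW gen v)) (hb2 : b * b = 1) (hb : ρ b s.base = t₃)
    (hc : ∃ c : G, Commute c (prodW gen v) ∧ c * c = 1 ∧ ρ c s.base = t₂)
    (hodd : Odd (orderOf (prodW gen v)))
    (htriv : ∀ g : G, Commute g (prodW gen v) → ρ g s.base = s.base → ρ g t₂ = t₂ → ρ g t₃ = t₃ →
      g ∈ Subgroup.zpowers (prodW gen v))
    {g : G} (hg : Commute g (prodW gen v)) (hg2 : g * g = 1) (hg1 : g ≠ 1) :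
    IsConj a g := by
  set V := prodW gen v
  unfold Cert.threeFixed at hfix
  simp only [band_eq_true] at hfix
  obtain ⟨⟨hv0, hv2, hv3⟩, hall⟩ := hfix
  have hmem : ∀ x : Fin C.N, ρ V x = x → x = s.base ∨ x = t₂ ∨ x = t₃ := by
    intro x hx
    by_contra hne
    simp only [not_or] at hne
    have h' := Cert.allPts_spec hall (x : ℕ) x.2
    simp only [strict_eq] at h'
    have f0 : Nat.beq (x : ℕ) 0 = false := by
      rw [Bool.eq_false_iff]; exact fun e => hne.1 (Fin.ext (Nat.eq_of_beq_eq_true e))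
    have f2 : Nat.beq (x : ℕ) t₂ = false := by
      rw [Bool.eq_false_iff]; exact fun e => hne.2.1 (Fin.ext (Nat.eq_of_beq_eq_true e))
    have f3 : Nat.beq (x : ℕ) t₃ = false := by
      rw [Bool.eq_false_iff]; exact fun e => hne.2.2 (Fin.ext (Nat.eq_of_beq_eq_true e))
    rw [f0, pick_false, f2, pick_false, f3, pick_false, ← s.rho_prodW hv, hx] at h'
    simp at h'
  have hV : ρ V s.base = s.base ∧ ρ V t₂ = t₂ ∧ ρ V t₃ = t₃ :=
    ⟨Fin.ext ((s.rho_prodW hv _).trans (Nat.eq_of_beq_eq_true hv0)),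
      Fin.ext ((s.rho_prodW hv _).trans (Nat.eq_of_beq_eq_true hv2)),
      Fin.ext ((s.rho_prodW hv _).trans (Nat.eq_of_beq_eq_true hv3))⟩
  have hperm : ∀ k : G, Commute k V → ∀ x : Fin C.N, ρ V x = x → ρ V (ρ k x) = ρ k x := by
    intro k hk x hx
    rw [← Equiv.Perm.mul_apply, ← map_mul, ← hk.eq, map_mul, Equiv.Perm.mul_apply, hx]
  -- an involution that fixes the base coset
  have base : ∀ k : G, Commute k V → k * k = 1 → k ≠ 1 → ρ k s.base = s.base → k = a := by
    intro k hk hk2 hk1 hk0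
    have hka : Commute k a := ha k ((s.mem_iff k).mpr hk0)
    have small : ∀ j : G, Commute j V → j * j = 1 → ρ j s.base = s.base → ρ j t₂ = t₂ →
        ρ j t₃ = t₃ → j = 1 := by
      intro j hj hj2 j0 j2 j3
      have h1 : orderOf j ∣ 2 := orderOf_dvd_of_pow_eq_one (by rw [pow_two, hj2])
      have h3 : orderOf j ∣ orderOf V := by
        obtain ⟨i, hi⟩ := Subgroup.mem_zpowers_iff.mp (htriv j hj j0 j2 j3)
        rw [← hi]
        exact orderOf_dvd_of_mem_zpowers (zpow_mem (Subgroup.mem_zpowers V) i)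
      rw [← orderOf_eq_one_iff]
      exact Nat.eq_one_of_dvd_coprimes hodd.coprime_two_left h1 h3
    have k2 := hmem _ (hperm k hk t₂ hV.2.1)
    have kk : ∀ x, ρ k (ρ k x) = x := fun x => by
      rw [← Equiv.Perm.mul_apply, ← map_mul, hk2, map_one, Equiv.Perm.one_apply]
    have aa : ρ a t₃ = t₂ := by
      rw [← ha23, ← Equiv.Perm.mul_apply, ← map_mul, ha2, map_one, Equiv.Perm.one_apply]
    rcases k2 with e | e | e
    · exact absurd ((ρ k).injective (e.trans hk0.symm)) hne.1.symm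
    · have e3 : ρ k t₃ = t₃ := by
        rw [← ha23, ← Equiv.Perm.mul_apply, ← map_mul, hka.eq, map_mul, Equiv.Perm.mul_apply, e]
      exact absurd (small k hk hk2 hk0 e e3) hk1
    · have e3 : ρ k t₃ = t₂ := by rw [← e, kk]
      have h := small (k * a) (hk.mul_left hav)
        (by rw [hka.symm.mul_mul_mul_comm, hk2, ha2, one_mul])
        (by rw [map_mul, Equiv.Perm.mul_apply, ha0, hk0])
        (by rw [map_mul, Equiv.Perm.mul_apply, ha23, e3])
        (by rw [map_mul, Equiv.Perm.mul_apply, aa, e])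
      rw [mul_eq_one_iff_eq_inv] at h
      rw [h]
      exact inv_eq_of_mul_eq_one_right ha2
  -- conjugate to move the fixed coset to the base
  have via : ∀ (c : G), Commute c V → c * c = 1 → ρ g (ρ c s.base) = ρ c s.base → IsConj a g := by
    intro c hcV hc2 hc
    have hci : c⁻¹ = c := inv_eq_of_mul_eq_one_right hc2
    have h := base (c * g * c) ((hcV.mul_left hg).mul_left hcV)
      (by rw [show c * g * c * (c * g * c) = c * g * (c * c) * g * c by group, hc2, mul_one,
        mul_assoc c g g, hg2, mul_one, hc2])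
      (fun e => hg1 (by
        have : g = c⁻¹ * (c * g * c) * c⁻¹ := by group
        rw [this, e, mul_one, hci, hc2]))
      (by
        rw [map_mul, map_mul, Equiv.Perm.mul_apply, Equiv.Perm.mul_apply, hc,
          ← Equiv.Perm.mul_apply, ← map_mul, hc2, map_one, Equiv.Perm.one_apply])
    refine isConj_iff.mpr ⟨c, ?_⟩
    rw [← h, hci, show c * (c * g * c) * c = c * c * g * (c * c) by group, hc2, one_mul, mul_one]
  obtain ⟨c, hcV, hc2, hc0⟩ := hc
  have g0 := hmem _ (hperm g hg s.base hV.1)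
  rcases g0 with e | e | e
  · rw [base g hg hg2 hg1 e]
  · -- exchanges the base with `t₂`, so fixes `t₃`
    refine via b hbv hb2 ?_
    rw [hb]
    rcases hmem _ (hperm g hg t₃ hV.2.2) with e' | e' | e'
    · have h := congrArg (ρ g) e'
      rw [← Equiv.Perm.mul_apply, ← map_mul, hg2, map_one, Equiv.Perm.one_apply, e] at h
      exact absurd h.symm hne.2.2
    · exact absurd ((ρ g).injective (e'.trans e.symm)) hne.2.1.symm
    · exact e'
  · refine via c hcV hc2 ?_
    rw [hc0]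
    rcases hmem _ (hperm g hg t₂ hV.2.1) with e' | e' | e'
    · have h := congrArg (ρ g) e'
      rw [← Equiv.Perm.mul_apply, ← map_mul, hg2, map_one, Equiv.Perm.one_apply, e] at h
      exact absurd h hne.2.2
    · exact e'
    · exact absurd ((ρ g).injective (e'.trans e.symm)) hne.1.symm

/-- An automorphism can be corrected to fix `a`, when every involution centralizing `v` is
conjugate to it. -/
theorem exists_inner_fix_conj [Finite G] {p : ℕ} [Fact p.Prime] {v a : G} (hv : orderOf v = p)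
    (hp : ¬ p ^ 2 ∣ Nat.card G) (hcomm : Commute a v) (ha2 : a * a = 1) (ha1 : a ≠ 1)
    (hcent : ∀ g : G, Commute g v → g * g = 1 → g ≠ 1 → IsConj a g) (φ : MulAut G) :
    ∃ g : G, g * φ a * g⁻¹ = a := by
  have hsyl : ∀ u : G, orderOf u = p → ∃ P : Sylow p G, (P : Subgroup G) = Subgroup.zpowers u := by
    intro u hu
    have h1 : p ^ 1 ∣ Nat.card G := by rw [pow_one, ← hu]; exact orderOf_dvd_natCard u
    refine ⟨Sylow.ofCard (Subgroup.zpowers u) ?_, rfl⟩
    rw [Nat.card_zpowers, hu]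
    conv_lhs => rw [← pow_one p]
    congr 1
    refine le_antisymm
      (((Fact.out : p.Prime).pow_dvd_iff_le_factorization Nat.card_pos.ne').mp h1) ?_
    by_contra hc
    exact hp (((Fact.out : p.Prime).pow_dvd_iff_le_factorization Nat.card_pos.ne').mpr (by omega))
  obtain ⟨P, hP⟩ := hsyl v hv
  obtain ⟨Q, hQ⟩ := hsyl (φ v) ((orderOf_injective φ.toMonoidHom φ.injective v).trans hv)
  obtain ⟨g, hg⟩ := MulAction.exists_smul_eq G Q P
  have hmem : g * φ v * g⁻¹ ∈ Subgroup.zpowers v := by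
    rw [← hP, ← hg, Sylow.coe_subgroup_smul, hQ]
    exact ⟨φ v, Subgroup.mem_zpowers _, rfl⟩
  have hgen : Subgroup.zpowers (g * φ v * g⁻¹) = Subgroup.zpowers v := by
    refine Subgroup.eq_of_le_of_card_ge (Subgroup.zpowers_le.mpr hmem) (le_of_eq ?_)
    rw [Nat.card_zpowers, Nat.card_zpowers]
    have e1 := (orderOf_injective φ.toMonoidHom φ.injective v)
    have e2 : orderOf (g * φ v * g⁻¹) = orderOf (φ v) := by
      rw [show g * φ v * g⁻¹ = MulAut.conj g (φ v) from rfl]
      exact orderOf_injective (MulAut.conj g).toMonoidHom (MulAut.conj g).injective _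
    rw [e2]
    exact e1.symm
  suffices hsat : Commute (g * φ a * g⁻¹) v ∧
      g * φ a * g⁻¹ * (g * φ a * g⁻¹) = 1 ∧ g * φ a * g⁻¹ ≠ 1 by
    obtain ⟨c, hc⟩ := isConj_iff.mp (hcent (g * φ a * g⁻¹) hsat.1 hsat.2.1 hsat.2.2)
    refine ⟨c⁻¹ * g, ?_⟩
    rw [show c⁻¹ * g * φ a * (c⁻¹ * g)⁻¹ = c⁻¹ * (g * φ a * g⁻¹) * c by group, ← hc]
    group
  refine ⟨?_, ?_, ?_⟩
  · obtain ⟨k, hk⟩ := Subgroup.mem_zpowers_iff.mp (hgen.symm ▸ Subgroup.mem_zpowers v :
      v ∈ Subgroup.zpowers (g * φ v * g⁻¹))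
    rw [← hk]
    refine Commute.zpow_right ?_ k
    rw [conj_commute_iff]
    exact hcomm.map φ.toMonoidHom
  · rw [show g * φ a * g⁻¹ * (g * φ a * g⁻¹) = g * (φ a * φ a) * g⁻¹ by group, ← map_mul, ha2,
      map_one, mul_one, mul_inv_cancel]
  · intro e
    rw [conj_eq_one_iff, EmbeddingLike.map_eq_one_iff] at e
    exact ha1 e

/-- The bound from the enumeration of tuples, for any generating family of conjugates. -/
theorem Setup.card_out_le_family [Finite G] (s : Setup C H gen ρ) (r : s.RepWords) {a : G} {m : ℕ}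
    (cg : s.ConjGraph a m) (hfix : ∀ φ : MulAut G, ∃ g : G, g * φ a * g⁻¹ = a)
    {f : ℕ → G} {K : ℕ} (hf : Subgroup.closure {y | ∃ k < K, f k = y} = ⊤)
    {std : List ℕ} (hlen : std.length = K)
    (hK : 1 ≤ K) (hstd : ∀ k < K, std.getD k 0 < C.N ∧ conjAt C gen a (std.getD k 0) = f k)
    (hnd : std.Nodup) {nodes : List TupNode} {leaves : List (List ℕ)}
    (hok : C.tupOK m std nodes leaves = true) :
    Nat.card (Cfsg.Out G) ≤ leaves.length := by
  classical
  haveI : Finite (MulAut G) := Finite.of_injective (fun φ : MulAut G => φ.toEquiv)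
    fun φ ψ h => MulEquiv.toEquiv_injective h
  let A := {φ : MulAut G // ∃ i : Fin leaves.length, ∀ k < K,
    φ (f k) = conjAt C gen a ((leaves[i]).getD k 0)}
  have hA : Nat.card A ≤ leaves.length := by
    let ι : A → Fin leaves.length := fun φ => φ.2.choose
    have hι : Function.Injective ι := by
      intro φ ψ e
      refine Subtype.ext (MulEquiv.ext fun x => ?_)
      have hx : x ∈ Subgroup.closure {y | ∃ k < K, f k = y} := by rw [hf]; trivial
      induction hx using Subgroup.closure_induction with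
      | mem y hy =>
        obtain ⟨k, hk, rfl⟩ := hy
        rw [φ.2.choose_spec k hk, ψ.2.choose_spec k hk]
        exact congrArg (fun i : Fin leaves.length => conjAt C gen a ((leaves[i]).getD k 0)) e
      | one => simp
      | mul x y _ _ hx hy => simp [hx, hy]
      | inv x _ hx => simp [hx]
    exact (Nat.card_le_card_of_injective ι hι).trans (by rw [Nat.card_fin])
  refine le_trans (Nat.card_le_card_of_surjective (fun φ : A => (φ.1 : Cfsg.Out G)) ?_) hA
  intro q
  obtain ⟨φ, rfl⟩ := QuotientGroup.mk_surjective q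
  obtain ⟨g₀, hg₀⟩ := hfix φ
  -- the images of the generators
  have hex : ∀ k : ℕ, ∃ x : Fin C.N, k < K → g₀ * φ (f k) * g₀⁻¹ = conjAt C gen a x := by
    intro k
    by_cases hk : k < K
    · obtain ⟨g, hg⟩ : ∃ g : G, f k = g * a * g⁻¹ :=
        ⟨(coreRep C gen (std.getD k 0))⁻¹, by rw [← (hstd k hk).2, conjAt, inv_inv]⟩
      refine ⟨ρ (g₀ * φ g * g₀⁻¹) s.base, fun _ => ?_⟩
      rw [← s.conj_eq_conjAt cg.comm]
      conv_rhs => rw [← hg₀]
      rw [hg, map_mul, map_mul, map_inv]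
      group
    · exact ⟨s.base, fun h => absurd h hk⟩
  choose p hp using hex
  have hgood : GoodTuple C m std p := by
    intro j hj l hl
    have hl' : l < K := by omega
    have hj' : j < K := by omega
    obtain ⟨hlN, el⟩ := hstd l hl'
    obtain ⟨hjN, ej⟩ := hstd j hj'
    refine ⟨fun e => ?_, ?_⟩
    · have h1 := hp l hl'
      rw [e, ← hp j hj', mul_left_inj, mul_right_inj, φ.injective.eq_iff, ← el, ← ej] at h1
      have h2 := congrArg Fin.val (cg.injective (x := ⟨_, hlN⟩) (y := ⟨_, hjN⟩) h1)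
      simp only at h2
      have h3 : std[l]'(by omega) = std[j]'(by omega) := by
        rwa [List.getD_eq_getElem _ _ (by omega), List.getD_eq_getElem _ _ (by omega)] at h2
      rw [hnd.getElem_inj_iff] at h3
      omega
    · rw [Bool.eq_iff_iff, cg.commute_iff r, cg.commute_iff r ⟨_, hlN⟩ ⟨_, hjN⟩, el, ej,
        ← hp l hl', ← hp j hj', conj_commute_iff]
      exact ⟨fun h => by simpa using h.map φ.symm.toMonoidHom, fun h => h.map φ.toMonoidHom⟩
  obtain ⟨g₁, hg₁⟩ := s.exists_leaf r cg.inv hok (by omega) hgood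
  obtain ⟨i, hi, hi'⟩ := List.getElem_of_mem hg₁
  refine ⟨⟨MulAut.conj (g₁ * g₀) * φ, ⟨i, hi⟩, fun k hk => ?_⟩, ?_⟩
  · have e : (leaves[i]'hi).getD k 0 = (ρ g₁ (p k) : ℕ) := by
      rw [hi', tupPrefix, List.getD_eq_getElem _ _ (by simp; omega), List.getElem_map,
        List.getElem_range]
    rw [show (leaves[(⟨i, hi⟩ : Fin leaves.length)]) = leaves[i]'hi from rfl, e,
      ← s.conjAt_smul cg.comm, ← hp k hk, MulAut.mul_apply, MulAut.conj_apply]
    group
  · simp only [QuotientGroup.mk_mul]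
    rw [(QuotientGroup.eq_one_iff (N := Cfsg.Inn G) (MulAut.conj (g₁ * g₀))).mpr
      (MonoidHom.mem_range.mpr ⟨g₁ * g₀, rfl⟩), one_mul]

end CfsgLib.CosetEnum
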