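import Cfsg.Agent.Lib.CosetEnum.Sound

/-!
Unfinished enumerations: a checked path from the start back to it shows that a word lies in the
subgroup.
-/

set_option autoImplicit false

namespace CfsgLib.CosetEnum

/-- the path reads the word and returns to the start -/
noncomputable def Cert.pathOK (C : Cert) (es w : List ℕ) : Bool :=
  (C.follow C.F es 0 w).elim false fun q => band (Nat.beq q.1 0) q.2.isEmpty

/-- the checked facts, by indices below a power of two -/
theorem holds_of_steps {G : Type*} [Group G] {C : Cert} {H : Subgroup G} {gen : ℕ → G}
    (m : Model C H gen) {k : ℕ} (h : allUp C.stepOK' k 0 = true) (hF : C.F ≤ 2 ^ k) :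
    ∀ i < C.F, Holds C H gen (C.fU i) (C.fG i) (C.fV i) := by
  intro i hi
  induction i using Nat.strong_induction_on with
  | _ i ih =>
    refine step_spec m ?_ fun j hj => ih j hj (by omega)
    have h' := allUp_spec h i (Nat.zero_le _) (by omega)
    unfold Cert.stepOK' at h'
    simp only [strict_eq] at h'
    rwa [show ltB i C.F = true from ltB_iff.mpr hi, pick_true] at h'

/-- A word with a checked path lies in the subgroup. -/
theorem mem_of_path {G : Type*} [Group G] {C : Cert} {H : Subgroup G} {gen : ℕ → G}
    (m : Model C H gen) {k : ℕ} (h : allUp C.stepOK' k 0 = true) (hF : C.F ≤ 2 ^ k)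
    {es w : List ℕ} (hp : C.pathOK es w = true) : prodW gen w ∈ H := by
  unfold Cert.pathOK at hp
  cases hf : C.follow C.F es 0 w with
  | none => simp [hf] at hp
  | some q =>
    simp only [hf, Option.elim_some, band_eq_true] at hp
    have := follow_end m (holds_of_steps m h hF) hf hp.1 hp.2
    simpa [psi_zero] using this

end CfsgLib.CosetEnum
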