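import Cfsg.Prelude.Def_SporCoxeter
import Cfsg.Agent.Lib.CosetEnum.Use

/-!
Certificates for groups presented on a Coxeter-type graph all of whose generators are nodes.
-/

set_option autoImplicit false

namespace CfsgLib.CosetEnum

open Cfsg.Spor

/-- The word `(i j)^m`. -/
def pairWord (i j : ℕ) : ℕ → List ℕ
  | 0 => []
  | m + 1 => i :: j :: pairWord i j m

theorem prodW_pairWord {G : Type*} [Group G] (gen : ℕ → G) (i j : ℕ) :
    ∀ m, prodW gen (pairWord i j m) = (gen i * gen j) ^ m
  | 0 => by simp [pairWord]
  | m + 1 => by
    rw [pairWord, prodW_cons, prodW_cons, prodW_pairWord gen i j m, pow_succ', mul_assoc]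

theorem prodW_self_inv {G : Type*} [Group G] {gen : ℕ → G} (h : ∀ g, gen g * gen g = 1) (g : ℕ) :
    (gen g)⁻¹ = gen g := inv_eq_of_mul_eq_one_right (h g)

section

variable {α : Type} [DecidableEq α]

/-- the check that the relators of a certificate are those of the presentation -/
def presOK (gl : List α) (edges : List (α × ℕ × α)) (extraW : List (List ℕ)) (C : Cert) : Bool :=
  decide (C.K = gl.length) && C.invs == List.range gl.length &&
    ((List.range gl.length).all fun i => (List.range gl.length).all fun j =>
      decide (j < i) ||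
        match gl[i]?, gl[j]? with
        | some x, some y => C.rels.contains (pairWord i j (coxLabel edges x y))
        | _, _ => false) &&
    (extraW.all fun w => C.rels.contains w) &&
    (C.rels.all fun r => extraW.contains r ||
      (List.range gl.length).any fun i => (List.range gl.length).any fun j =>
        match gl[i]?, gl[j]? with
        | some x, some y => r == pairWord i j (coxLabel edges x y)
        | _, _ => false)

theorem coxLabel_comm (edges : List (α × ℕ × α)) (x y : α) :
    coxLabel edges x y = coxLabel edges y x := by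
  unfold coxLabel
  by_cases h : x = y
  · simp [h]
  · simp only [if_neg h, if_neg (Ne.symm h)]
    have : (fun e : α × ℕ × α => decide ((e.1 = x ∧ e.2.2 = y) ∨ (e.1 = y ∧ e.2.2 = x))) =
        fun e => decide ((e.1 = y ∧ e.2.2 = x) ∨ (e.1 = x ∧ e.2.2 = y)) := by
      funext e; simp only [decide_eq_decide]; exact or_comm
    rw [this]

variable (gl : List α) (edges : List (α × ℕ × α)) (extra : List (FreeGroup α))

/-- the generators of the presented group, by number -/
def presGen : ℕ → CoxPresented α edges extra :=
  genOf gl (fun x => PresentedGroup.of x)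

/-- The translation of the further relators into words. -/
def ExtraWords (extraW : List (List ℕ)) : Prop :=
  List.Forall₂ (fun r w => ∀ (P : Type) [Group P] (f : α → P), (∀ x, f x * f x = 1) →
    FreeGroup.lift f r = prodW (genOf gl f) w) extra extraW

variable {gl edges extra}

theorem coxLabel_self (edges : List (α × ℕ × α)) (x : α) : coxLabel edges x x = 1 := by
  simp [coxLabel]

theorem of_pair {x y : α} (hx : x ∈ coxNodes edges) (hy : y ∈ coxNodes edges) :
    ((PresentedGroup.of x : CoxPresented α edges extra) * PresentedGroup.of y) ^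
      coxLabel edges x y = 1 := by
  have h := PresentedGroup.one_of_mem (rels := coxRelators edges ∪ {r | r ∈ extra})
    (x := (FreeGroup.of x * FreeGroup.of y) ^ coxLabel edges x y) (Or.inl ⟨x, hx, y, hy, rfl⟩)
  rw [map_pow, map_mul] at h
  exact h

theorem of_sq {x : α} (hx : x ∈ coxNodes edges) :
    (PresentedGroup.of x : CoxPresented α edges extra) * PresentedGroup.of x = 1 := by
  have := of_pair (extra := extra) hx hx
  rwa [coxLabel_self, pow_one] at this

theorem presModel (hnodes : ∀ x, x ∈ coxNodes edges) {extraW : List (List ℕ)}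
    (hex : ExtraWords gl extra extraW) {C : Cert} (hC : presOK gl edges extraW C = true)
    (H : Subgroup (CoxPresented α edges extra))
    (hH : ∀ w ∈ C.subs, prodW (presGen gl edges extra) w ∈ H) :
    Model C H (presGen gl edges extra) := by
  simp only [presOK, Bool.and_eq_true, decide_eq_true_eq, beq_iff_eq, List.all_eq_true,
    Bool.or_eq_true, List.any_eq_true, List.mem_range, List.contains_iff_mem] at hC
  obtain ⟨⟨⟨⟨hK, hinv⟩, -⟩, -⟩, hrels⟩ := hC
  have hinv' : ∀ g, C.inv g = g := fun g => by
    rw [Cert.inv, hinv, List.getD_eq_getElem?_getD]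
    by_cases hg : g < gl.length <;> simp [hg]
  refine ⟨genOf_of_ge (by omega), fun g => ?_, fun r hr => ?_, hH⟩
  · rw [hinv']
    unfold presGen genOf
    split
    · exact of_sq (hnodes _)
    · simp
  · rcases hrels r hr with hr' | ⟨i, hi, j, hj, e⟩
    · obtain ⟨k, hk, rfl⟩ := List.getElem_of_mem hr'
      have hlen := hex.length_eq
      have h2 := List.forall₂_iff_get.mp hex |>.2 k (by omega) hk
      simp only [List.get_eq_getElem] at h2
      have h3 := h2 _ (fun x => (PresentedGroup.of x : CoxPresented α edges extra))
        (fun x => of_sq (hnodes x))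
      rw [presGen, ← h3]
      have h4 : PresentedGroup.mk (coxRelators edges ∪ {r | r ∈ extra}) (extra[k]'(by omega)) = 1 :=
        PresentedGroup.one_of_mem (Or.inr (List.getElem_mem _))
      rw [← h4]
      refine DFunLike.congr_fun (FreeGroup.ext_hom _ _ fun x => ?_) _
      simp
      rfl
    · simp only [List.getElem?_eq_getElem, hi, hj, beq_iff_eq] at e
      rw [e, prodW_pairWord, presGen, genOf_of_lt hi, genOf_of_lt hj]
      exact of_pair (hnodes _) (hnodes _)

theorem presGen_top (hgl : ∀ x, x ∈ gl) {C : Cert} (hK : C.K = gl.length) :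
    Subgroup.closure {y | ∃ g < C.K, presGen gl edges extra g = y} = ⊤ := by
  rw [eq_top_iff, ← PresentedGroup.closure_range_of (coxRelators edges ∪ {r | r ∈ extra}),
    Subgroup.closure_le]
  rintro y ⟨x, rfl⟩
  obtain ⟨i, hi, rfl⟩ := List.getElem_of_mem (hgl x)
  exact Subgroup.subset_closure ⟨i, by omega, by rw [presGen, genOf_of_lt hi]⟩

theorem exists_presAction (hgl : ∀ x, x ∈ gl) (hnd : gl.Nodup) {extraW : List (List ℕ)}
    (hex : ExtraWords gl extra extraW) {C : Cert} (hC : presOK gl edges extraW C = true)
    (c : C.Complete) (a : C.IsAction) :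
    ∃ ρ : CoxPresented α edges extra →* Equiv.Perm (Fin C.N),
      ∀ g < C.K, ρ (presGen gl edges extra g) = letterPerm c a g := by
  simp only [presOK, Bool.and_eq_true, decide_eq_true_eq, beq_iff_eq, List.all_eq_true,
    Bool.or_eq_true, List.any_eq_true, List.mem_range, List.contains_iff_mem] at hC
  obtain ⟨⟨⟨⟨hK, hinv⟩, hpairs⟩, hextra⟩, -⟩ := hC
  let f : α → Equiv.Perm (Fin C.N) := fun x => letterPerm c a (gl.idxOf x)
  have hf : ∀ i (hi : i < gl.length), f gl[i] = letterPerm c a i := fun i hi => by
    simp only [f, List.Nodup.idxOf_getElem hnd i hi]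
  have hpair : ∀ i j, i ≤ j → ∀ (hi : i < gl.length) (hj : j < gl.length),
      (f gl[i] * f gl[j]) ^ coxLabel edges gl[i] gl[j] = 1 := by
    intro i j hij hi hj
    rcases hpairs i hi j hj with h | h
    · omega
    · simp only [List.getElem?_eq_getElem, hi, hj, List.contains_iff_mem] at h
      rw [hf i hi, hf j hj, ← prodW_pairWord]
      exact prodW_letterPerm_rel c a _ h
  have hsq : ∀ x, f x * f x = 1 := fun x => by
    obtain ⟨i, hi, rfl⟩ := List.getElem_of_mem (hgl x)
    have := hpair i i le_rfl hi hi
    rwa [coxLabel_self, pow_one] at this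
  have hrel : ∀ r ∈ coxRelators edges ∪ {r | r ∈ extra}, FreeGroup.lift f r = 1 := by
    rintro r (⟨x, -, y, -, rfl⟩ | hr)
    · simp only [map_pow, map_mul, FreeGroup.lift_apply_of]
      obtain ⟨i, hi, rfl⟩ := List.getElem_of_mem (hgl x)
      obtain ⟨j, hj, rfl⟩ := List.getElem_of_mem (hgl y)
      rcases le_total i j with hij | hij
      · exact hpair i j hij hi hj
      · have h := hpair j i hij hj hi
        rw [coxLabel_comm] at h
        have e : f gl[i] * f gl[j] = f gl[i] * (f gl[j] * f gl[i]) * (f gl[i])⁻¹ := by group
        rw [e, conj_pow, h, mul_one, mul_inv_cancel]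
    · obtain ⟨k, hk, rfl⟩ := List.getElem_of_mem (Set.mem_ofPred_eq ▸ hr : r ∈ extra)
      have hlen := hex.length_eq
      have h2 := List.forall₂_iff_get.mp hex |>.2 k hk (by omega)
      simp only [List.get_eq_getElem] at h2
      rw [h2 _ f hsq]
      refine (prodW_congr fun g hg => ?_).trans
        (prodW_letterPerm_rel c a _ (hextra _ (List.getElem_mem _)))
      have hl := a.sub
      simp only [Cert.ndOK, Bool.and_eq_true, List.all_eq_true, Nat.blt_eq] at hl
      have := hl.2 _ (hextra _ (List.getElem_mem (by omega))) g hg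
      rw [genOf_of_lt (by omega), hf g (by omega)]
  refine ⟨PresentedGroup.toGroup hrel, fun g hg => ?_⟩
  rw [presGen, genOf_of_lt (by omega), PresentedGroup.toGroup.of, hf g (by omega)]

end

end CfsgLib.CosetEnum
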