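import Cfsg.Agent.Lib.CosetEnum.Base

/-!
The relation on cosets given by a union of suborbits, and conjugates of an element fixed by the
subgroup.
-/

set_option autoImplicit false

namespace CfsgLib.CosetEnum

namespace Cert

variable (C : Cert)

/-- the word of a node, found by climbing at most `fuel` parents -/
noncomputable def climbWord (fuel : ℕ) : ℕ → List ℕ :=
  Nat.rec (fun _ => []) (fun _ ih n =>
    strict n fun n => pick (Nat.beq n 0) [] (ih (C.par n) ++ [C.lett n])) fuel

/-- whether `fuel` parents lead to node `0` -/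
noncomputable def climbOK (fuel : ℕ) : ℕ → Bool :=
  Nat.rec (fun n => Nat.beq n 0) (fun _ ih n =>
    strict n fun n => pick (Nat.beq n 0) true
      (band (ltB (C.par n) n) (band (ltB (C.lett n) C.K) (ih (C.par n))))) fuel

/-- all of `f base, …` below `n`, by halving -/
noncomputable def allPtsFrom (n : ℕ) (f : ℕ → Bool) (k : ℕ) : ℕ → Bool :=
  Nat.rec (fun b => strict b fun b => pick (ltB b n) (f b) true) (fun k ih b =>
    strict b fun b => pick (ltB b n) (band (ih b) (ih (Nat.add b (Nat.pow (nat_lit 2) k)))) true) k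

/-- all of `f 0, …, f (n - 1)`, by halving -/
noncomputable def allPts (n : ℕ) (f : ℕ → Bool) : Bool :=
  band (ltB n (Nat.pow (nat_lit 2) (nat_lit 20))) (allPtsFrom n f (nat_lit 20) (nat_lit 0))

theorem allPtsFrom_spec {n : ℕ} {f : ℕ → Bool} : ∀ {k b : ℕ}, allPtsFrom n f k b = true →
    ∀ i, b ≤ i → i < n → i < b + 2 ^ k → f i = true
  | 0, b, h, i, h1, h2, h3 => by
    obtain rfl : i = b := by simp at h3; omega
    unfold allPtsFrom at h
    simp only [Nat.rec_zero, strict_eq] at h
    rwa [show ltB i n = true from ltB_iff.mpr h2, pick_true] at h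
  | k + 1, b, h, i, h1, h2, h3 => by
    have e : allPtsFrom n f (k + 1) b =
        pick (ltB b n) (band (allPtsFrom n f k b) (allPtsFrom n f k (b + 2 ^ k))) true := by
      unfold allPtsFrom
      simp only [strict_eq]
      rfl
    rw [e, show ltB b n = true from ltB_iff.mpr (by omega), pick_true, band_eq_true] at h
    rw [pow_succ] at h3
    by_cases hi : i < b + 2 ^ k
    · exact allPtsFrom_spec h.1 i h1 h2 hi
    · exact allPtsFrom_spec h.2 i (by omega) h2 (by omega)

theorem allPts_spec {n : ℕ} {f : ℕ → Bool} (h : allPts n f = true) : ∀ i < n, f i = true := by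
  intro i hi
  rw [allPts, band_eq_true, ltB_iff] at h
  exact allPtsFrom_spec h.2 i (Nat.zero_le _) hi (by
    have h1 : n < 2 ^ 20 := h.1
    show i < 0 + 2 ^ 20
    omega)

/-- the climbing depth used for the relation -/
def climbFuel : ℕ := 64

/-- the word of the representative of a coset -/
noncomputable def repWord (x : ℕ) : List ℕ := C.climbWord climbFuel (C.nd.at' (nat_lit 24) x)

/-- the representative words are complete -/
noncomputable def repOK' (x : ℕ) : Bool :=
  strict x fun x => pick (ltB x C.N) (C.climbOK climbFuel (C.nd.at' (nat_lit 24) x)) true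

/-- the suborbit position of `y` seen from `x` -/
noncomputable def seenFrom (x y : ℕ) : ℕ := C.run y (C.revInv (C.repWord x))

/-- the relation of a union of suborbits `m` -/
noncomputable def relB (m x y : ℕ) : Bool := Nat.testBit m (C.seenFrom x y)

/-- the word of the conjugate of a letter attached to a coset -/
noncomputable def conjWord (g x : ℕ) : List ℕ := C.revInv (C.repWord x) ++ g :: C.repWord x

end Cert

variable {G : Type*} [Group G] {C : Cert} {H : Subgroup G} {gen : ℕ → G}
  {ρ : G →* Equiv.Perm (Fin C.N)}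

theorem climbWord_spec (m : Model C H gen) : ∀ (fuel n : ℕ), C.climbOK fuel n = true →
    (∀ g ∈ C.climbWord fuel n, g < C.K) ∧ psi C gen n = prodW gen (C.climbWord fuel n)
  | 0, n, h => by
    obtain rfl : n = 0 := Nat.eq_of_beq_eq_true h
    simp [Cert.climbWord, psi_zero]
  | fuel + 1, n, h => by
    have e1 : C.climbOK (fuel + 1) n = pick (Nat.beq n 0) true
        (band (ltB (C.par n) n) (band (ltB (C.lett n) C.K) (C.climbOK fuel (C.par n)))) := by
      unfold Cert.climbOK
      simp only [strict_eq]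
    have e2 : C.climbWord (fuel + 1) n =
        pick (Nat.beq n 0) [] (C.climbWord fuel (C.par n) ++ [C.lett n]) := by
      unfold Cert.climbWord
      simp only [strict_eq]
    rw [e1] at h
    rw [e2]
    cases h0 : Nat.beq n 0
    · rw [h0, pick_false] at h
      simp only [band_eq_true, ltB_iff] at h
      obtain ⟨i1, i2⟩ := climbWord_spec m fuel _ h.2.2
      rw [pick_false, psi_succ h.1, i2, prodW_append, prodW_cons, prodW_nil, mul_one]
      refine ⟨fun g hg => ?_, rfl⟩
      rw [List.mem_append, List.mem_singleton] at hg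
      rcases hg with hg | rfl
      · exact i1 g hg
      · exact h.2.1
    · rw [pick_true, Nat.eq_of_beq_eq_true h0, psi_zero]
      simp

/-- The representatives are the climbed words. -/
structure Setup.RepWords (s : Setup C H gen ρ) : Prop where
  ok : ∀ x < C.N, C.climbOK Cert.climbFuel (C.nd.at' 24 x) = true

theorem Setup.repWords_of (s : Setup C H gen ρ) {k : ℕ} (h : allUp C.repOK' k 0 = true)
    (hN : C.N ≤ 2 ^ k) : s.RepWords := ⟨fun x hx => by
  have h' := allUp_spec h x (Nat.zero_le _) (by omega)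
  unfold Cert.repOK' at h'
  simp only [strict_eq] at h'
  rwa [show ltB x C.N = true from ltB_iff.mpr hx, pick_true] at h'⟩

theorem Setup.coreRep_eq (s : Setup C H gen ρ) (r : s.RepWords) (x : Fin C.N) :
    (∀ g ∈ C.repWord x, g < C.K) ∧ coreRep C gen x = prodW gen (C.repWord x) :=
  climbWord_spec s.model _ _ (r.ok x x.2)

theorem Setup.seenFrom_eq (s : Setup C H gen ρ) (r : s.RepWords) (x y : Fin C.N) :
    (ρ (coreRep C gen x) y : ℕ) = C.seenFrom x y := by
  rw [(s.coreRep_eq r x).2, s.rho_prodW (s.coreRep_eq r x).1]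
  rfl

/-- A union of suborbits as a mask. -/
def MaskInv (ρ : G →* Equiv.Perm (Fin C.N)) (H : Subgroup G) (m : ℕ) : Prop :=
  ∀ h ∈ H, ∀ z : Fin C.N, m.testBit (ρ h z : ℕ) = m.testBit z

theorem Setup.maskInv_or (s : Setup C H gen ρ) {r m : ℕ} (o : Suborbit C r m) :
    MaskInv ρ H (1 ||| m) := fun h hh z => by
  rw [Nat.testBit_or, Nat.testBit_or, s.orbit_sub o hh z]
  congr 1
  rw [Bool.eq_iff_iff, Nat.testBit_one_eq_true_iff_self_eq_zero,
    Nat.testBit_one_eq_true_iff_self_eq_zero]
  have key : (ρ h z : ℕ) = 0 ↔ (z : ℕ) = 0 := by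
    have hb : ∀ u : Fin C.N, (u : ℕ) = 0 ↔ u = s.base := fun u => by
      rw [Fin.ext_iff]; rfl
    rw [hb, hb]
    exact ⟨fun e => (ρ h).injective (e.trans (s.rho_fix hh).symm), fun e => e ▸ s.rho_fix hh⟩
  exact key

theorem Setup.rep_mul_mem (s : Setup C H gen ρ) (g : G) (x : Fin C.N) :
    coreRep C gen (ρ g x) * g * (coreRep C gen x)⁻¹ ∈ H := by
  rw [s.mem_iff, map_mul, map_mul, Equiv.Perm.mul_apply, Equiv.Perm.mul_apply, s.rho_rep_inv]
  have h2 := congrArg (ρ (coreRep C gen (ρ g x))) (s.rho_rep_inv (ρ g x))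
  rw [← Equiv.Perm.mul_apply, ← map_mul, mul_inv_cancel, map_one] at h2
  exact h2.symm

/-- The relation is invariant. -/
theorem Setup.relB_smul (s : Setup C H gen ρ) (r : s.RepWords) {m : ℕ} (hm : MaskInv ρ H m)
    (g : G) (x y : Fin C.N) : C.relB m (ρ g x) (ρ g y) = C.relB m x y := by
  unfold Cert.relB
  rw [← s.seenFrom_eq r, ← s.seenFrom_eq r, ← hm _ (s.rep_mul_mem g x) (ρ (coreRep C gen x) y)]
  congr 2
  simp

/-- The conjugate of `a` attached to a coset. -/
noncomputable def conjAt (C : Cert) (gen : ℕ → G) (a : G) (x : ℕ) : G :=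
  (coreRep C gen x)⁻¹ * a * coreRep C gen x

theorem Setup.conj_eq_conjAt (s : Setup C H gen ρ) {a : G} (ha : ∀ h ∈ H, h * a = a * h) (g : G) :
    g * a * g⁻¹ = conjAt C gen a (ρ g s.base) := by
  have hmem : coreRep C gen (ρ g s.base) * g ∈ H := by
    have := s.rep_mul_mem g s.base
    rwa [show coreRep C gen (s.base : ℕ) = 1 by
      simp [coreRep, Setup.base, s.complete.nd_zero, psi_zero], inv_one, mul_one] at this
  set c := coreRep C gen (ρ g s.base)
  have h1 : a = (c * g) * a * (c * g)⁻¹ := by rw [ha _ hmem]; group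
  unfold conjAt
  rw [show (coreRep C gen (ρ g s.base : ℕ)) = c from rfl]
  conv_rhs => rw [h1]
  group

theorem Setup.conjAt_smul (s : Setup C H gen ρ) {a : G} (ha : ∀ h ∈ H, h * a = a * h) (g : G)
    (x : Fin C.N) : g * conjAt C gen a x * g⁻¹ = conjAt C gen a (ρ g x) := by
  have e := s.rho_rep_inv x
  have h1 := s.conj_eq_conjAt ha (coreRep C gen x)⁻¹
  rw [e, inv_inv] at h1
  have h2 := s.conj_eq_conjAt ha (g * (coreRep C gen x)⁻¹)
  rw [map_mul, Equiv.Perm.mul_apply, e] at h2
  rw [← h1, ← h2]
  group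

theorem Setup.conjWord_eq (s : Setup C H gen ρ) (r : s.RepWords) {g : ℕ} (hg : g < C.K)
    (x : Fin C.N) : (∀ l ∈ C.conjWord g x, l < C.K) ∧
      conjAt C gen (gen g) x = prodW gen (C.conjWord g x) := by
  obtain ⟨h1, h2⟩ := s.coreRep_eq r x
  constructor
  · intro l hl
    rcases List.mem_append.mp hl with hl | hl
    · simp only [Cert.revInv, List.mem_reverse, List.mem_map] at hl
      obtain ⟨l', hl', rfl⟩ := hl
      exact s.complete.inv_lt (h1 l' hl')
    · rcases List.mem_cons.mp hl with rfl | hl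
      · exact hg
      · exact h1 l hl
  · unfold conjAt
    rw [h2, Cert.conjWord, prodW_append, s.model.revInv_eq, prodW_cons, mul_assoc]

/-- coset `x` is moved the same way by two words -/
noncomputable def sameAt (C : Cert) (u w : List ℕ) (x : ℕ) : Bool :=
  strict x fun x => pick (ltB x C.N) (Nat.beq (C.run x (C.revInv u)) (C.run x (C.revInv w))) true

theorem Setup.eq_of_sameAt (s : Setup C H gen ρ) (hinj : Function.Injective ρ) {u w : List ℕ}
    (hu : ∀ g ∈ u, g < C.K) (hw : ∀ g ∈ w, g < C.K) {k : ℕ} (h : allUp (sameAt C u w) k 0 = true)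
    (hN : C.N ≤ 2 ^ k) : prodW gen u = prodW gen w := by
  refine hinj (Equiv.ext fun x => Fin.ext ?_)
  rw [s.rho_prodW hu, s.rho_prodW hw]
  have h' := allUp_spec h x (Nat.zero_le _) (by have := x.2; omega)
  unfold sameAt at h'
  simp only [strict_eq] at h'
  rw [show ltB (x : ℕ) C.N = true from ltB_iff.mpr x.2, pick_true] at h'
  exact Nat.eq_of_beq_eq_true h'

theorem Setup.ne_of_run (s : Setup C H gen ρ) {u w : List ℕ} (hu : ∀ g ∈ u, g < C.K)
    (hw : ∀ g ∈ w, g < C.K) {x : ℕ} (hx : x < C.N)
    (h : Nat.beq (C.run x (C.revInv u)) (C.run x (C.revInv w)) = false) :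
    prodW gen u ≠ prodW gen w := fun e => by
  have h1 := s.rho_prodW hu ⟨x, hx⟩
  rw [e, s.rho_prodW hw ⟨x, hx⟩] at h1
  rw [show C.run x (C.revInv u) = C.run x (C.revInv w) from h1.symm, Nat.beq_refl] at h
  exact absurd h (by simp)

end CfsgLib.CosetEnum
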