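import Cfsg.Agent.Lib.CosetEnum.Basic

/-!
Soundness of the certificates: the cosets of the table cover the generated subgroup.
-/

set_option autoImplicit false

namespace CfsgLib.CosetEnum

/-- The product of a word. -/
def prodW {G : Type*} [Group G] (gen : ℕ → G) (w : List ℕ) : G := (w.map gen).prod

@[simp] theorem prodW_nil {G : Type*} [Group G] (gen : ℕ → G) : prodW gen [] = 1 := rfl

@[simp] theorem prodW_cons {G : Type*} [Group G] (gen : ℕ → G) (g : ℕ) (w : List ℕ) :
    prodW gen (g :: w) = gen g * prodW gen w := by simp [prodW]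

theorem prodW_append {G : Type*} [Group G] (gen : ℕ → G) (v w : List ℕ) :
    prodW gen (v ++ w) = prodW gen v * prodW gen w := by simp [prodW]

theorem prodW_rotate {G : Type*} [Group G] (gen : ℕ → G) {r : List ℕ} (h : prodW gen r = 1)
    (b : ℕ) : prodW gen (r.drop b ++ r.take b) = 1 := by
  rw [← List.take_append_drop b r, prodW_append, mul_eq_one_iff_eq_inv] at h
  rw [prodW_append, h, mul_inv_cancel]

theorem map_prodW {G G' : Type*} [Group G] [Group G'] (f : G →* G') (gen : ℕ → G) (w : List ℕ) :
    f (prodW gen w) = prodW (fun g => f (gen g)) w := by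
  induction w with
  | nil => simp
  | cons g w ih => simp [ih]

theorem prodW_congr {G : Type*} [Group G] {gen gen' : ℕ → G} {w : List ℕ}
    (h : ∀ g ∈ w, gen g = gen' g) : prodW gen w = prodW gen' w :=
  congrArg List.prod (List.map_congr_left h)

/-- An interpretation of a certificate in a group. -/
structure Model {G : Type*} [Group G] (C : Cert) (H : Subgroup G) (gen : ℕ → G) : Prop where
  gen_K : gen C.K = 1
  inv_mul : ∀ g, gen g * gen (C.inv g) = 1
  rel : ∀ r ∈ C.rels, prodW gen r = 1
  sub : ∀ w ∈ C.subs, prodW gen w ∈ H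

variable {G : Type*} [Group G] {C : Cert} {H : Subgroup G} {gen : ℕ → G}

theorem Model.gen_inv (m : Model C H gen) (g : ℕ) : gen (C.inv g) = (gen g)⁻¹ :=
  eq_inv_of_mul_eq_one_right (m.inv_mul g)

theorem Model.revInv_eq (m : Model C H gen) (w : List ℕ) :
    prodW gen (C.revInv w) = (prodW gen w)⁻¹ := by
  induction w with
  | nil => simp [Cert.revInv]
  | cons g w ih =>
    have e : C.revInv (g :: w) = C.revInv w ++ [C.inv g] := by simp [Cert.revInv]
    rw [e, prodW_append, ih]
    simp [m.gen_inv]

theorem Model.prodW_gw (m : Model C H gen) (g : ℕ) : prodW gen (C.gw g) = gen g := by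
  unfold Cert.gw
  cases h : Nat.beq g C.K
  · simp
  · simp [Nat.eq_of_beq_eq_true h, m.gen_K]

theorem Model.eat_spec (m : Model C H gen) {g : ℕ} {w w' : List ℕ} (h : C.eat g w = some w') :
    prodW gen w = gen g * prodW gen w' := by
  unfold Cert.eat at h
  cases hK : Nat.beq g C.K
  · rw [hK, pick_false] at h
    cases w with
    | nil => simp at h
    | cons x xs =>
      change pick (Nat.beq x g) (some xs) none = some w' at h
      cases hx : Nat.beq x g
      · simp [hx] at h
      · rw [hx, pick_true, Option.some.injEq] at h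
        rw [prodW_cons, Nat.eq_of_beq_eq_true hx, h]
  · rw [hK, pick_true, Option.some.injEq] at h
    rw [Nat.eq_of_beq_eq_true hK, m.gen_K, one_mul, h]

theorem Model.prodW_red (m : Model C H gen) : ∀ w, prodW gen (C.red w) = prodW gen w
  | [] => rfl
  | x :: w => by
    have ih := m.prodW_red w
    have e : C.red (x :: w) =
        List.rec [x] (fun y ys _ => pick (Nat.beq y (C.invK x)) ys (x :: y :: ys)) (C.red w) := rfl
    rw [e, prodW_cons, ← ih]
    cases hr : C.red w with
    | nil => rfl
    | cons y ys =>
      dsimp only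
      cases hb : Nat.beq y (C.invK x)
      · rfl
      · rw [pick_true, Nat.eq_of_beq_eq_true hb, C.invK_eq, prodW_cons, ← mul_assoc, m.inv_mul,
          one_mul]

theorem Model.prodW_relWord (m : Model C H gen) (a : ℕ) : prodW gen (C.relWord a) = 1 := by
  have key : ∀ j, prodW gen (nthWord C.rels j) = 1 := fun j => by
    rw [nthWord_eq]
    by_cases hj : j < C.rels.length
    · rw [List.getD_eq_getElem _ _ hj]; exact m.rel _ (List.getElem_mem hj)
    · rw [List.getD_eq_default _ _ (by omega)]; rfl
  unfold Cert.relWord
  cases ltB a C.rels.length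
  · rw [pick_false, m.revInv_eq, key, inv_one]
  · rw [pick_true, key]

/-- The element of a node. -/
noncomputable def psi (C : Cert) (gen : ℕ → G) (n : ℕ) : G :=
  if n = 0 then 1 else if C.par n < n then psi C gen (C.par n) * gen (C.lett n) else 1
  termination_by n
  decreasing_by assumption

theorem psi_zero : psi C gen 0 = 1 := by rw [psi]; simp

theorem psi_succ {n : ℕ} (h : C.par n < n) :
    psi C gen n = psi C gen (C.par n) * gen (C.lett n) := by
  rw [psi, if_neg (by omega), if_pos h]

/-- The meaning of a fact. -/
def Holds (C : Cert) (H : Subgroup G) (gen : ℕ → G) (u g v : ℕ) : Prop :=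
  psi C gen u * gen g * (psi C gen v)⁻¹ ∈ H

theorem holds_ref (m : Model C H gen) {e : ℕ}
    (h : Holds C H gen (C.fU (Cert.refId e)) (C.fG (Cert.refId e)) (C.fV (Cert.refId e))) :
    Holds C H gen (C.rU e) (C.rG e) (C.rV e) := by
  unfold Cert.rU Cert.rG Cert.rV
  cases Cert.refFwd e
  · simp only [pick_false, Holds, C.invK_eq, m.gen_inv]
    have := H.inv_mem h
    simpa [mul_assoc] using this
  · exact h

theorem follow_spec (m : Model C H gen) {bound : ℕ}
    (hb : ∀ j < bound, Holds C H gen (C.fU j) (C.fG j) (C.fV j)) :
    ∀ (es : List ℕ) (st en : ℕ) (w rest : List ℕ), C.follow bound es st w = some (en, rest) →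
      psi C gen st * prodW gen w * (prodW gen rest)⁻¹ * (psi C gen en)⁻¹ ∈ H
  | [], st, en, w, rest, h => by
    simp only [Cert.follow_nil, Option.some.injEq, Prod.mk.injEq] at h
    obtain ⟨rfl, rfl⟩ := h
    simp
  | e :: es, st, en, w, rest, h => by
    rw [Cert.follow_cons] at h
    cases hc : band (ltB (Cert.refId e) bound) (Nat.beq (C.rU e) st) with
    | false => simp [hc] at h
    | true =>
      rw [hc, pick_true] at h
      cases he : C.eat (C.rG e) w with
      | none => simp [he] at h
      | some w' =>
        rw [he] at h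
        rw [band_eq_true, ltB_iff] at hc
        have h1 := holds_ref m (hb _ hc.1)
        rw [Nat.eq_of_beq_eq_true hc.2] at h1
        have h2 := H.mul_mem h1 (follow_spec m hb es _ _ _ _ h)
        rw [m.eat_spec he]
        simpa [Holds, mul_assoc] using h2

theorem follow_end (m : Model C H gen) {bound : ℕ}
    (hb : ∀ j < bound, Holds C H gen (C.fU j) (C.fG j) (C.fV j)) {es : List ℕ} {st en : ℕ}
    {w : List ℕ} {q : ℕ × List ℕ} (h : C.follow bound es st w = some q)
    (h1 : Nat.beq q.1 en = true) (h2 : q.2.isEmpty = true) :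
    psi C gen st * prodW gen w * (psi C gen en)⁻¹ ∈ H := by
  obtain ⟨e', r⟩ := q
  obtain rfl := Nat.eq_of_beq_eq_true h1
  obtain rfl : r = [] := List.isEmpty_iff.mp h2
  simpa using follow_spec m hb _ _ _ _ _ h

theorem step_spec (m : Model C H gen) {i : ℕ} (hi : C.stepOK i = true)
    (hb : ∀ j < i, Holds C H gen (C.fU j) (C.fG j) (C.fV j)) :
    Holds C H gen (C.fU i) (C.fG i) (C.fV i) := by
  unfold Cert.stepOK at hi
  simp only [strict_eq] at hi
  change psi C gen (uOf (C.frec i)) * gen (gOf (C.frec i)) * (psi C gen (vOf (C.frec i)))⁻¹ ∈ H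
  generalize hr : C.frec i = r at hi ⊢
  generalize hu : uOf r = u at hi ⊢
  generalize hg : gOf r = g at hi ⊢
  generalize hv : vOf r = v at hi ⊢
  cases h2 : Nat.beq (ruleOf r) 2
  · rw [h2, pick_false] at hi
    cases h1 : Nat.beq (ruleOf r) 1
    · rw [h1, pick_false] at hi
      cases h0 : Nat.beq (ruleOf r) 0
      · -- a subgroup word
        rw [h0, pick_false] at hi
        unfold Cert.subStep at hi
        dsimp only at hi
        cases hf2 : pick (ltB (aOf r) C.subs.length)
            (C.follow i ((C.refList (offOf r) (lenOf r)).drop (sOf r)) 0 (nthWord C.subs (aOf r)))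
            none with
        | none => simp [hf2] at hi
        | some q₂ =>
          rw [hf2] at hi
          dsimp only at hi
          cases he : C.eat g q₂.2 with
          | none => simp [he] at hi
          | some w =>
            rw [he] at hi
            dsimp only at hi
            cases hf1 : C.follow i ((C.refList (offOf r) (lenOf r)).take (sOf r)) v w with
            | none => simp [hf1] at hi
            | some q₁ =>
              rw [hf1] at hi
              dsimp only at hi
              simp only [band_eq_true] at hi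
              cases ha : ltB (aOf r) C.subs.length with
              | false => simp [ha] at hf2
              | true =>
                rw [ha, pick_true] at hf2
                rw [ltB_iff] at ha
                have hs := m.sub _ (List.getElem_mem ha)
                rw [← List.getD_eq_getElem _ [] ha, ← nthWord_eq] at hs
                have a1 := follow_end m hb hf1 hi.1 hi.2.1
                have a2 := follow_spec m hb _ _ _ _ _ hf2
                rw [psi_zero, inv_one, mul_one] at a1
                rw [psi_zero, one_mul, m.eat_spec he, Nat.eq_of_beq_eq_true hi.2.2] at a2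
                have := H.mul_mem (H.inv_mem (H.mul_mem (H.inv_mem hs) a2)) (H.inv_mem a1)
                simpa [mul_assoc] using this
      · -- a definition
        rw [h0, pick_true] at hi
        simp only [Cert.defStep, band_eq_true, ltB_iff] at hi
        obtain ⟨k1, k2, k3⟩ := hi
        have hp := Nat.eq_of_beq_eq_true k2
        rw [psi_succ (n := v) (by omega), hp, Nat.eq_of_beq_eq_true k3, mul_inv_cancel]
        exact H.one_mem
    · -- a composition
      rw [h1, pick_true] at hi
      unfold Cert.compStep at hi
      dsimp only at hi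
      cases hf : C.follow i (C.refList (offOf r) (lenOf r)) u
          (C.letterList (C.refList (offOf r) (lenOf r))) with
      | none => simp [hf] at hi
      | some q =>
        rw [hf] at hi
        dsimp only at hi
        simp only [band_eq_true, beq_iff_eq] at hi
        have h := follow_end m hb hf hi.1 hi.2.1
        rwa [← m.prodW_red, hi.2.2, m.prodW_gw] at h
  · -- a relator
    rw [h2, pick_true] at hi
    unfold Cert.relStep at hi
    cases he : C.eat g (rotW (C.relWord (aOf r)) (bOf r)) with
    | none => simp [he] at hi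
    | some w =>
      rw [he] at hi
      dsimp only at hi
      cases hf : C.follow i (C.refList (offOf r) (lenOf r)) v w with
      | none => simp [hf] at hi
      | some q =>
        rw [hf] at hi
        dsimp only at hi
        simp only [band_eq_true] at hi
        have h := H.inv_mem (follow_end m hb hf hi.1 hi.2)
        have hr' := prodW_rotate gen (m.prodW_relWord (aOf r)) (bOf r)
        rw [← rotW_eq, m.eat_spec he, mul_eq_one_iff_eq_inv] at hr'
        rw [hr']
        simpa [mul_assoc] using h

theorem facts_hold (m : Model C H gen) (hF : ∀ i < C.F, C.stepOK i = true) :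
    ∀ i < C.F, Holds C H gen (C.fU i) (C.fG i) (C.fV i) := by
  intro i
  induction i using Nat.strong_induction_on with
  | _ i ih => exact fun hi => step_spec m (hF i hi) fun j hj => ih j hj (by omega)

/-- A certificate that passes the covering checks. -/
structure Cert.Complete (C : Cert) : Prop where
  head : C.headOK = true
  step : ∀ i < C.F, C.stepOK i = true
  entry : ∀ i < C.N, C.entryOK i = true

theorem Cert.Complete.N_pos (c : C.Complete) : 0 < C.N := by
  have := c.head
  simp only [Cert.headOK, Bool.and_eq_true, decide_eq_true_eq] at this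
  exact this.1.1.1.1

theorem Cert.Complete.nd_zero (c : C.Complete) : C.nd.at' 24 0 = 0 := by
  have := c.head
  simp only [Cert.headOK, Bool.and_eq_true] at this
  exact Nat.eq_of_beq_eq_true this.1.1.1.2

theorem Cert.Complete.inv_lt (c : C.Complete) {g : ℕ} (hg : g < C.K) : C.inv g < C.K := by
  have := c.head
  simp only [Cert.headOK, Bool.and_eq_true, List.all_eq_true, List.mem_range, Nat.blt_eq] at this
  exact this.2 g hg

/-- The element of a coset. -/
noncomputable def coreRep (C : Cert) (gen : ℕ → G) (i : ℕ) : G := psi C gen (C.nd.at' 24 i)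

theorem coreRep_mul (c : C.Complete) (m : Model C H gen) {i g : ℕ} (hi : i < C.N)
    (hg : g < C.K) :
    C.T i g < C.N ∧ coreRep C gen i * gen g * (coreRep C gen (C.T i g))⁻¹ ∈ H := by
  have h := c.entry i hi
  unfold Cert.entryOK at h
  simp only [strict_eq] at h
  have h' := Cert.allBelow_spec h g hg
  simp only [band_eq_true, ltB_iff] at h'
  obtain ⟨h1, h2, h3, h4, h5⟩ := h'
  refine ⟨h2, ?_⟩
  have hh := holds_ref m (facts_hold m c.step _ h1)
  change Holds C H gen (Cert.refU _ (C.frec _)) (C.refG _ (C.frec _)) (Cert.refV _ (C.frec _)) at hh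
  rw [Nat.eq_of_beq_eq_true h3, Nat.eq_of_beq_eq_true h4, Nat.eq_of_beq_eq_true h5] at hh
  exact hh

theorem coreRep_run (c : C.Complete) (m : Model C H gen) :
    ∀ (w : List ℕ) (i : ℕ), i < C.N → (∀ g ∈ w, g < C.K) →
      C.run i w < C.N ∧ coreRep C gen i * prodW gen w * (coreRep C gen (C.run i w))⁻¹ ∈ H
  | [], i, hi, _ => by simp [Cert.run_nil, hi]
  | g :: w, i, hi, hw => by
    rw [List.forall_mem_cons] at hw
    obtain ⟨h1, h2⟩ := coreRep_mul c m hi hw.1
    obtain ⟨h3, h4⟩ := coreRep_run c m w _ h1 hw.2
    exact ⟨by simpa [Cert.run_cons] using h3, by simpa [Cert.run_cons, mul_assoc] using H.mul_mem h2 h4⟩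

theorem mem_of_run_eq_zero (c : C.Complete) (m : Model C H gen) {w : List ℕ}
    (hw : ∀ g ∈ w, g < C.K) (h : C.run 0 w = 0) : prodW gen w ∈ H := by
  have := (coreRep_run c m w 0 c.N_pos hw).2
  rwa [h, coreRep, c.nd_zero, psi_zero, one_mul, inv_one, mul_one] at this

/-- Every element of the generated subgroup lies in one of the cosets. -/
theorem exists_coset (c : C.Complete) (m : Model C H gen) {x : G}
    (hx : x ∈ Subgroup.closure {y | ∃ g < C.K, gen g = y}) :
    ∃ i < C.N, x * (coreRep C gen i)⁻¹ ∈ H := by
  have step : ∀ (x : G) (g : ℕ), g < C.K → (∃ i < C.N, x * (coreRep C gen i)⁻¹ ∈ H) →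
      ∃ i < C.N, x * gen g * (coreRep C gen i)⁻¹ ∈ H := by
    rintro x g hg ⟨i, hi, hx⟩
    obtain ⟨h1, h2⟩ := coreRep_mul c m hi hg
    exact ⟨_, h1, by simpa [mul_assoc] using H.mul_mem hx h2⟩
  induction hx using Subgroup.closure_induction_right with
  | one => exact ⟨0, c.N_pos, by simp [coreRep, c.nd_zero, psi_zero]⟩
  | mul_right x hx y hy ih =>
    obtain ⟨g, hg, rfl⟩ := hy
    exact step x g hg ih
  | mul_inv_cancel x hx y hy ih =>
    obtain ⟨g, hg, rfl⟩ := hy
    rw [← m.gen_inv g]
    exact step x (C.inv g) (c.inv_lt hg) ih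

/-- The bound on the order. -/
theorem finite_card_le (c : C.Complete) (m : Model C H gen) (n : ℕ) [Finite H]
    (hn : Nat.card H ≤ n) :
    Finite (Subgroup.closure {y | ∃ g < C.K, gen g = y}) ∧
      Nat.card (Subgroup.closure {y | ∃ g < C.K, gen g = y}) ≤ C.N * n := by
  classical
  set S := Subgroup.closure {y | ∃ g < C.K, gen g = y}
  choose f hf hf' using fun x : S => exists_coset c m x.2
  let φ : S → Fin C.N × H := fun x => (⟨f x, hf x⟩, ⟨_, hf' x⟩)
  have hφ : Function.Injective φ := fun x y h => by
    simp only [φ, Prod.mk.injEq, Fin.mk.injEq, Subtype.mk.injEq] at h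
    rw [h.1] at h
    exact Subtype.ext (mul_right_cancel h.2)
  refine ⟨Finite.of_injective φ hφ, (Nat.card_le_card_of_injective φ hφ).trans ?_⟩
  rw [Nat.card_prod, Nat.card_fin]
  exact Nat.mul_le_mul_left _ hn

end CfsgLib.CosetEnum
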