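import Cfsg.Agent.Lib.CosetEnum.OutSplit

/-!
The relation on cosets of a normalizer given by products of order two in conjugate cyclic
subgroups, and automorphism groups bounded by it.
-/

set_option autoImplicit false

namespace CfsgLib.CosetEnum

variable {G : Type*} [Group G] {C : Cert} {H : Subgroup G} {gen : ℕ → G}
  {ρ : G →* Equiv.Perm (Fin C.N)}

/-- Two subgroups contain nontrivial elements whose product squares to one. -/
def PairTwo (K L : Subgroup G) : Prop :=
  ∃ a ∈ K, ∃ b ∈ L, a ≠ 1 ∧ b ≠ 1 ∧ (a * b) * (a * b) = 1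

theorem pairTwo_map (φ : G ≃* G) (K L : Subgroup G) :
    PairTwo (K.map φ.toMonoidHom) (L.map φ.toMonoidHom) ↔ PairTwo K L := by
  constructor
  · rintro ⟨_, ⟨a, ha, rfl⟩, _, ⟨b, hb, rfl⟩, ha1, hb1, hab⟩
    refine ⟨a, ha, b, hb, fun e => ha1 (by simp [e]), fun e => hb1 (by simp [e]), ?_⟩
    apply φ.injective
    simpa using hab
  · rintro ⟨a, ha, b, hb, ha1, hb1, hab⟩
    refine ⟨φ a, ⟨a, ha, rfl⟩, φ b, ⟨b, hb, rfl⟩, fun e => ha1 (φ.injective (by simpa using e)),
      fun e => hb1 (φ.injective (by simpa using e)), ?_⟩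
    rw [← map_mul, ← map_mul, hab, map_one]

theorem pairTwo_refl {a : G} (ha : a ≠ 1) : PairTwo (Subgroup.zpowers a) (Subgroup.zpowers a) :=
  ⟨a, Subgroup.mem_zpowers a, a⁻¹, inv_mem (Subgroup.mem_zpowers a), ha,
    fun e => ha (inv_eq_one.mp e), by simp⟩

/-- A member of the subgroup of an element of order three. -/
theorem eq_of_mem_zpowers_three {a x : G} (ha : a * a * a = 1)
    (hx : x ∈ Subgroup.zpowers a) : x = 1 ∨ x = a ∨ x = a⁻¹ := by
  obtain ⟨k, rfl⟩ := Subgroup.mem_zpowers_iff.mp hx
  have h3 : a ^ (3 : ℤ) = 1 := by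
    rw [show (3 : ℤ) = ((3 : ℕ) : ℤ) from rfl, zpow_natCast, pow_succ, pow_two, ha]
  have e : a ^ k = a ^ (k % 3) := by
    conv_lhs => rw [← Int.emod_add_mul_ediv k 3]
    rw [zpow_add, zpow_mul, h3, one_zpow, mul_one]
  rw [e]
  have h1 := Int.emod_nonneg k (show (3 : ℤ) ≠ 0 by norm_num)
  have h2 := Int.emod_lt_of_pos k (show (0 : ℤ) < 3 by norm_num)
  interval_cases hk : k % 3
  · left; simp
  · right; left; simp
  · right; right
    rw [show (2 : ℤ) = 3 - 1 from rfl, zpow_sub, h3, one_mul, zpow_one]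

/-- Products of order two come from one of two products. -/
theorem not_pairTwo {a b : G} (ha : a * a * a = 1) (hb : b * b * b = 1)
    (h1 : (a * b) * (a * b) ≠ 1) (h2 : (a * b⁻¹) * (a * b⁻¹) ≠ 1) :
    ¬ PairTwo (Subgroup.zpowers a) (Subgroup.zpowers b) := by
  rintro ⟨x, hx, y, hy, hx1, hy1, hxy⟩
  have flip : ∀ p q : G, (p⁻¹ * q⁻¹) * (p⁻¹ * q⁻¹) = 1 → (p * q) * (p * q) = 1 := by
    intro p q h
    have e : (p * q) * (p * q) = q⁻¹ * ((q * p) * (q * p)) * q := by group
    have h' : (q * p) * (q * p) = 1 := by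
      have := congrArg (·⁻¹) h
      simpa [mul_assoc] using this
    rw [e, h', mul_one, inv_mul_cancel]
  rcases eq_of_mem_zpowers_three ha hx with rfl | rfl | rfl
  · exact hx1 rfl
  · rcases eq_of_mem_zpowers_three hb hy with rfl | rfl | rfl
    · exact hy1 rfl
    · exact h1 hxy
    · exact h2 hxy
  · rcases eq_of_mem_zpowers_three hb hy with rfl | rfl | rfl
    · exact hy1 rfl
    · exact h2 (flip _ _ (by simpa using hxy))
    · exact h1 (flip _ _ hxy)

/-- The conjugate subgroup attached to a coset. -/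
noncomputable def conjSub (C : Cert) (gen : ℕ → G) (a : G) (x : ℕ) : Subgroup G :=
  Subgroup.zpowers (conjAt C gen a x)

theorem map_conj_zpowers (g a : G) :
    (Subgroup.zpowers a).map (MulAut.conj g).toMonoidHom = Subgroup.zpowers (g * a * g⁻¹) := by
  rw [MonoidHom.map_zpowers]; rfl

theorem Setup.conjSub_base (s : Setup C H gen ρ) (a : G) :
    conjSub C gen a s.base = Subgroup.zpowers a := by
  rw [conjSub, s.conjAt_base]

theorem conjSub_eq_map (a : G) (x : ℕ) : conjSub C gen a x =
    (Subgroup.zpowers a).map (MulAut.conj (coreRep C gen x)⁻¹).toMonoidHom := by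
  rw [map_conj_zpowers, conjSub, conjAt, inv_inv]

/-- The graph of a subgroup normalized by `H`. -/
structure Setup.SubGraph (s : Setup C H gen ρ) (a : G) (m : ℕ) : Prop where
  norm : ∀ h ∈ H, (Subgroup.zpowers a).map (MulAut.conj h).toMonoidHom = Subgroup.zpowers a
  inv : MaskInv ρ H m
  mask : ∀ z : Fin C.N, m.testBit z = true ↔ PairTwo (Subgroup.zpowers a) (conjSub C gen a z)
  distinct : ∀ z : Fin C.N, conjSub C gen a z = Subgroup.zpowers a → z = s.base

theorem Setup.conjSub_smul (s : Setup C H gen ρ) {a : G}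
    (hn : ∀ h ∈ H, (Subgroup.zpowers a).map (MulAut.conj h).toMonoidHom = Subgroup.zpowers a)
    (g : G) (x : Fin C.N) :
    (conjSub C gen a x).map (MulAut.conj g).toMonoidHom = conjSub C gen a (ρ g x) := by
  have hh := s.rep_mul_mem g x
  rw [conjSub_eq_map, conjSub_eq_map, Subgroup.map_map]
  conv_rhs => rw [← hn _ hh, Subgroup.map_map]
  congr 1
  ext y
  simp only [MonoidHom.comp_apply, MulEquiv.toMonoidHom_eq_coe, MonoidHom.coe_coe,
    MulAut.conj_apply]
  group

theorem Setup.SubGraph.pair_iff {s : Setup C H gen ρ} {a : G} {m : ℕ} (sg : s.SubGraph a m)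
    (r : s.RepWords) (x y : Fin C.N) :
    C.relB m x y = true ↔ PairTwo (conjSub C gen a x) (conjSub C gen a y) := by
  have h1 : (conjSub C gen a x).map (MulAut.conj (coreRep C gen x)).toMonoidHom =
      Subgroup.zpowers a := by
    rw [conjSub, map_conj_zpowers]
    congr 1
    simp [conjAt, mul_assoc]
  rw [← pairTwo_map (MulAut.conj (coreRep C gen x)), h1, s.conjSub_smul sg.norm, ← sg.mask,
    Cert.relB, ← s.seenFrom_eq r]

theorem Setup.SubGraph.injective {s : Setup C H gen ρ} {a : G} {m : ℕ} (sg : s.SubGraph a m)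
    {x y : Fin C.N} (h : conjSub C gen a x = conjSub C gen a y) : x = y := by
  set c := coreRep C gen x
  have h1 : (conjSub C gen a x).map (MulAut.conj c).toMonoidHom = Subgroup.zpowers a := by
    rw [conjSub, map_conj_zpowers]
    congr 1
    simp [c, conjAt, mul_assoc]
  have h2 := s.conjSub_smul sg.norm c y
  rw [← h, h1] at h2
  have e := sg.distinct _ h2.symm
  have e' : ρ c x = s.base := by
    have := s.rho_rep_inv x
    rw [map_inv, Equiv.Perm.inv_eq_iff_eq] at this
    exact this.symm
  exact (ρ c).injective (e'.trans e.symm)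

/-- The graph from suborbits with checked representatives. -/
theorem Setup.subGraph_of (s : Setup C H gen ρ) {a : G} (ha : a ≠ 1)
    (hn : ∀ h ∈ H, (Subgroup.zpowers a).map (MulAut.conj h).toMonoidHom = Subgroup.zpowers a)
    {m₀ : ℕ} {r₀ : ℕ} (o₀ : Suborbit C r₀ m₀) {others : List ℕ}
    (hcover : ∀ x < C.N, maskCover C (m₀ :: others) x = true)
    (h₀ : PairTwo (Subgroup.zpowers a) (conjSub C gen a r₀))
    (h₀' : conjSub C gen a r₀ ≠ Subgroup.zpowers a)
    (hothers : ∀ m' ∈ others, ∃ r, Suborbit C r m' ∧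
      ¬ PairTwo (Subgroup.zpowers a) (conjSub C gen a r)) :
    s.SubGraph a (1 ||| m₀) := by
  have key : ∀ {r m : ℕ} (o : Suborbit C r m) (z : Fin C.N), m.testBit z = true →
      ∃ h : G, (Subgroup.zpowers a).map (MulAut.conj h).toMonoidHom = Subgroup.zpowers a ∧
        (conjSub C gen a r).map (MulAut.conj h).toMonoidHom = conjSub C gen a z := fun {r m} o z hz => by
    obtain ⟨h, hh, e⟩ := (s.orbit_mem_iff o z).mpr hz
    exact ⟨h, hn h hh, by rw [s.conjSub_smul hn h ⟨r, o.mem.1⟩, e]⟩
  have cases' : ∀ z : Fin C.N, z = s.base ∨ m₀.testBit z = true ∨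
      ((1 ||| m₀).testBit z = false ∧ ∃ m' ∈ others, m'.testBit z = true) := by
    intro z
    by_cases hz : (z : ℕ) = 0
    · exact Or.inl (Fin.ext hz)
    right
    by_cases h0 : m₀.testBit z = true
    · exact Or.inl h0
    refine Or.inr ⟨?_, ?_⟩
    · rw [Nat.testBit_or, Bool.or_eq_false_iff]
      exact ⟨by rw [Bool.eq_false_iff]; exact fun e => hz (Nat.testBit_one_eq_true_iff_self_eq_zero.mp e),
        Bool.eq_false_iff.mpr h0⟩
    · have h := Nat.eq_of_beq_eq_true (hcover z z.2)
      have hp : 0 < (List.range ((m₀ :: others).length + 1)).countP fun i =>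
          Nat.testBit ((1 :: m₀ :: others).getD i 0) z := by omega
      obtain ⟨i, hi, hi'⟩ := List.countP_pos_iff.mp hp
      rw [List.mem_range, List.length_cons] at hi
      rcases i with _ | _ | i
      · rw [List.getD_cons_zero, Nat.testBit_one_eq_true_iff_self_eq_zero] at hi'
        exact absurd hi' hz
      · simp only [List.getD_cons_succ, List.getD_cons_zero] at hi'
        exact absurd hi' h0
      · simp only [List.getD_cons_succ] at hi'
        refine ⟨others.getD i 0, ?_, hi'⟩
        rw [List.getD_eq_getElem _ _ (by omega)]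
        exact List.getElem_mem _
  refine ⟨hn, s.maskInv_or o₀, fun z => ?_, fun z hz => ?_⟩
  · rcases cases' z with rfl | hz | ⟨hm, m', hm', hz⟩
    · rw [s.conjSub_base]
      exact iff_of_true (by simp [Setup.base, Nat.testBit_or]) (pairTwo_refl ha)
    · obtain ⟨h, ea, er⟩ := key o₀ z hz
      rw [Nat.testBit_or, hz, Bool.or_true]
      refine iff_of_true rfl ?_
      rw [← ea, ← er, pairTwo_map]
      exact h₀
    · obtain ⟨r, o, hr⟩ := hothers m' hm'
      obtain ⟨h, ea, er⟩ := key o z hz
      rw [hm]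
      refine iff_of_false (by simp) fun hp => hr ?_
      rwa [← ea, ← er, pairTwo_map] at hp
  · rcases cases' z with rfl | hz' | ⟨hm, m', hm', hz'⟩
    · rfl
    · obtain ⟨h, ea, er⟩ := key o₀ z hz'
      rw [← er] at hz
      conv_rhs at hz => rw [← ea]
      exact absurd (Subgroup.map_injective (MulAut.conj h).injective hz) h₀'
    · obtain ⟨r, o, hr⟩ := hothers m' hm'
      obtain ⟨h, ea, er⟩ := key o z hz'
      rw [← er] at hz
      conv_rhs at hz => rw [← ea]
      have e := Subgroup.map_injective (MulAut.conj h).injective hz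
      exact absurd (by rw [e]; exact pairTwo_refl ha) hr

/-- The subgroup generated by conjugates is normalized as soon as a tree reaches the images. -/
theorem Setup.conjSub_le_of_reach (s : Setup C H gen ρ) {a : G}
    (hn : ∀ h ∈ H, (Subgroup.zpowers a).map (MulAut.conj h).toMonoidHom = Subgroup.zpowers a)
    {S : Subgroup G} {ws : List (List ℕ)}
    (hws : ∀ w ∈ ws, (∀ g ∈ w, g < C.K) ∧ prodW gen w ∈ S)
    {tree : List (ℕ × ℕ)} {m m' : ℕ} (hr : reach C ws tree m = some m')
    (hm : ∀ y, m.testBit y = true → ∃ hy : y < C.N, conjSub C gen a (⟨y, hy⟩ : Fin C.N) ≤ S) :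
    ∀ y, m'.testBit y = true → ∃ hy : y < C.N, conjSub C gen a (⟨y, hy⟩ : Fin C.N) ≤ S := by
  refine reach_spec (P := fun y => ∃ hy : y < C.N, conjSub C gen a (⟨y, hy⟩ : Fin C.N) ≤ S) ?_
    tree m m' hr hm
  rintro y i hi ⟨hy, hle⟩
  have hw : ws.getD i [] ∈ ws := by
    rw [List.getD_eq_getElem _ _ hi]; exact List.getElem_mem hi
  obtain ⟨hl, hS⟩ := hws _ hw
  have ha := s.rho_prodW hl ⟨y, hy⟩
  refine ⟨ha ▸ Fin.isLt _, ?_⟩
  have e := s.conjSub_smul hn (prodW gen (ws.getD i [])) ⟨y, hy⟩
  rw [ha] at e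
  change conjSub C gen a (C.run y (C.revInv (ws.getD i []))) ≤ S
  rw [← e]
  rintro _ ⟨x, hx, rfl⟩
  exact mul_mem (mul_mem hS (hle hx)) (inv_mem hS)

/-- An automorphism can be corrected to fix the subgroup of `a`, when each element of the same
order commuting with `v` generates a conjugate of it. -/
theorem exists_inner_fix_sub [Finite G] {p : ℕ} [Fact p.Prime] {v a : G} (hv : orderOf v = p)
    (hp : ¬ p ^ 2 ∣ Nat.card G) (hcomm : Commute a v)
    (hcent : ∀ x : G, Commute x v → orderOf x = orderOf a →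
      ∃ c : G, Subgroup.zpowers (c * a * c⁻¹) = Subgroup.zpowers x) (φ : MulAut G) :
    ∃ g : G, Subgroup.zpowers (g * φ a * g⁻¹) = Subgroup.zpowers a := by
  have hsyl : ∀ u : G, orderOf u = p → ∃ P : Sylow p G, (P : Subgroup G) = Subgroup.zpowers u := by
    intro u hu
    have h1 : p ^ 1 ∣ Nat.card G := by rw [pow_one, ← hu]; exact orderOf_dvd_natCard u
    refine ⟨Sylow.ofCard (Subgroup.zpowers u) ?_, rfl⟩
    rw [Nat.card_zpowers, hu]
    conv_lhs => rw [← pow_one p]
    congr 1
    refine le_antisymm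
      (((Fact.out : p.Prime).pow_dvd_iff_le_factorization Nat.card_pos.ne').mp h1) ?_
    by_contra hc
    exact hp (((Fact.out : p.Prime).pow_dvd_iff_le_factorization Nat.card_pos.ne').mpr (by omega))
  have hconj : ∀ (g x : G), orderOf (g * x * g⁻¹) = orderOf x := fun g x => by
    rw [show g * x * g⁻¹ = MulAut.conj g x from rfl]
    exact orderOf_injective (MulAut.conj g).toMonoidHom (MulAut.conj g).injective _
  have hφ : ∀ x : G, orderOf (φ x) = orderOf x := fun x =>
    orderOf_injective φ.toMonoidHom φ.injective x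
  obtain ⟨P, hP⟩ := hsyl v hv
  obtain ⟨Q, hQ⟩ := hsyl (φ v) ((hφ v).trans hv)
  obtain ⟨g, hg⟩ := MulAction.exists_smul_eq G Q P
  have hmem : g * φ v * g⁻¹ ∈ Subgroup.zpowers v := by
    rw [← hP, ← hg, Sylow.coe_subgroup_smul, hQ]
    exact ⟨φ v, Subgroup.mem_zpowers _, rfl⟩
  have hgen : Subgroup.zpowers (g * φ v * g⁻¹) = Subgroup.zpowers v := by
    refine Subgroup.eq_of_le_of_card_ge (Subgroup.zpowers_le.mpr hmem) (le_of_eq ?_)
    rw [Nat.card_zpowers, Nat.card_zpowers, hconj, hφ]
  have hc : Commute (g * φ a * g⁻¹) v := by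
    obtain ⟨k, hk⟩ := Subgroup.mem_zpowers_iff.mp (hgen.symm ▸ Subgroup.mem_zpowers v :
      v ∈ Subgroup.zpowers (g * φ v * g⁻¹))
    rw [← hk]
    refine Commute.zpow_right ?_ k
    rw [conj_commute_iff]
    exact hcomm.map φ.toMonoidHom
  obtain ⟨c, e⟩ := hcent _ hc (by rw [hconj, hφ])
  refine ⟨c⁻¹ * g, ?_⟩
  have e2 := congrArg (fun K : Subgroup G => K.map (MulAut.conj c⁻¹).toMonoidHom) e
  simp only [map_conj_zpowers] at e2
  rw [show c⁻¹ * (c * a * c⁻¹) * c⁻¹⁻¹ = a by group] at e2
  rw [e2]
  congr 1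
  group

/-- At most two outer classes, when a tuple of conjugate subgroups is rigid. -/
theorem Setup.card_out_le_two [Finite G] (s : Setup C H gen ρ) (r : s.RepWords) {a : G} {m : ℕ}
    (sg : s.SubGraph a m) (h3 : a * a * a = 1)
    (hfix : ∀ φ : MulAut G, ∃ g : G, Subgroup.zpowers (g * φ a * g⁻¹) = Subgroup.zpowers a)
    {std : List ℕ} (hlen : 1 ≤ std.length) (hN : ∀ k < std.length, std.getD k 0 < C.N)
    (hnd : std.Nodup) {nodes : List TupNode} (hok : C.tupOK m std nodes [std] = true)
    (htop : Subgroup.closure {y | ∃ k < std.length, conjAt C gen a (std.getD k 0) = y} = ⊤)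
    (hlink : ∀ k < std.length, 0 < k → ∃ l < k,
      ((conjAt C gen a (std.getD l 0) * conjAt C gen a (std.getD k 0)) *
        (conjAt C gen a (std.getD l 0) * conjAt C gen a (std.getD k 0)) = 1) ↔
      ¬ ((conjAt C gen a (std.getD l 0) * (conjAt C gen a (std.getD k 0))⁻¹) *
        (conjAt C gen a (std.getD l 0) * (conjAt C gen a (std.getD k 0))⁻¹) = 1)) :
    Nat.card (Cfsg.Out G) ≤ 2 := by
  classical
  haveI : Finite (MulAut G) := Finite.of_injective (fun φ : MulAut G => φ.toEquiv)
    fun φ ψ h => MulEquiv.toEquiv_injective h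
  set t : ℕ → G := fun k => conjAt C gen a (std.getD k 0)
  have t3 : ∀ k, t k * t k * t k = 1 := fun k => by
    set c := coreRep C gen (std.getD k 0)
    rw [show t k = c⁻¹ * a * c from rfl,
      show c⁻¹ * a * c * (c⁻¹ * a * c) * (c⁻¹ * a * c) = c⁻¹ * (a * a * a) * c by group, h3,
      mul_one, inv_mul_cancel]
  let A := {φ : MulAut G // ∀ k < std.length,
    (conjSub C gen a (std.getD k 0)).map φ.toMonoidHom = conjSub C gen a (std.getD k 0)}
  -- an element of `A` sends every generator to itself or every one to its inverse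
  have uniform : ∀ φ : A, (∀ k < std.length, φ.1 (t k) = t k) ∨
      (∀ k < std.length, φ.1 (t k) = (t k)⁻¹) := by
    intro φ
    have each : ∀ k < std.length, φ.1 (t k) = t k ∨ φ.1 (t k) = (t k)⁻¹ := by
      intro k hk
      have hm : φ.1 (t k) ∈ conjSub C gen a (std.getD k 0) := by
        rw [← φ.2 k hk]
        exact ⟨_, Subgroup.mem_zpowers _, rfl⟩
      rcases eq_of_mem_zpowers_three (t3 k) hm with e | e | e
      · left
        rw [EmbeddingLike.map_eq_one_iff] at e
        rw [e, map_one]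
      · exact Or.inl e
      · exact Or.inr e
    have step : ∀ n, ∀ k, k ≤ n → k < std.length →
        (φ.1 (t 0) = t 0 → φ.1 (t k) = t k) ∧ (φ.1 (t 0) = (t 0)⁻¹ → φ.1 (t k) = (t k)⁻¹) := by
      intro n
      induction n with
      | zero =>
        intro k hk _
        obtain rfl : k = 0 := by omega
        exact ⟨id, id⟩
      | succ n ih =>
        intro k hk hk'
        rcases Nat.eq_zero_or_pos k with rfl | hpos
        · exact ⟨id, id⟩
        obtain ⟨l, hl, hiff⟩ := hlink k hk' hpos
        obtain ⟨i1, i2⟩ := ih l (by omega) (by omega)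
        -- the map respects which product squares to one
        have mapiff : ∀ x : G, φ.1 x * φ.1 x = 1 ↔ x * x = 1 := fun x => by
          rw [← map_mul, EmbeddingLike.map_eq_one_iff]
        have key : φ.1 (t l) = t l → φ.1 (t k) = (t k)⁻¹ → False := by
          intro el ek
          have := mapiff (t l * t k)
          rw [map_mul, el, ek] at this
          exact absurd (hiff.trans (not_congr this)) (by tauto)
        have key' : φ.1 (t l) = (t l)⁻¹ → φ.1 (t k) = t k → False := by
          intro el ek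
          have := mapiff (t l * t k)
          rw [map_mul, el, ek] at this
          have e2 : (t l)⁻¹ * t k * ((t l)⁻¹ * t k) = 1 ↔
              t l * (t k)⁻¹ * (t l * (t k)⁻¹) = 1 := by
            constructor <;> intro h
            · have := congrArg (fun z => t l * z * (t l)⁻¹) (congrArg (·⁻¹) h)
              simpa [mul_assoc] using this
            · have := congrArg (fun z => (t l)⁻¹ * z * t l) (congrArg (·⁻¹) h)
              simpa [mul_assoc] using this
          rw [e2] at this
          exact absurd (hiff.trans (not_congr this)) (by tauto)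
        refine ⟨fun h0 => ?_, fun h0 => ?_⟩
        · exact (each k hk').resolve_right fun ek => key (i1 h0) ek
        · exact (each k hk').resolve_left fun ek => key' (i2 h0) ek
    rcases each 0 (by omega) with h0 | h0
    · exact Or.inl fun k hk => (step k k le_rfl hk).1 h0
    · exact Or.inr fun k hk => (step k k le_rfl hk).2 h0
  have hA : Nat.card A ≤ 2 := by
    let ι : A → Bool := fun φ => decide (∀ k < std.length, φ.1 (t k) = t k)
    have hι : Function.Injective ι := by
      intro φ ψ e
      refine Subtype.ext (MulEquiv.ext fun x => ?_)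
      have hx : x ∈ Subgroup.closure {y | ∃ k < std.length, t k = y} := by rw [htop]; trivial
      simp only [ι, decide_eq_decide] at e
      induction hx using Subgroup.closure_induction with
      | mem y hy =>
        obtain ⟨k, hk, rfl⟩ := hy
        rcases uniform φ with hφ | hφ
        · rw [hφ k hk, (e.mp hφ) k hk]
        · rcases uniform ψ with hψ | hψ
          · rw [hψ k hk, (e.mpr hψ) k hk]
          · rw [hφ k hk, hψ k hk]
      | one => simp
      | mul x y _ _ hx hy => simp [hx, hy]
      | inv x _ hx => simp [hx]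
    exact (Nat.card_le_card_of_injective ι hι).trans (by simp)
  refine le_trans (Nat.card_le_card_of_surjective (fun φ : A => (φ.1 : Cfsg.Out G)) ?_) hA
  intro q
  obtain ⟨φ, rfl⟩ := QuotientGroup.mk_surjective q
  obtain ⟨g₀, hg₀⟩ := hfix φ
  set ψ : MulAut G := MulAut.conj g₀ * φ
  have hψa : (Subgroup.zpowers a).map ψ.toMonoidHom = Subgroup.zpowers a := by
    rw [MonoidHom.map_zpowers]; exact hg₀
  have hex : ∀ x : Fin C.N, ∃ y : Fin C.N,
      (conjSub C gen a x).map ψ.toMonoidHom = conjSub C gen a y := by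
    intro x
    refine ⟨ρ (ψ (coreRep C gen x)⁻¹) s.base, ?_⟩
    rw [← s.conjSub_smul sg.norm, s.conjSub_base, conjSub, map_conj_zpowers, MonoidHom.map_zpowers]
    conv_rhs => rw [← map_conj_zpowers, ← hψa, MonoidHom.map_zpowers, map_conj_zpowers]
    congr 1
    simp [conjAt]
  choose q hq using hex
  have : Inhabited (Fin C.N) := ⟨s.base⟩
  let p : ℕ → Fin C.N := fun k => if h : std.getD k 0 < C.N then q ⟨_, h⟩ else s.base
  have hpk : ∀ k < std.length,
      (conjSub C gen a (std.getD k 0)).map ψ.toMonoidHom = conjSub C gen a (p k) := fun k hk => by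
    simp only [p, dif_pos (hN k hk)]
    exact hq ⟨_, hN k hk⟩
  have hgood : GoodTuple C m std p := by
    intro j hj l hl
    refine ⟨fun e => ?_, ?_⟩
    · have h1 := hpk l (by omega)
      rw [e, ← hpk j hj] at h1
      have h2 := congrArg Fin.val (sg.injective (x := ⟨_, hN l (by omega)⟩) (y := ⟨_, hN j hj⟩)
        (Subgroup.map_injective ψ.injective h1))
      simp only at h2
      rw [List.getD_eq_getElem _ _ (by omega), List.getD_eq_getElem _ _ (by omega),
        hnd.getElem_inj_iff] at h2
      omega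
    · rw [Bool.eq_iff_iff, sg.pair_iff r, sg.pair_iff r ⟨_, hN l (by omega)⟩ ⟨_, hN j hj⟩,
        ← hpk l (by omega), ← hpk j hj, pairTwo_map]
  obtain ⟨g₁, hg₁⟩ := s.exists_leaf r sg.inv hok hlen hgood
  rw [List.mem_singleton] at hg₁
  refine ⟨⟨MulAut.conj g₁ * ψ, fun k hk => ?_⟩, ?_⟩
  · have e : std.getD k 0 = (ρ g₁ (p k) : ℕ) := by
      conv_lhs => rw [← hg₁]
      rw [tupPrefix, List.getD_eq_getElem _ _ (by simp; omega), List.getElem_map, List.getElem_range]
    rw [show (MulAut.conj g₁ * ψ).toMonoidHom =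
        (MulAut.conj g₁).toMonoidHom.comp ψ.toMonoidHom from rfl, ← Subgroup.map_map, hpk k hk,
      s.conjSub_smul sg.norm, ← e]
  · simp only [ψ, ← mul_assoc, ← map_mul, QuotientGroup.mk_mul]
    rw [(QuotientGroup.eq_one_iff (N := Cfsg.Inn G) (MulAut.conj (g₁ * g₀))).mpr
      (MonoidHom.mem_range.mpr ⟨g₁ * g₀, rfl⟩), one_mul]

end CfsgLib.CosetEnum
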