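import Cfsg.Agent.Lib.CosetEnum.RelGraph

/-!
A search excluding involutions preserving the relation that move every coset to a related one.
-/

set_option autoImplicit false

namespace CfsgLib.CosetEnum

/-- a decision tree: a point and the branches for its admissible images -/
inductive SwapTree where
  | nil : SwapTree
  | kid (x : ℕ) (t rest : SwapTree) : SwapTree
  | node (b : ℕ) (kids : SwapTree) : SwapTree

namespace Cert

variable (C : Cert)

/-- the stored rows are the relation -/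
noncomputable def rowsOK (m : ℕ) (rows : ℕ → ℕ) (pts : List ℕ) : Bool :=
  pts.all fun p => strict p fun p => band (ltB p C.N)
    (strict (rows p) fun r => allPts C.N fun z => strict z fun z =>
      C.relB m p z == Nat.testBit r z)

/-- the point is new -/
noncomputable def swapNew (d : List (ℕ × ℕ)) (b : ℕ) : Bool :=
  List.rec true (fun q _ ih => band (!(Nat.beq b q.1)) (band (!(Nat.beq b q.2)) ih)) d

/-- the images of `b` not excluded by the pairs -/
noncomputable def swapAvail (rows : ℕ → ℕ) (d : List (ℕ × ℕ)) (b : ℕ) : ℕ :=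
  List.rec (Nat.land (Nat.xor (Nat.shiftLeft 1 C.N - 1) (Nat.shiftLeft 1 b)) (rows b))
    (fun q _ ih => Nat.land
      (Nat.land (pick (Nat.testBit (rows q.1) b) (rows q.2)
          (Nat.xor (Nat.shiftLeft 1 C.N - 1) (rows q.2)))
        (pick (Nat.testBit (rows q.2) b) (rows q.1)
          (Nat.xor (Nat.shiftLeft 1 C.N - 1) (rows q.1))))
      (Nat.land (Nat.xor (Nat.shiftLeft 1 C.N - 1) (Nat.shiftLeft 1 q.1))
        (Nat.land (Nat.xor (Nat.shiftLeft 1 C.N - 1) (Nat.shiftLeft 1 q.2)) ih))) d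

/-- the points of a list of branches -/
noncomputable def swapMask : SwapTree → ℕ :=
  SwapTree.rec 0 (fun x _ _ _ ih => Nat.lor (Nat.shiftLeft 1 x) ih) (fun _ _ _ => 0)

/-- the points of a list of branches are among `pts` -/
noncomputable def swapKidPts (pts : List ℕ) : SwapTree → Bool :=
  SwapTree.rec true (fun x _ _ _ ih => band (pts.any (Nat.beq x)) ih) (fun _ _ _ => false)

/-- the tree is refuted (first component), the branches are refuted (second component) -/
noncomputable def swapRec (rows : ℕ → ℕ) (pts : List ℕ) :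
    SwapTree → (List (ℕ × ℕ) → Bool) × (List (ℕ × ℕ) → ℕ → Bool) :=
  SwapTree.rec (fun _ => false, fun _ _ => true)
    (fun x _ _ iht ihr => (fun _ => false, fun d b => band (iht.1 ((b, x) :: d)) (ihr.2 d b)))
    (fun b kids ih =>
      (fun d => band (pts.any (Nat.beq b)) (band (swapNew d b)
        (band (swapKidPts pts kids)
          (band (Nat.beq (Nat.lor (C.swapAvail rows d b) (swapMask kids)) (swapMask kids))
            (ih.2 d b)))), fun _ _ => false))

/-- the images of `b` allowed by the pairs all lead to a contradiction -/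
noncomputable def swapOK (rows : ℕ → ℕ) (pts : List ℕ) (t : SwapTree) : List (ℕ × ℕ) → Bool :=
  (C.swapRec rows pts t).1

end Cert

variable {G : Type*} [Group G] {C : Cert} {H : Subgroup G} {gen : ℕ → G}
  {ρ : G →* Equiv.Perm (Fin C.N)}

/-- the properties excluded by the search -/
structure IsSwap (C : Cert) (m : ℕ) (π : Equiv.Perm (Fin C.N)) : Prop where
  invol : ∀ x, π (π x) = x
  move : ∀ x, π x ≠ x
  adj : ∀ x : Fin C.N, C.relB m x (π x) = true
  rel : ∀ x y : Fin C.N, C.relB m (π x) (π y) = C.relB m x y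

theorem rowsOK_spec {m : ℕ} {rows : ℕ → ℕ} {pts : List ℕ} (h : C.rowsOK m rows pts = true)
    {p : ℕ} (hp : p ∈ pts) : p < C.N ∧ ∀ z < C.N, Nat.testBit (rows p) z = C.relB m p z := by
  simp only [Cert.rowsOK, List.all_eq_true, strict_eq, band_eq_true, ltB_iff] at h
  refine ⟨(h p hp).1, fun z hz => ?_⟩
  have h' := Cert.allPts_spec (h p hp).2 z hz
  simp only [strict_eq, beq_iff_eq] at h'
  exact h'.symm

theorem mask_step {N : ℕ} {a y : ℕ} (hy : y < N) :
    Nat.testBit (Nat.xor (Nat.shiftLeft 1 N - 1) a) y = !Nat.testBit a y := by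
  show Nat.testBit ((1 <<< N - 1) ^^^ a) y = _
  rw [Nat.testBit_xor, Nat.one_shiftLeft, Nat.testBit_two_pow_sub_one]
  simp [hy]

theorem swapAvail_of {m : ℕ} {rows : ℕ → ℕ} {pts : List ℕ} (hr : C.rowsOK m rows pts = true)
    {π : Equiv.Perm (Fin C.N)} (h : IsSwap C m π) :
    ∀ {d : List (ℕ × ℕ)} {b : ℕ} (hb : b < C.N), b ∈ pts →
      (∀ q ∈ d, q.1 ∈ pts ∧ q.2 ∈ pts ∧ ∃ p : Fin C.N, (p : ℕ) = q.1 ∧ (π p : ℕ) = q.2) →
      Cert.swapNew d b = true → Nat.testBit (C.swapAvail rows d b) (π ⟨b, hb⟩) = true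
  | [], b, hb, hbp, _, _ => by
    show Nat.testBit (Nat.xor (Nat.shiftLeft 1 C.N - 1) (Nat.shiftLeft 1 b) &&& rows b) _ = true
    rw [Nat.testBit_and, mask_step (Fin.isLt _), (rowsOK_spec hr hbp).2 _ (Fin.isLt _),
      show Nat.shiftLeft 1 b = 2 ^ b from Nat.one_shiftLeft b, Nat.testBit_two_pow]
    simp only [Bool.and_eq_true, Bool.not_eq_true', decide_eq_false_iff_not]
    exact ⟨fun e => h.move ⟨b, hb⟩ (Fin.ext e.symm), h.adj ⟨b, hb⟩⟩
  | q :: d, b, hb, hbp, hd, hn => by
    have hn' : band (!(Nat.beq b q.1)) (band (!(Nat.beq b q.2)) (Cert.swapNew d b)) = true := hn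
    simp only [band_eq_true, Bool.not_eq_true', ← Bool.not_eq_true, Nat.beq_eq] at hn'
    obtain ⟨n1, n2, n3⟩ := hn'
    rw [List.forall_mem_cons] at hd
    obtain ⟨⟨hp1, hp2, p, e1, e2⟩, hd⟩ := hd
    have r1 := (rowsOK_spec hr hp1).2
    have r2 := (rowsOK_spec hr hp2).2
    have hy : (π ⟨b, hb⟩ : ℕ) < C.N := Fin.isLt _
    show Nat.testBit ((pick _ _ _ &&& pick _ _ _) &&& (_ &&& (_ &&& C.swapAvail rows d b))) _ = true
    simp only [Nat.testBit_and, Bool.and_eq_true]
    refine ⟨⟨?_, ?_⟩, ?_, ?_, swapAvail_of hr h hb hbp hd n3⟩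
    · have e := h.rel p ⟨b, hb⟩
      rw [e1, e2] at e
      rw [r1 b hb]
      cases hc : C.relB m q.1 b
      · rw [pick_false, mask_step hy, r2 _ hy, e]; simp [hc]
      · rw [pick_true, r2 _ hy, e]; exact hc
    · have e := h.rel (π p) ⟨b, hb⟩
      rw [h.invol, e1, e2] at e
      rw [r2 b hb]
      cases hc : C.relB m q.2 b
      · rw [pick_false, mask_step hy, r1 _ hy, e]; simp [hc]
      · rw [pick_true, r1 _ hy, e]; exact hc
    · rw [mask_step hy, show Nat.shiftLeft 1 q.1 = 2 ^ q.1 from Nat.one_shiftLeft _,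
        Nat.testBit_two_pow]
      simp only [Bool.not_eq_true', decide_eq_false_iff_not]
      intro e
      have : π ⟨b, hb⟩ = p := Fin.ext (e.symm.trans e1.symm)
      exact n2 (by rw [← e2, ← this, h.invol])
    · rw [mask_step hy, show Nat.shiftLeft 1 q.2 = 2 ^ q.2 from Nat.one_shiftLeft _,
        Nat.testBit_two_pow]
      simp only [Bool.not_eq_true', decide_eq_false_iff_not]
      intro e
      have : π ⟨b, hb⟩ = π p := Fin.ext (e.symm.trans e2.symm)
      exact n1 (by rw [← e1, ← π.injective this])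

/-- the branch predicate -/
def SwapGood (C : Cert) (rows : ℕ → ℕ) (pts : List ℕ) (π : Equiv.Perm (Fin C.N)) (t : SwapTree) :
    Prop :=
  ∀ d : List (ℕ × ℕ),
    (∀ q ∈ d, q.1 ∈ pts ∧ q.2 ∈ pts ∧ ∃ p : Fin C.N, (p : ℕ) = q.1 ∧ (π p : ℕ) = q.2) →
    C.swapOK rows pts t d = true → False

theorem swapRec_spec {m : ℕ} {rows : ℕ → ℕ} {pts : List ℕ} (hr : C.rowsOK m rows pts = true)
    {π : Equiv.Perm (Fin C.N)} (h : IsSwap C m π) (t : SwapTree) :
    SwapGood C rows pts π t ∧ ∀ (d : List (ℕ × ℕ)) (b : ℕ) (hb : b < C.N), b ∈ pts →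
      (∀ q ∈ d, q.1 ∈ pts ∧ q.2 ∈ pts ∧ ∃ p : Fin C.N, (p : ℕ) = q.1 ∧ (π p : ℕ) = q.2) →
      Cert.swapKidPts pts t = true → Nat.testBit (Cert.swapMask t) (π ⟨b, hb⟩) = true →
      (C.swapRec rows pts t).2 d b = true → False := by
  induction t with
  | nil =>
    refine ⟨fun _ _ e => Bool.false_ne_true e, fun _ _ _ _ _ _ hm _ => ?_⟩
    have hm' : Nat.testBit 0 _ = true := hm
    simp at hm'
  | kid x t rest iht ihr =>
    refine ⟨fun _ _ e => Bool.false_ne_true e, fun d b hb hbp hd hk hm hok => ?_⟩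
    have hk' : band (pts.any (Nat.beq x)) (Cert.swapKidPts pts rest) = true := hk
    have hok' : band (C.swapOK rows pts t ((b, x) :: d)) ((C.swapRec rows pts rest).2 d b) = true :=
      hok
    have hm' : Nat.testBit ((1 <<< x) ||| Cert.swapMask rest) (π ⟨b, hb⟩) = true := hm
    simp only [band_eq_true, List.any_eq_true] at hk' hok'
    rw [Nat.testBit_or, Bool.or_eq_true, Nat.one_shiftLeft, Nat.testBit_two_pow,
      decide_eq_true_eq] at hm'
    rcases hm' with e | e
    · obtain ⟨x', hx', exx⟩ := hk'.1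
      refine iht.1 _ ?_ hok'.1
      rw [List.forall_mem_cons]
      exact ⟨⟨hbp, (Nat.eq_of_beq_eq_true exx) ▸ hx', ⟨b, hb⟩, rfl, e.symm⟩, hd⟩
    · exact ihr.2 d b hb hbp hd hk'.2 e hok'.2
  | node b kids ih =>
    refine ⟨fun d hd hok => ?_, fun _ _ _ _ _ hk _ _ => Bool.false_ne_true hk⟩
    have hok' : band (pts.any (Nat.beq b)) (band (Cert.swapNew d b)
        (band (Cert.swapKidPts pts kids)
          (band (Nat.beq (Nat.lor (C.swapAvail rows d b) (Cert.swapMask kids)) (Cert.swapMask kids))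
            ((C.swapRec rows pts kids).2 d b)))) = true := hok
    simp only [band_eq_true, List.any_eq_true] at hok'
    obtain ⟨⟨b', hb', ebb⟩, hn, hkp, heq, hkids⟩ := hok'
    obtain rfl := Nat.eq_of_beq_eq_true ebb
    have hb := (rowsOK_spec hr hb').1
    refine ih.2 d b hb hb' hd hkp ?_ hkids
    rw [← Nat.eq_of_beq_eq_true heq]
    show Nat.testBit (C.swapAvail rows d b ||| _) _ = true
    rw [Nat.testBit_or, swapAvail_of hr h hb hb' hd hn, Bool.true_or]

theorem swapOK_spec {m : ℕ} {rows : ℕ → ℕ} {pts : List ℕ} (hr : C.rowsOK m rows pts = true)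
    {π : Equiv.Perm (Fin C.N)} (h : IsSwap C m π) (t : SwapTree) :
    SwapGood C rows pts π t :=
  (swapRec_spec hr h t).1

end CfsgLib.CosetEnum
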