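import Cfsg.Agent.Lib.CosetEnum.Use

/-!
Groups presented on two generators, the first an involution, by lists of words.
-/

set_option autoImplicit false

namespace CfsgLib.CosetEnum

/-- The letters: `0` and `1` the generators, `2` the inverse of the second. -/
def twoFree : ℕ → FreeGroup (Fin 2)
  | 0 => FreeGroup.of 0
  | 1 => FreeGroup.of 1
  | 2 => (FreeGroup.of 1)⁻¹
  | _ => 1

/-- the relators -/
def twoRels (R : List (List ℕ)) : Set (FreeGroup (Fin 2)) :=
  {x | ∃ w ∈ R, prodW twoFree w = x}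

/-- The presented group. -/
abbrev TwoGen (R : List (List ℕ)) : Type := PresentedGroup (twoRels R)

/-- its letters -/
def twoGen (R : List (List ℕ)) (i : ℕ) : TwoGen R := PresentedGroup.mk (twoRels R) (twoFree i)

theorem twoGen_rel {R : List (List ℕ)} {w : List ℕ} (hw : w ∈ R) :
    prodW (twoGen R) w = 1 := by
  unfold twoGen
  rw [← map_prodW]
  exact PresentedGroup.one_of_mem ⟨w, hw, rfl⟩

/-- the checks on a certificate for the presented group -/
def twoOK (R : List (List ℕ)) (C : Cert) : Bool :=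
  decide (C.K = 3) && C.invs == [0, 2, 1] && C.rels == R && R.contains [0, 0]

theorem twoModel {R : List (List ℕ)} {C : Cert} (h : twoOK R C = true) :
    Model C (Subgroup.closure {y | ∃ w ∈ C.subs, prodW (twoGen R) w = y}) (twoGen R) := by
  simp only [twoOK, Bool.and_eq_true, decide_eq_true_eq, beq_iff_eq, List.contains_iff_mem] at h
  obtain ⟨⟨⟨hK, hinv⟩, hrels⟩, hsq⟩ := h
  refine ⟨by rw [hK]; rfl, fun g => ?_,
    fun r hr => twoGen_rel (hrels ▸ hr), fun w hw => Subgroup.subset_closure ⟨w, hw, rfl⟩⟩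
  have h0 : twoGen R 0 * twoGen R 0 = 1 := by simpa using twoGen_rel hsq
  rw [Cert.inv, hinv]
  match g with
  | 0 => exact h0
  | 1 => change PresentedGroup.mk _ (twoFree 1) * PresentedGroup.mk _ (twoFree 2) = 1
         rw [← map_mul]; simp [twoFree]
  | 2 => change PresentedGroup.mk _ (twoFree 2) * PresentedGroup.mk _ (twoFree 1) = 1
         rw [← map_mul]; simp [twoFree]
  | n + 3 => simp [twoGen, twoFree]

theorem twoGen_top {R : List (List ℕ)} {C : Cert} (h : twoOK R C = true) :
    Subgroup.closure {y | ∃ g < C.K, twoGen R g = y} = ⊤ := by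
  simp only [twoOK, Bool.and_eq_true, decide_eq_true_eq] at h
  rw [eq_top_iff, ← PresentedGroup.closure_range_of (twoRels R), Subgroup.closure_le]
  rintro y ⟨i, rfl⟩
  refine Subgroup.subset_closure ⟨i, by rw [h.1.1.1]; omega, ?_⟩
  fin_cases i <;> rfl

/-- A homomorphism out of the presented group, from images satisfying the relators. -/
theorem exists_twoHom {R : List (List ℕ)} {P : Type*} [Group P] (gen : ℕ → P)
    (h2 : gen 2 = (gen 1)⁻¹) (hhigh : ∀ n, gen (n + 3) = 1)
    (hrel : ∀ w ∈ R, prodW gen w = 1) :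
    ∃ φ : TwoGen R →* P, ∀ g, φ (twoGen R g) = gen g := by
  let f : Fin 2 → P := fun i => gen i
  have hf : ∀ g, FreeGroup.lift f (twoFree g) = gen g := by
    intro g
    match g with
    | 0 => simp [twoFree, f]
    | 1 => simp [twoFree, f]
    | 2 => simp [twoFree, f, h2]
    | n + 3 => simp [twoFree, hhigh]
  have hall : ∀ r ∈ twoRels R, FreeGroup.lift f r = 1 := by
    rintro r ⟨w, hw, rfl⟩
    rw [map_prodW]
    simp only [hf]
    exact hrel w hw
  refine ⟨PresentedGroup.toGroup hall, fun g => ?_⟩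
  change PresentedGroup.toGroup hall (PresentedGroup.mk _ (twoFree g)) = _
  match g with
  | 0 => exact PresentedGroup.toGroup.of (x := (0 : Fin 2)) hall
  | 1 => exact PresentedGroup.toGroup.of (x := (1 : Fin 2)) hall
  | 2 =>
    change PresentedGroup.toGroup hall (PresentedGroup.mk _ (FreeGroup.of 1)⁻¹) = _
    rw [map_inv, map_inv, h2]
    exact congrArg _ (PresentedGroup.toGroup.of (x := (1 : Fin 2)) hall)
  | n + 3 => simp [twoFree, hhigh]

theorem exists_twoAction {R : List (List ℕ)} {C : Cert} (h : twoOK R C = true) (c : C.Complete)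
    (a : C.IsAction) :
    ∃ ρ : TwoGen R →* Equiv.Perm (Fin C.N), ∀ g < C.K, ρ (twoGen R g) = letterPerm c a g := by
  simp only [twoOK, Bool.and_eq_true, decide_eq_true_eq, beq_iff_eq, List.contains_iff_mem] at h
  obtain ⟨⟨⟨hK, hinv⟩, hrels⟩, hsq⟩ := h
  let L : ℕ → Equiv.Perm (Fin C.N) := fun g => if g < 3 then letterPerm c a g else 1
  have hL : ∀ g < C.K, L g = letterPerm c a g := fun g hg => by
    simp only [L]; rw [if_pos (by omega)]
  have h2 : L 2 = (L 1)⁻¹ := by
    refine eq_inv_of_mul_eq_one_left (Equiv.ext fun x => Fin.ext ?_)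
    rw [Equiv.Perm.mul_apply, hL 2 (by omega), hL 1 (by omega),
      letterPerm_apply c a (by omega), letterPerm_apply c a (by omega)]
    have e1 : C.inv 1 = 2 := by simp [Cert.inv, hinv]
    have e2 : C.inv 2 = 1 := by simp [Cert.inv, hinv]
    have := (a.T_lt x.2 (show 2 < C.K by omega)).2
    rw [e1, e2] at *
    exact this
  obtain ⟨φ, hφ⟩ := exists_twoHom (R := R) L h2 (fun n => by simp [L]) (fun w hw => by
    have hl := a.sub
    simp only [Cert.ndOK, Bool.and_eq_true, List.all_eq_true, Nat.blt_eq] at hl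
    rw [prodW_congr (gen' := letterPerm c a) fun g hg => hL g (hl.2 w (hrels.symm ▸ hw) g hg)]
    exact prodW_letterPerm_rel c a w (hrels.symm ▸ hw))
  exact ⟨φ, fun g hg => by rw [hφ, hL g hg]⟩

/-- A subgroup generated by one word of known exponent. -/
theorem card_closure_single {G : Type*} [Group G] {gen : ℕ → G} {ws : List (List ℕ)} {w : List ℕ}
    (hws : ws = [w]) {n : ℕ} (hn : 0 < n) (hw : prodW gen w ^ n = 1) :
    Finite (Subgroup.closure {y | ∃ v ∈ ws, prodW gen v = y}) ∧
      Nat.card (Subgroup.closure {y | ∃ v ∈ ws, prodW gen v = y}) ≤ n := by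
  have e : {y | ∃ v ∈ ws, prodW gen v = y} = {prodW gen w} := by
    subst hws
    ext y
    simp [eq_comm]
  rw [e, ← Subgroup.zpowers_eq_closure]
  have hfin : IsOfFinOrder (prodW gen w) := isOfFinOrder_iff_pow_eq_one.mpr ⟨n, hn, hw⟩
  haveI : Finite (Subgroup.zpowers (prodW gen w)) :=
    (finite_zpowers (a := prodW gen w)).mpr hfin |>.to_subtype
  refine ⟨inferInstance, ?_⟩
  rw [Nat.card_zpowers]
  exact Nat.le_of_dvd hn (orderOf_dvd_of_pow_eq_one hw)

end CfsgLib.CosetEnum
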