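import Cfsg.Agent.Lib.CosetEnum.Chunks

/-!
A long check cut into eight pieces, so that each kernel computation stays small.
-/

set_option autoImplicit false

namespace CfsgLib.CosetEnum

theorem allUp_split (f : ℕ → Bool) (k b : ℕ) :
    allUp f (k + 1) b = band (allUp f k b) (allUp f k (b + 2 ^ k)) := by
  change strict b (fun b => band (allUp f k b) (allUp f k (b + 2 ^ k))) = _
  rw [strict_eq]

theorem allUp_of_eight {f : ℕ → Bool} {k : ℕ} (h : ∀ j < 8, allUp f k (j * 2 ^ k) = true) :
    allUp f (k + 3) 0 = true := by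
  have hall := allUp_blocks (n := 8) h
  suffices H : ∀ m b : ℕ, (∀ i, b ≤ i → i < b + 2 ^ m → f i = true) → allUp f m b = true by
    refine H _ 0 fun i _ hi => hall i ?_
    rw [Nat.zero_add, pow_add] at hi
    omega
  intro m
  induction m with
  | zero => exact fun b hb => hb b le_rfl (by simp)
  | succ m ih =>
    intro b hb
    rw [allUp_split, band_eq_true]
    have hp : 2 ^ (m + 1) = 2 ^ m + 2 ^ m := by rw [pow_succ, mul_two]
    exact ⟨ih b fun i h1 h2 => hb i h1 (by omega), ih _ fun i h1 h2 => hb i (by omega) (by omega)⟩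

end CfsgLib.CosetEnum
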